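import Cfsg.Agent.H37.Twist.Fixed
import Cfsg.Agent.H37.Tits.Simple

/-!
Consequences in the form of the statements: `BNPair`, homomorphism of `N`, core, perfectness,
simplicity.
-/
set_option autoImplicit false

namespace Cfsg.Agent.H37.Twist.Model

open Cfsg.Lie Cfsg.Agent.H37.RootSys Cfsg.Agent.H37.NormalForm
open scoped commutatorElement

variable {D : ChevalleyDatum} {K : Type*} [Field K] {Q : Chev.Data D K} {E : Endo Q}
  {W' : Type*} [Group W'] {Φ : Fold E W'} (Md : Model Φ) [Finite K]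

theorem card_inf_eq (L : Subgroup (GL D.Idx K)) :
    Nat.card ↥(L ⊓ Md.T) = Nat.card ↥(L.subgroupOf Md.T) := by
  rw [← Subgroup.inf_subgroupOf_right,
    Nat.card_congr (Subgroup.subgroupOfEquivOfLe inf_le_right).toEquiv]

theorem exists_BNPair : ∃ P : Cfsg.BNPair ↥Md.T,
    P.B = (D.borelSubgroup K ⊓ Md.T).subgroupOf Md.T ∧
    P.N = (D.monomialSubgroup K ⊓ Md.T).subgroupOf Md.T := by
  refine ⟨Md.tw.pair, ?_, ?_⟩
  · rw [Tits.Ambient.pair_B, Md.tw_B, Subgroup.inf_subgroupOf_right]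
  · rw [Tits.Ambient.pair_N, Md.tw_N, Subgroup.inf_subgroupOf_right]

theorem card_U_inf : Nat.card ↥(D.posUnipotent K ⊓ Md.T) ^ Md.e = Nat.card K ^ (D.nroots / 2) := by
  rw [Md.card_inf_eq, ← Md.tw_U]
  exact Md.card_tw_U

theorem exists_weylHom : ∃ φ : ↥(D.monomialSubgroup K ⊓ Md.T) →* W', Function.Surjective φ ∧
    φ.ker = (D.diagonalSubgroup K ⊓ Md.T).subgroupOf (D.monomialSubgroup K ⊓ Md.T) := by
  have hN : Md.tw.N = (D.monomialSubgroup K ⊓ Md.T).subgroupOf Md.T := by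
    rw [Md.tw_N, Subgroup.inf_subgroupOf_right]
  let e : ↥(D.monomialSubgroup K ⊓ Md.T) ≃* ↥Md.tw.N :=
    (Subgroup.subgroupOfEquivOfLe inf_le_right).symm.trans (MulEquiv.subgroupCongr hN.symm)
  refine ⟨Md.tw.weylHom.comp e.toMonoidHom,
    Md.tw.weylHom_surjective.comp e.surjective, ?_⟩
  ext g
  rw [← MonoidHom.comap_ker, Tits.Ambient.weylHom_ker, Md.tw_H, Subgroup.mem_comap,
    Subgroup.mem_subgroupOf, Subgroup.mem_subgroupOf, Subgroup.mem_subgroupOf]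
  exact ⟨fun h => ⟨h, g.2.2⟩, fun h => h.1⟩

variable (hfaith : ∀ h ∈ Q.sys.H, E.σ h = h →
  (∀ v ∈ Q.sys.U, E.σ v = v → h * v = v * h) → h = 1)

include hfaith in
theorem tw_faithful (h : ↥Md.T) (hh : h ∈ Md.tw.H)
    (hc : ∀ u ∈ Md.tw.U, h * u = u * h) : h = 1 := by
  obtain ⟨x, hx, rfl⟩ := hh
  have hx1 : (x : ↥(D.group K)) = 1 := by
    refine hfaith _ hx x.2 fun v hv hvf => ?_
    have := hc (Md.iso ⟨v, hvf⟩) ⟨⟨v, hvf⟩, hv, rfl⟩
    rw [show Md.iso.toMonoidHom x = Md.iso x from rfl, ← map_mul, ← map_mul] at this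
    exact congrArg Subtype.val (Md.iso.injective this)
  rw [show x = 1 from Subtype.ext hx1, map_one]

include hfaith in
theorem core_eq_bot :
    ((D.borelSubgroup K ⊓ Md.T).subgroupOf Md.T).normalCore = ⊥ := by
  rw [Subgroup.inf_subgroupOf_right, ← Md.tw_B]
  exact Md.tw.core_eq_bot Md.tw_Uw_w0 (Md.tw_faithful hfaith)

theorem solvable_B : Group.IsSolvable Md.tw.B := by
  haveI := Q.solvable_borel
  rw [Md.tw_B]
  exact Group.isSolvable_of_isSolvable_injective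
    (f := ({ toFun := fun g => ⟨(g : ↥Md.T), g.2⟩
             map_one' := rfl
             map_mul' := fun _ _ => rfl } :
        ↥((D.borelSubgroup K).subgroupOf Md.T) →* ↥(D.borelSubgroup K)))
    fun a b h => Subtype.ext (Subtype.ext (congrArg (fun y : ↥(D.borelSubgroup K) => (y : GL D.Idx K)) h))

theorem commutator_eq_top (h : fixedPts E.σ ≤ ⁅fixedPts E.σ, fixedPts E.σ⁆) :
    commutator ↥Md.T = ⊤ := by
  have h1 : commutator ↥(fixedPts E.σ) = ⊤ := by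
    rw [eq_top_iff]
    intro g _
    have h2 : (⁅fixedPts E.σ, fixedPts E.σ⁆ : Subgroup ↥(D.group K))
        = (commutator ↥(fixedPts E.σ)).map (fixedPts E.σ).subtype := by
      rw [commutator_def, Subgroup.map_commutator, ← MonoidHom.range_eq_map,
        Subgroup.range_subtype]
    obtain ⟨g', hg', e⟩ := h2 ▸ h g.2
    rwa [← Subtype.ext (a1 := g') (a2 := g) e]
  have h3 := congrArg (Subgroup.map Md.iso.toMonoidHom) h1
  rw [commutator_def, Subgroup.map_commutator,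
    Subgroup.map_top_of_surjective _ Md.iso.surjective] at h3
  rw [commutator_def]
  exact h3

include Md in
/-- All fixed elements are in the commutator subgroup once the basic pieces are. -/
theorem fixed_le_commutator {G0 : Set ↥(D.group K)}
    (hgen : fixedPts E.σ ≤ Subgroup.closure G0)
    (hG0 : ∀ g ∈ G0, ∃ j, ∃ m ∈ fixedPts E.σ, ∃ v ∈ Q.sys.Uw (Φ.ι (Φ.gens j)),
      E.σ v = v ∧ g = m * v * m⁻¹)
    (hbase : ∀ j, ∀ v ∈ Q.sys.Uw (Φ.ι (Φ.gens j)), E.σ v = v →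
      v ∈ ⁅fixedPts E.σ, fixedPts E.σ⁆) :
    fixedPts E.σ ≤ ⁅fixedPts E.σ, fixedPts E.σ⁆ := by
  refine hgen.trans ((Subgroup.closure_le _).2 fun g hg => ?_)
  obtain ⟨j, m, hm, v, hv, hvf, rfl⟩ := hG0 g hg
  have hc := hbase j v hv hvf
  rw [show m * v * m⁻¹ = ⁅m, v⁆ * v by rw [commutatorElement_def]; group]
  exact mul_mem (Subgroup.commutator_mem_commutator hm (show v ∈ fixedPts E.σ from hvf)) hc

include hfaith in
theorem simple
    (hirr : ∀ J ⊆ Set.range Φ.gens, J.Nonempty → (Set.range Φ.gens \ J).Nonempty →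
      ∃ s ∈ J, ∃ t ∈ Set.range Φ.gens \ J, s * t ≠ t * s)
    (hperf : commutator ↥Md.T = ⊤) :
    IsSimpleGroup ↥Md.T ∧ ¬ IsMulCommutative ↥Md.T := by
  refine Md.tw.isSimpleGroup ?_ Md.tw_Uw_w0 (Md.tw_faithful hfaith) hirr Md.solvable_B hperf
  intro h
  have h1 := Md.card_tw_U
  rw [h, Subgroup.card_bot, one_pow] at h1
  have hN : 0 < D.nroots / 2 := by
    have := (Q.X.good.simple_spec (i := 0) (Q.rank_eq ▸ Q.ord.rank_pos))
    omega
  have := Nat.one_lt_pow (n := D.nroots / 2) (by omega) (Finite.one_lt_card (α := K))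
  omega

include Md in
/-- A fixed element moved into a basic subgroup by a fixed representative. -/
theorem neg_piece (j : Fin Φ.k) {A : Set ℕ}
    (hA : ∀ r ∈ A, ∃ hr : r < D.nroots, (Q.X.good.hom (Φ.ι (Φ.gens j)) ⟨r, hr⟩).val
      ∈ (↑(Sys.flip Q.X.good (Φ.ι (Φ.gens j))) : Set ℕ))
    {g : ↥(D.group K)} (hg : g ∈ XS Q.sys.x A) (hgf : E.σ g = g) :
    ∃ m ∈ fixedPts E.σ, ∃ v ∈ Q.sys.Uw (Φ.ι (Φ.gens j)),
      E.σ v = v ∧ g = m * v * m⁻¹ := by
  set s := Φ.ι (Φ.gens j)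
  have hmf : E.σ (Md.rep s) = Md.rep s := Md.TG_fixed (Md.rep_mem _)
  obtain ⟨k, hk, e⟩ := Md.rep_spec s
  obtain ⟨l, hl, e'⟩ := Q.sys.rep_inv s
  have hs : s⁻¹ = s := inv_eq_of_mul_eq_one_right (by
    show Φ.ι _ * Φ.ι _ = 1
    rw [← map_mul, Φ.sq_gens, map_one])
  rw [hs] at e'
  have hm' : ∃ k' ∈ Q.sys.H, (Md.rep s)⁻¹ = k' * Q.sys.rep s :=
    ⟨l * (Q.sys.rep s * k⁻¹ * (Q.sys.rep s)⁻¹),
      mul_mem hl (Q.sys.rep_conj_H s (inv_mem hk)), by
        calc (Md.rep s)⁻¹ = (Q.sys.rep s)⁻¹ * k⁻¹ := by rw [e, mul_inv_rev]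
          _ = l * Q.sys.rep s * k⁻¹ := by rw [e']
          _ = _ := by group⟩
  refine ⟨Md.rep s, hmf, (Md.rep s)⁻¹ * g * ((Md.rep s)⁻¹)⁻¹,
    Q.sys.conj_image s hm' hA hg, ?_, by group⟩
  simp only [map_mul, map_inv, hmf, hgf]

/-- A fixed representative carries root elements to root elements. -/
theorem rep_move (a : W') {r : ℕ} (hr : r < D.nroots) (t : K) :
    ∃ t', Md.rep (Φ.ι a) * xG Q.K K r t * (Md.rep (Φ.ι a))⁻¹
      = xG Q.K K (Q.X.good.hom (Φ.ι a) ⟨r, hr⟩).val t' := by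
  obtain ⟨k, hk, e⟩ := Md.rep_spec (Φ.ι a)
  obtain ⟨t1, e1⟩ := Q.sys.rep_conj (Φ.ι a) r hr t
  obtain ⟨t2, e2⟩ := Q.sys.h_conj k hk _ (Fin.isLt _) t1
  refine ⟨t2, ?_⟩
  rw [e]
  refine Eq.trans ?_ e2
  rw [← e1]
  show k * Q.sys.rep (Φ.ι a) * Q.sys.x r t * (k * Q.sys.rep (Φ.ι a))⁻¹ = _
  group

end Cfsg.Agent.H37.Twist.Model
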