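import Cfsg.Agent.H37.Twist.Fixed

/-!
Checks and lemmas on a single orbit of fundamental roots: the closure of its reflections, its
inverted roots, coordinates, fixed elements, orthogonal products.
-/
set_option autoImplicit false

namespace Cfsg.Agent.H37.Twist

open Cfsg.Lie Cfsg.Agent.H37.RootSys Cfsg.Agent.H37.NormalForm

/-- The positive roots made negative by a word. -/
def flipList (C : Weyl.Cert) (D : ChevalleyDatum) (w : List ℕ) : List ℕ :=
  (List.range D.nroots).filter fun r =>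
    decide (D.nroots / 2 ≤ r) && decide (C.act w r < D.nroots / 2)

/-- The words `cls` exhaust the group of the letters of `w`, and only two of them are fixed. -/
def orbitB (C : Weyl.Cert) (D : ChevalleyDatum) (n : ℕ) (T : Tables) (w : List ℕ)
    (cls : List (List ℕ)) : Bool :=
  (w.all fun a => decide (a < n)) &&
  (cls.all fun v => v.all fun a => decide (a < n)) &&
  (cls.any fun v => (List.range D.nroots).all fun r => C.act v r == r) &&
  (w.all fun a => cls.all fun v => cls.any fun v' =>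
    (List.range D.nroots).all fun r => C.act (a :: v) r == C.act v' r) &&
  (cls.all fun v =>
    ((List.range D.nroots).all fun r => C.act v r == r) ||
    ((List.range D.nroots).all fun r => C.act v r == C.act w r) ||
    ((List.range D.nroots).any fun r => !(C.act v (T.rh r) == T.rh (C.act v r))))

/-- The root elements of a list pairwise commute. -/
def commB (D : ChevalleyDatum) (L : List ℕ) : Bool :=
  L.all fun r => decide (r < D.nroots) && L.all fun s =>
    (s == r) || (!(s == D.neg r) && (D.commTerms r s).isEmpty)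

/-- Crosswise commutation of two roots and their opposites. -/
def orthB (D : ChevalleyDatum) (a b : ℕ) : Bool :=
  commB D [a, b] && commB D [a, D.neg b] && commB D [D.neg a, b] && commB D [D.neg a, D.neg b]

variable {n : ℕ} {M : CoxeterMatrix (Fin n)} {C : Weyl.Cert} {D : ChevalleyDatum}
  (hC : Weyl.Good C D M)

theorem flip_word {w : List ℕ} (hw : ∀ a ∈ w, a < n) :
    Sys.flip hC (Weyl.wOf M w) = (flipList C D w).toFinset := by
  ext r
  simp only [Sys.mem_flip, flipList, List.mem_toFinset, List.mem_filter, List.mem_range,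
    Bool.and_eq_true, decide_eq_true_eq]
  constructor
  · rintro ⟨h1, h2, h3⟩
    rw [hC.hom_wOf_val hw] at h3
    exact ⟨h1, h2, h3⟩
  · rintro ⟨h1, h2, h3⟩
    refine ⟨h1, h2, ?_⟩
    rw [hC.hom_wOf_val hw]
    exact h3

theorem flipList_sorted (w : List ℕ) : (flipList C D w).Pairwise (· < ·) :=
  List.Pairwise.filter _ List.pairwise_lt_range

theorem orbit_of_check (s : Sigma hC) {w : List ℕ} {cls : List (List ℕ)}
    (h : orbitB C D n s.T w cls = true) {c : M.Group}
    (hc : c ∈ Subgroup.closure {x | x ∈ w.map (Weyl.gen M)}) (hfix : s.tau c = c) :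
    c = 1 ∨ c = Weyl.wOf M w := by
  simp only [orbitB, Bool.and_eq_true, List.all_eq_true, List.any_eq_true, decide_eq_true_eq,
    List.mem_range, beq_iff_eq, Bool.or_eq_true, Bool.not_eq_true', beq_eq_false_iff_ne] at h
  obtain ⟨⟨⟨⟨hw, hcls⟩, h1⟩, hstep⟩, hfin⟩ := h
  have hext : ∀ {v v' : List ℕ}, (∀ a ∈ v, a < n) → (∀ a ∈ v', a < n) →
      (∀ r < D.nroots, C.act v r = C.act v' r) → Weyl.wOf M v = Weyl.wOf M v' := by
    intro v v' hv hv' e
    refine hC.hom_injective (Equiv.ext fun r => Fin.ext ?_)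
    rw [hC.hom_wOf_val hv, hC.hom_wOf_val hv', e r.val r.isLt]
  have hnil : ∀ r, C.act [] r = r := fun r => rfl
  obtain ⟨v, hv, rfl⟩ : ∃ v ∈ cls, c = Weyl.wOf M v := by
    have key : ∀ a ∈ w, ∀ v ∈ cls,
        ∃ v' ∈ cls, Weyl.gen M a * Weyl.wOf M v = Weyl.wOf M v' := by
      intro a ha v hv
      obtain ⟨v', hv', e⟩ := hstep a ha v hv
      refine ⟨v', hv', ?_⟩
      rw [← Weyl.wOf_cons]
      exact hext (fun b hb => by
        rcases List.mem_cons.1 hb with rfl | hb
        · exact hw _ ha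
        · exact hcls v hv b hb) (hcls v' hv') e
    clear hfix
    induction hc using Subgroup.closure_induction_left with
    | one =>
        obtain ⟨v, hv, e⟩ := h1
        exact ⟨v, hv, Weyl.wOf_nil.symm.trans
          (hext (v := []) (by simp) (hcls v hv) fun r hr => by rw [hnil, e r hr])⟩
    | mul_left x hx y _ ih =>
        obtain ⟨a, ha, rfl⟩ := List.mem_map.1 hx
        obtain ⟨v, hv, rfl⟩ := ih
        exact key a ha v hv
    | inv_mul_cancel x hx y _ ih =>
        obtain ⟨a, ha, rfl⟩ := List.mem_map.1 hx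
        obtain ⟨v, hv, rfl⟩ := ih
        rw [Weyl.gen_inv]
        exact key a ha v hv
  rcases hfin v hv with (e | e) | ⟨r, hr, hne⟩
  · exact Or.inl ((hext (hcls v hv) (v' := []) (by simp) fun r hr => by
      rw [e r hr, hnil]).trans Weyl.wOf_nil)
  · exact Or.inr (hext (hcls v hv) hw e)
  · exfalso
    apply hne
    have := (s.tau_eq_iff _).1 hfix ⟨r, hr⟩
    rwa [hC.hom_wOf_val (hcls v hv), hC.hom_wOf_val (hcls v hv)] at this

/-- `(a₁ m₁ a₁)(a₂ m₂ a₂)` for commuting pieces. -/
theorem triple_mul {G : Type*} [Group G] {a₁ m₁ a₂ m₂ : G} (h1 : Commute a₁ a₂)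
    (h2 : Commute a₁ m₂) (h3 : Commute m₁ a₂) :
    a₁ * m₁ * a₁ * (a₂ * m₂ * a₂) = a₁ * a₂ * (m₁ * m₂) * (a₁ * a₂) := by
  calc a₁ * m₁ * a₁ * (a₂ * m₂ * a₂) = a₁ * m₁ * (a₁ * a₂) * (m₂ * a₂) := by group
    _ = a₁ * (m₁ * a₂) * (a₁ * m₂) * a₂ := by rw [h1.eq]; group
    _ = a₁ * (a₂ * m₁) * (m₂ * a₁) * a₂ := by rw [h3.eq, h2.eq]
    _ = a₁ * a₂ * (m₁ * m₂) * (a₁ * a₂) := by group

variable {K : Type*} [Field K] (Q : Chev.Data D K)

/-- The product of root elements along a list. -/
def xprod (L : List ℕ) (t : ℕ → K) : ↥(D.group K) := (L.map fun r => xG Q.K K r (t r)).prod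

theorem xprod_cons (a : ℕ) (L : List ℕ) (t : ℕ → K) :
    xprod Q (a :: L) t = xG Q.K K a (t a) * xprod Q L t := by simp [xprod]

theorem xprod_congr {L : List ℕ} {t t' : ℕ → K} (h : ∀ r ∈ L, t r = t' r) :
    xprod Q L t = xprod Q L t' := by
  unfold xprod
  rw [List.map_congr_left fun r hr => by rw [h r hr]]

theorem xprod_mem {L : List ℕ} (t : ℕ → K) :
    xprod Q L t ∈ XS Q.sys.x (↑L.toFinset : Set ℕ) := by
  refine Subgroup.list_prod_mem _ fun g hg => ?_
  obtain ⟨r, hr, rfl⟩ := List.mem_map.1 hg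
  exact x_mem_XS (by simpa using hr) (t r)

theorem closed_tail {a : ℕ} {L : List ℕ} (hs : (a :: L).Pairwise (· < ·))
    (hcl : Q.sys.toUnip.Closed (a :: L).toFinset) :
    Q.sys.toUnip.Closed L.toFinset ∧
      {r | r ∈ (a :: L).toFinset ∧ a < r} = (↑L.toFinset : Set ℕ) := by
  have hlt : ∀ r ∈ L, a < r := (List.pairwise_cons.1 hs).1
  refine ⟨⟨fun r hr => hcl.1 (List.mem_toFinset.2 (List.mem_cons_of_mem _ (List.mem_toFinset.1 hr))),
    fun r hr s hs' hne k hk => ?_⟩, ?_⟩
  · have hr' : r ∈ (a :: L).toFinset :=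
      List.mem_toFinset.2 (List.mem_cons_of_mem _ (List.mem_toFinset.1 hr))
    have hs'' : s ∈ (a :: L).toFinset :=
      List.mem_toFinset.2 (List.mem_cons_of_mem _ (List.mem_toFinset.1 hs'))
    have h1 := hcl.2 r hr' s hs'' hne k hk
    have h2 := (Q.sys.toUnip.T_pos (hcl.1 hr') (hcl.1 hs'') hk).2.1
    rcases List.mem_cons.1 (List.mem_toFinset.1 h1) with rfl | h
    · exact absurd (hlt r (List.mem_toFinset.1 hr)) (by omega)
    · exact List.mem_toFinset.2 h
  · ext r
    simp only [Set.mem_setOf_eq, List.mem_toFinset, List.mem_cons, Finset.mem_coe]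
    constructor
    · rintro ⟨rfl | h, h'⟩
      · omega
      · exact h
    · exact fun h => ⟨Or.inr h, hlt r h⟩

theorem head_set {a : ℕ} {L : List ℕ} (hs : (a :: L).Pairwise (· < ·)) :
    (↑(a :: L).toFinset : Set ℕ) ⊆ {r | r ∈ (a :: L).toFinset ∧ a ≤ r} := by
  intro r hr
  refine ⟨hr, ?_⟩
  rcases List.mem_cons.1 (List.mem_toFinset.1 hr) with rfl | h
  · exact le_rfl
  · exact ((List.pairwise_cons.1 hs).1 r h).le

/-- Coordinates along an increasing list. -/
theorem exists_xprod : ∀ {L : List ℕ}, L.Pairwise (· < ·) → Q.sys.toUnip.Closed L.toFinset →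
    ∀ {v : ↥(D.group K)}, v ∈ XS Q.sys.x (↑L.toFinset : Set ℕ) → ∃ t, v = xprod Q L t
  | [], _, _, v, hv => ⟨fun _ => 0, by
      rw [List.toFinset_nil, Finset.coe_empty, XS_empty, Subgroup.mem_bot] at hv
      simp [hv, xprod]⟩
  | a :: L, hs, hcl, v, hv => by
      obtain ⟨t₀, p, hp, rfl⟩ := Q.sys.toUnip.exists_head hcl (k := a) (by simp)
        (XS_mono (head_set hs) hv)
      obtain ⟨hcl', hset⟩ := closed_tail Q hs hcl
      rw [hset] at hp
      obtain ⟨t, rfl⟩ := exists_xprod (List.pairwise_cons.1 hs).2 hcl' hp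
      refine ⟨Function.update t a t₀, ?_⟩
      rw [xprod_cons, Function.update_self,
        xprod_congr Q (t := Function.update t a t₀) (t' := t) fun r hr =>
          Function.update_of_ne (by have := (List.pairwise_cons.1 hs).1 r hr; omega) _ _]
      rfl

/-- Coordinates along an increasing list are unique. -/
theorem xprod_inj : ∀ {L : List ℕ}, L.Pairwise (· < ·) → Q.sys.toUnip.Closed L.toFinset →
    ∀ {t t' : ℕ → K}, xprod Q L t = xprod Q L t' → ∀ r ∈ L, t r = t' r
  | [], _, _, _, _, _, r, hr => by simp at hr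
  | a :: L, hs, hcl, t, t', e, r, hr => by
      obtain ⟨hcl', hset⟩ := closed_tail Q hs hcl
      rw [xprod_cons, xprod_cons] at e
      obtain ⟨h1, h2⟩ := Q.sys.toUnip.head_unique hcl (k := a) (by simp)
        (hset ▸ xprod_mem Q t) (hset ▸ xprod_mem Q t') e
      rcases List.mem_cons.1 hr with rfl | hr
      · exact h1
      · exact xprod_inj (List.pairwise_cons.1 hs).2 hcl' h2 r hr

theorem commute_xG {L : List ℕ} (h : commB D L = true) {r s : ℕ} (hr : r ∈ L) (hs : s ∈ L)
    (t u : K) : Commute (xG Q.K K r t) (xG Q.K K s u) := by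
  simp only [commB, List.all_eq_true, Bool.and_eq_true, decide_eq_true_eq, Bool.or_eq_true,
    beq_iff_eq, Bool.not_eq_true', beq_eq_false_iff_ne, List.isEmpty_iff] at h
  obtain ⟨hr', h'⟩ := h r hr
  refine Subtype.ext ?_
  show Q.K.xU K r t * Q.K.xU K s u = Q.K.xU K s u * Q.K.xU K r t
  rcases h' s hs with rfl | ⟨h1, h2⟩
  · rw [Q.K.xU_add, Q.K.xU_add, add_comm]
  · by_cases hrs : s = r
    · subst hrs; rw [Q.K.xU_add, Q.K.xU_add, add_comm]
    · rw [Q.K.xU_comm K hr' (h s hs).1 hrs h1 t u]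
      simp [ChevalleyDatum.commWord, h2, Chevalley.Cert.wU_nil]

/-- Two root subgroups with their opposites commute crosswise. -/
theorem commute_cross {a b : ℕ} (h : orthB D a b = true) (t u : K) :
    Commute (xG Q.K K a t) (xG Q.K K b u) ∧
    Commute (xG Q.K K a t) (xG Q.K K (D.neg b) u) ∧
    Commute (xG Q.K K (D.neg a) t) (xG Q.K K b u) ∧
    Commute (xG Q.K K (D.neg a) t) (xG Q.K K (D.neg b) u) := by
  simp only [orthB, Bool.and_eq_true] at h
  exact ⟨commute_xG Q h.1.1.1 (by simp) (by simp) t u,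
    commute_xG Q h.1.1.2 (by simp) (by simp) t u,
    commute_xG Q h.1.2 (by simp) (by simp) t u,
    commute_xG Q h.2 (by simp) (by simp) t u⟩

theorem commute_nUG {a b : ℕ} (h : orthB D a b = true) (t u : K) :
    Commute (nUG Q a t) (nUG Q b u) := by
  rw [nUG_eq, nUG_eq]
  have c1 := fun v w => (commute_cross Q h v w).1
  have c2 := fun v w => (commute_cross Q h v w).2.1
  have c3 := fun v w => (commute_cross Q h v w).2.2.1
  have c4 := fun v w => (commute_cross Q h v w).2.2.2
  exact ((((c1 _ _).mul_left (c3 _ _)).mul_left (c1 _ _)).mul_right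
    (((c2 _ _).mul_left (c4 _ _)).mul_left (c2 _ _))).mul_right
    (((c1 _ _).mul_left (c3 _ _)).mul_left (c1 _ _))

/-- `n_a n_b` for orthogonal roots. -/
theorem nUG_mul_pair {a b : ℕ} (h : orthB D a b = true) (t u : K) :
    nUG Q a t * nUG Q b u = xG Q.K K a t * xG Q.K K b u *
      (xG Q.K K (D.neg a) (-t⁻¹) * xG Q.K K (D.neg b) (-u⁻¹)) *
      (xG Q.K K a t * xG Q.K K b u) := by
  rw [nUG_eq, nUG_eq]
  exact triple_mul (commute_cross Q h _ _).1 (commute_cross Q h _ _).2.1
    (commute_cross Q h _ _).2.2.1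

/-- A product of fundamental representatives represents the product of the reflections. -/
theorem rep_word : ∀ (w : List ℕ), (∀ a ∈ w, a < Q.X.n) →
    ∃ h ∈ Q.sys.H, (w.map fun i => nUG Q (D.simple i) 1).prod = h * Q.sys.rep (Weyl.wOf Q.X.M w)
  | [], _ => ⟨1, one_mem _, by simp [Weyl.wOf_nil, Q.sys.rep_one]⟩
  | a :: w, hw => by
      obtain ⟨h, hh, e⟩ := rep_word w fun b hb => hw b (List.mem_cons_of_mem _ hb)
      have ha := hw a (by simp)
      obtain ⟨k, hk, e1⟩ := Q.sys.ns_rep (i := ⟨a, ha⟩) (Weyl.wOf Q.X.M w)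
      refine ⟨Q.sys.ns a * h * (Q.sys.ns a)⁻¹ * k,
        mul_mem (Q.sys.n_conj_H a ha h hh) hk, ?_⟩
      rw [List.map_cons, List.prod_cons, e, Weyl.wOf_cons, mul_assoc _ k,
        show Weyl.gen Q.X.M a = Q.X.M.simple ⟨a, ha⟩ from Sigma.gen_fin ⟨a, ha⟩, ← e1]
      show Q.sys.ns a * (h * _) = _
      group

namespace Endo

variable {Q} (E : Endo Q)

/-- The condition for a product along an orbit of commuting roots to be fixed. -/
theorem xprod_fixed_iff {L : List ℕ} (hs : L.Pairwise (· < ·))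
    (hcl : Q.sys.toUnip.Closed L.toFinset) (hcomm : commB D L = true)
    (hmap : ∀ r ∈ L, E.s.T.rh r ∈ L) (t : ℕ → K) :
    E.σ (xprod Q L t) = xprod Q L t ↔ ∀ r ∈ L, t (E.s.T.rh r) = E.f r (t r) := by
  classical
  have hlt : ∀ r ∈ L, r < D.nroots := by
    intro r hr
    simp only [commB, List.all_eq_true, Bool.and_eq_true, decide_eq_true_eq] at hcomm
    exact (hcomm r hr).1
  let t' : ℕ → K := fun s => if h : ∃ r ∈ L, E.s.T.rh r = s then E.f h.choose (t h.choose) else 0
  have ht' : ∀ r ∈ L, t' (E.s.T.rh r) = E.f r (t r) := by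
    intro r hr
    have h : ∃ r' ∈ L, E.s.T.rh r' = E.s.T.rh r := ⟨r, hr, rfl⟩
    show (if h : _ then _ else _) = _
    rw [dif_pos h]
    obtain ⟨h1, h2⟩ := h.choose_spec
    rw [E.s.rh_inj (hlt _ h1) (hlt r hr) h2]
  have hnd : L.Nodup := hs.imp fun h => Nat.ne_of_lt h
  have hperm : (L.map E.s.T.rh).Perm L := by
    refine (List.perm_of_nodup_nodup_toFinset_eq
      (hnd.map_on fun a ha b hb e => E.s.rh_inj (hlt a ha) (hlt b hb) e) hnd ?_)
    refine Finset.eq_of_subset_of_card_le (fun x hx => ?_) ?_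
    · rw [List.mem_toFinset, List.mem_map] at hx
      obtain ⟨r, hr, rfl⟩ := hx
      exact List.mem_toFinset.2 (hmap r hr)
    · rw [List.toFinset_card_of_nodup hnd, List.toFinset_card_of_nodup
        (hnd.map_on fun a ha b hb e => E.s.rh_inj (hlt a ha) (hlt b hb) e), List.length_map]
  have hσ : E.σ (xprod Q L t) = xprod Q L t' := by
    have e1 : E.σ (xprod Q L t) = xprod Q (L.map E.s.T.rh) t' := by
      rw [xprod, map_list_prod, xprod, List.map_map, List.map_map]
      refine congrArg List.prod (List.map_congr_left fun r hr => ?_)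
      simp only [Function.comp_apply]
      rw [E.σ_x r (hlt r hr), ht' r hr]
    rw [e1]
    refine List.Perm.prod_eq' (hperm.map _) ?_
    rw [List.pairwise_map]
    refine List.Pairwise.imp_of_mem (fun {a b} ha hb _ => ?_) (List.pairwise_of_forall (R := fun _ _ => True) fun _ _ => trivial)
    exact commute_xG Q hcomm (hperm.mem_iff.1 ha) (hperm.mem_iff.1 hb) _ _
  constructor
  · intro h r hr
    rw [← ht' r hr]
    exact (xprod_inj Q hs hcl (h.symm.trans hσ) _ (hmap r hr))
  · intro h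
    rw [hσ]
    refine xprod_congr Q fun s hs' => ?_
    obtain ⟨r, hr, rfl⟩ := List.mem_map.1 (hperm.mem_iff.2 hs')
    rw [ht' r hr, h r hr]

end Endo

end Cfsg.Agent.H37.Twist
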