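import Cfsg.Agent.H37.Twist.Torus
import Cfsg.Agent.H37.Twist.Pieces
import Cfsg.Agent.H37.Sym.Basic

/-!
Graph automorphism times a field endomorphism as an endomorphism of the group; power maps of a
finite field.
-/
set_option autoImplicit false

namespace Cfsg.Agent.H37.Twist

open Cfsg.Lie Cfsg.Agent.H37.RootSys

variable {D : ChevalleyDatum} {K : Type*} [Field K]

theorem map_mem_group (φ : K →+* K) {g : GL D.Idx K} (hg : g ∈ D.group K) :
    Units.map φ.mapMatrix.toMonoidHom g ∈ D.group K := by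
  unfold ChevalleyDatum.group at hg
  induction hg using Subgroup.closure_induction with
  | mem g hg =>
      obtain ⟨r, t, hg⟩ := hg
      refine Subgroup.subset_closure ⟨r, φ t, ?_⟩
      show ((g : Matrix D.Idx D.Idx K)).map φ = D.xMat K r (φ t)
      rw [hg, ← x_eq_xMat r.isLt t, ← x_eq_xMat r.isLt (φ t)]
      exact x_map φ r.val t
  | one => rw [map_one]; exact one_mem _
  | mul a b _ _ iha ihb => rw [map_mul]; exact mul_mem iha ihb
  | inv a _ iha => rw [map_inv]; exact inv_mem iha

/-- A field endomorphism acting on the group. -/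
def fieldHom (φ : K →+* K) : ↥(D.group K) →* ↥(D.group K) :=
  ((Units.map φ.mapMatrix.toMonoidHom).comp (D.group K).subtype).codRestrict _
    fun g => map_mem_group φ g.2

theorem fieldHom_xG (Q : Chev.Data D K) (φ : K →+* K) (r : ℕ) (t : K) :
    fieldHom φ (xG Q.K K r t) = xG Q.K K r (φ t) :=
  Subtype.ext (Units.ext (x_map φ r t))

/-- Graph automorphism times field endomorphism. -/
def graphEndo (Q : Chev.Data D K) {S : Sym.Data} (hS : Sym.Good S D) (s : Sigma Q.X.good)
    (hperm : s.T.rho = S.perm) (φ : K →+* K) : Endo Q where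
  s := s
  f r t := (S.sg r : K) * φ t
  σ := ((hS.groupEquiv Q.ord K).toMonoidHom).comp (fieldHom φ)
  σ_x r hr t := by
    rw [MonoidHom.comp_apply, fieldHom_xG]
    refine Subtype.ext (Units.ext ?_)
    have e := hS.groupEquiv_x Q.ord (xG Q.K K r (φ t)) hr (φ t) (Q.K.coe_xU K r _)
    rw [show s.T.rh r = S.p r by rw [Tables.rh, hperm, Sym.Data.p]]
    exact e
  f_inv r hr t ht := by
    refine ⟨mul_ne_zero ?_ ((map_ne_zero φ).2 ht), ?_⟩
    · rcases Sym.Good.sg_pm (T := S) r with h | h <;> simp [h]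
    · rw [(hS.perm_spec hr).2.2.2.2.2.2.2, map_neg, map_inv₀]
      rcases Sym.Good.sg_pm (T := S) r with h | h <;> simp [h, inv_neg]

variable {Q : Chev.Data D K} {S : Sym.Data} {hS : Sym.Good S D} {s : Sigma Q.X.good}
  {hperm : s.T.rho = S.perm} {φ : K →+* K} {q : ℕ}

theorem graphEndo_f (r : ℕ) (t : K) :
    (graphEndo Q hS s hperm φ).f r t = (S.sg r : K) * φ t := rfl

/-- On roots of sign `1` it is the power map. -/
theorem graphEndo_f_pow (hφ : ∀ t, φ t = t ^ q) {r : ℕ} (hr : S.sg r = 1) (t : K) :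
    (graphEndo Q hS s hperm φ).f r t = t ^ q := by
  rw [graphEndo_f, hr, hφ]; simp

theorem graphEndo_noSign (hφ : ∀ t, φ t = t ^ q)
    (hsg : ∀ i, i < D.rank → S.sg (D.simple i) = 1) :
    (graphEndo Q hS s hperm φ).NoSign fun _ => q := fun i hi =>
  ⟨fun t => graphEndo_f_pow hφ (hsg i hi) t, by
    rw [graphEndo_f, hsg i hi, map_neg, map_one]; simp⟩

/-- The power map of exponent `q` of a field with `q ^ m` elements. -/
theorem exists_powHom [Fintype K] {q m : ℕ} (hq : IsPrimePow q) (hK : Fintype.card K = q ^ m) :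
    ∃ φ : K →+* K, ∀ t, φ t = t ^ q := by
  obtain ⟨p, k, hp, hk, rfl⟩ := hq
  obtain ⟨n, hr, hcard⟩ := FiniteField.card K (ringChar K)
  have hdvd : ringChar K ∣ (p ^ k) ^ m := by
    rw [← hK, hcard]; exact dvd_pow_self _ n.ne_zero
  have e : ringChar K = p :=
    (Nat.prime_dvd_prime_iff_eq hr hp.nat_prime).1 (hr.dvd_of_dvd_pow (hr.dvd_of_dvd_pow hdvd))
  haveI : CharP K p := e ▸ ringChar.charP K
  haveI : ExpChar K p := ExpChar.prime hp.nat_prime
  exact ⟨iterateFrobenius K p k, fun t => iterateFrobenius_def ..⟩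

/-- The fixed elements of a power map. -/
theorem card_pow_eq_self [Fintype K] {q : ℕ} (hq : 2 ≤ q) (hd : q - 1 ∣ Fintype.card K - 1) :
    Nat.card {t : Kˣ // t ^ q = t} = q - 1 ∧ Nat.card {t : K // t ^ q = t} = q := by
  classical
  have h1 : Nat.card {t : Kˣ // t ^ q = t} = q - 1 := by
    have e : Nat.card {t : Kˣ // t ^ q = t} = Nat.card (powMonoidHom (q - 1) : Kˣ →* Kˣ).ker := by
      refine Nat.card_congr (Equiv.subtypeEquivRight fun t => ?_)
      rw [MonoidHom.mem_ker, powMonoidHom_apply]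
      constructor
      · intro h
        have : t ^ (q - 1) * t = 1 * t := by rw [← pow_succ, one_mul]; convert h using 2; omega
        exact mul_right_cancel this
      · intro h
        calc t ^ q = t ^ (q - 1) * t := by rw [← pow_succ]; congr 1; omega
          _ = t := by rw [h, one_mul]
    rw [e, IsCyclic.card_powMonoidHom_ker, Nat.card_eq_fintype_card, Fintype.card_units,
      Nat.gcd_eq_right hd]
  refine ⟨h1, ?_⟩
  have e2 : Option {t : Kˣ // t ^ q = t} ≃ {t : K // t ^ q = t} :=
    Equiv.ofBijective (fun o => match o with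
      | none => ⟨0, zero_pow (by omega)⟩
      | some u => ⟨(u.1 : K), by rw [← Units.val_pow_eq_pow_val, u.2]⟩) ⟨by
      rintro (_ | ⟨u, hu⟩) (_ | ⟨v, hv⟩) h <;> simp only [Subtype.mk.injEq] at h
      · rfl
      · exact absurd h.symm v.ne_zero
      · exact absurd h u.ne_zero
      · exact congrArg some (Subtype.ext (Units.ext h)), fun ⟨t, ht⟩ => by
      by_cases h0 : t = 0
      · exact ⟨none, Subtype.ext h0.symm⟩
      · exact ⟨some ⟨Units.mk0 t h0, Units.ext (by simpa using ht)⟩, rfl⟩⟩
  rw [← Nat.card_congr e2, Finite.card_option, h1]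
  omega

end Cfsg.Agent.H37.Twist
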