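import Cfsg.Agent.H37.Twist.D4

/-!
`³D₄(q)` is perfect and simple.
-/
set_option autoImplicit false
set_option maxRecDepth 100000

namespace Cfsg.Agent.H37.Twist.D4

open Cfsg.Lie Cfsg.Agent.H37.RootSys Cfsg.Agent.H37.NormalForm
open scoped commutatorElement

variable {K : Type*} [Field K] [Fintype K] {φ : K →+* K} {q : ℕ}

theorem exists_gen (hK : Fintype.card K = q ^ 3) : ∃ g : Kˣ, orderOf g = q ^ 3 - 1 := by
  classical
  obtain ⟨g, hg⟩ := IsCyclic.exists_generator (α := Kˣ)
  exact ⟨g, by rw [orderOf_eq_card_of_forall_mem_zpowers hg, Nat.card_eq_fintype_card,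
    Fintype.card_units, hK]⟩

/-- An orbit moved by a fixed torus element lies in the commutator subgroup. -/
theorem torus_base (hφ : ∀ t, φ t = t ^ q) (c : Fin chevD4.rank → Kˣ)
    (hc : (endo φ).hat (fun _ => q) c = c) (j : Fin 2)
    (hne : ∀ k : Fin 4, chevD4.simple k.val ∈ orbL j.val → ∏ m : Fin 4, c m ^ cartanD4 m k ≠ 1) :
    ∀ v ∈ (QD K).sys.Uw ((fold φ).ι ((fold φ).gens j)), (endo φ).σ v = v →
      v ∈ ⁅fixedPts (endo φ).σ, fixedPts (endo φ).σ⁆ := by
  intro v hv hvf
  rw [ι_gen] at hv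
  refine (orb φ j).mem_commutator (c := c) (by rw [(endo φ).σ_tG (noSign hφ), hc]) (fun r hr => ?_)
    hv hvf
  have hr' : r ∈ orbL j.val := hr
  obtain ⟨k, hk⟩ := (show ∀ j : Fin 2, ∀ r ∈ orbL j.val, ∃ k : Fin 4, chevD4.simple k.val = r by
    decide +kernel) j r hr'
  subst hk
  rw [chT_simple]
  exact hne k hr'


/-- The single target of the crossed commutators. -/
def crossB (r s : ℕ) : Bool :=
  (chevD4.commTerms r s == [(23, 1, 1, 1)]) || (chevD4.commTerms r s == [(23, -1, 1, 1)])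

theorem cross_ok : crossB 19 17 = true ∧ crossB 16 20 = true ∧ crossB 15 21 = true := by
  decide +kernel

theorem comm_ok' : commB chevD4 [15, 16, 19] = true ∧ commB chevD4 [17, 20, 21] = true ∧
    commB chevD4 [19, 20] = true ∧ commB chevD4 [19, 21] = true ∧ commB chevD4 [16, 17] = true ∧
    commB chevD4 [16, 21] = true ∧ commB chevD4 [15, 17] = true ∧ commB chevD4 [15, 20] = true ∧
    commB chevD4 [15, 23] = true ∧ commB chevD4 [16, 23] = true ∧ commB chevD4 [17, 23] = true ∧
    commB chevD4 [20, 23] = true ∧ commB chevD4 [21, 23] = true := by decide +kernel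

theorem rh_ok' : tables.rh 19 = 16 ∧ tables.rh 16 = 15 ∧ tables.rh 15 = 19 ∧ tables.rh 17 = 20 ∧
    tables.rh 20 = 21 ∧ tables.rh 21 = 17 ∧ tables.rh 23 = 23 ∧
    Weyl.certD4.act [1, 0, 2, 3] 14 = 23 := by decide +kernel

section Two

variable (hφ : ∀ t, φ t = t ^ q) (hK : Fintype.card K = q ^ 3) (hq : q = 2)
include hφ hq

omit [Fintype K] in
theorem neg_one_eq : (-1 : K) = 1 := by
  have h := hφ (-1)
  rw [map_neg, map_one, hq] at h
  simpa using h

omit [Fintype K] in
theorem σ_two {r : ℕ} (hr : r < chevD4.nroots) (t : K) :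
    (endo φ).σ (xe r t) = xe (tables.rh r) (t ^ 2) := by
  rw [xe, (endo φ).σ_x r hr]
  congr 1
  show (Sym.dataD4a.sg r : K) * φ t = t ^ 2
  rw [hφ, hq]
  rcases Sym.Good.sg_pm (T := Sym.dataD4a) r with h | h <;> simp [h, neg_one_eq hφ hq]

omit [Fintype K] in
theorem cross {r s : ℕ} (hr : r < chevD4.nroots) (hs : s < chevD4.nroots) (h1 : s ≠ r)
    (h2 : s ≠ chevD4.neg r) (h : crossB r s = true) (b : K) :
    xe s b * xe r 1 = xe r 1 * xe s b * xe 23 b := by
  refine Subtype.ext ?_
  show (QD K).K.xU K s b * (QD K).K.xU K r 1 = _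
  rw [(QD K).K.xU_comm K hr hs h1 h2 1 b]
  simp only [crossB, Bool.or_eq_true, beq_iff_eq] at h
  have hn1 := neg_one_eq hφ hq
  rcases h with h | h <;> simp [ChevalleyDatum.commWord, h, Chevalley.Cert.wU, hn1]

include hK in
theorem x23_mem : xe 23 (1 : K) ∈ ⁅fixedPts (endo φ).σ, fixedPts (endo φ).σ⁆ := by
  classical
  have hn1 : (-1 : K) = 1 := neg_one_eq hφ hq
  obtain ⟨t, ht⟩ : ∃ t : K, t + t ^ 2 + (t ^ 2) ^ 2 ≠ 0 := by
    by_contra hcon
    push Not at hcon
    let p : Polynomial K := Polynomial.X + Polynomial.X ^ 2 + Polynomial.X ^ 4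
    have hdeg : p.natDegree = 4 := by
      simp only [p]; compute_degree!
    have hp : p ≠ 0 := fun h => by rw [h] at hdeg; simp at hdeg
    have hsub : (Finset.univ : Finset K) ⊆ p.roots.toFinset := fun x _ => by
      rw [Multiset.mem_toFinset, Polynomial.mem_roots hp]
      simp only [p, Polynomial.IsRoot.def, Polynomial.eval_add, Polynomial.eval_pow,
        Polynomial.eval_X]
      linear_combination hcon x
    have := (Finset.card_le_card hsub).trans ((Multiset.toFinset_card_le _).trans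
      (Polynomial.card_roots' p))
    rw [Finset.card_univ, hK, hq, hdeg] at this
    norm_num at this
  have hpow : ∀ x : K, ((x ^ 2) ^ 2) ^ 2 = x := fun x => by simpa [hq] using pow_three_card hK x
  obtain ⟨cO, cP, c1, c2, c3, c4, c5, c6, z15, z16, z17, z20, z21⟩ := comm_ok'
  obtain ⟨r1, r2, r3, r4, r5, r6, r7, -⟩ := rh_ok'
  obtain ⟨x1, x2, x3⟩ := cross_ok
  set a := xe (19 : ℕ) (1 : K) with ha
  set b := xe (16 : ℕ) (1 : K) with hb
  set c := xe (15 : ℕ) (1 : K) with hc
  set A := xe (17 : ℕ) t with hA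
  set B := xe (20 : ℕ) (t ^ 2) with hB
  set C := xe (21 : ℕ) ((t ^ 2) ^ 2) with hC
  have huf : (endo φ).σ (a * b * c) = a * b * c := by
    rw [map_mul, map_mul, ha, hb, hc, σ_two hφ hq (by decide +kernel), σ_two hφ hq (by decide +kernel),
      σ_two hφ hq (by decide +kernel), r1, r2, r3, one_pow]
    rw [((commute_xG (QD K) cO (r := 16) (s := 19) (by simp) (by simp) _ _).mul_left
      (commute_xG (QD K) cO (r := 15) (s := 19) (by simp) (by simp) _ _)).eq]
    group
  have hvf : (endo φ).σ (A * B * C) = A * B * C := by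
    rw [map_mul, map_mul, hA, hB, hC, σ_two hφ hq (by decide +kernel), σ_two hφ hq (by decide +kernel),
      σ_two hφ hq (by decide +kernel), r4, r5, r6, hpow]
    rw [((commute_xG (QD K) cP (r := 20) (s := 17) (by simp) (by simp) _ _).mul_left
      (commute_xG (QD K) cP (r := 21) (s := 17) (by simp) (by simp) _ _)).eq]
    group
  set z1 := xe (23 : ℕ) t with hz1
  set z2 := xe (23 : ℕ) (t ^ 2) with hz2
  set z3 := xe (23 : ℕ) ((t ^ 2) ^ 2) with hz3
  have Ra : A * a = a * A * z1 :=
    cross hφ hq (by decide +kernel) (by decide +kernel) (by decide +kernel) (by decide +kernel) x1 t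
  have Rb : B * b = b * B * z2 :=
    cross hφ hq (by decide +kernel) (by decide +kernel) (by decide +kernel) (by decide +kernel) x2 _
  have Rc : C * c = c * C * z3 :=
    cross hφ hq (by decide +kernel) (by decide +kernel) (by decide +kernel) (by decide +kernel) x3 _
  have CCab : Commute C (a * b) :=
    (commute_xG (QD K) c2 (r := 21) (s := 19) (by simp) (by simp) _ _).mul_right
      (commute_xG (QD K) c4 (r := 21) (s := 16) (by simp) (by simp) _ _)
  have CBa : Commute B a := commute_xG (QD K) c1 (r := 20) (s := 19) (by simp) (by simp) _ _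
  have CBc : Commute B c := commute_xG (QD K) c6 (r := 20) (s := 15) (by simp) (by simp) _ _
  have CAbc : Commute A (b * c) :=
    (commute_xG (QD K) c3 (r := 17) (s := 16) (by simp) (by simp) _ _).mul_right
      (commute_xG (QD K) c5 (r := 17) (s := 15) (by simp) (by simp) _ _)
  have C2c : Commute z2 (c * C) :=
    (commute_xG (QD K) z15 (r := 23) (s := 15) (by simp) (by simp) _ _).mul_right
      (commute_xG (QD K) z21 (r := 23) (s := 21) (by simp) (by simp) _ _)
  have C1 : Commute z1 (b * c * B * C) :=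
    (((commute_xG (QD K) z16 (r := 23) (s := 16) (by simp) (by simp) _ _).mul_right
      (commute_xG (QD K) z15 (r := 23) (s := 15) (by simp) (by simp) _ _)).mul_right
      (commute_xG (QD K) z20 (r := 23) (s := 20) (by simp) (by simp) _ _)).mul_right
      (commute_xG (QD K) z21 (r := 23) (s := 21) (by simp) (by simp) _ _)
  have CzA : Commute z1 A := commute_xG (QD K) z17 (r := 23) (s := 17) (by simp) (by simp) _ _
  have hsum : t + t ^ 2 + (t ^ 2) ^ 2 = 1 := by
    have h2 : (2 : K) = 0 := by rw [← one_add_one_eq_two]; nth_rewrite 2 [← hn1]; ring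
    have hsq : (t + t ^ 2 + (t ^ 2) ^ 2) ^ 2 = t + t ^ 2 + (t ^ 2) ^ 2 := by
      linear_combination hpow t + (t ^ 3 + t ^ 5 + t ^ 6) * h2
    have : (t + t ^ 2 + (t ^ 2) ^ 2) * ((t + t ^ 2 + (t ^ 2) ^ 2) - 1) = 0 := by
      linear_combination hsq
    exact sub_eq_zero.1 ((mul_eq_zero.1 this).resolve_left ht)
  have hvu : A * B * C * (a * b * c) = a * b * c * (A * B * C) * xe 23 1 := by
    have hadd : z1 * z2 * z3 = xe 23 (1 : K) := by
      rw [← hsum, hz1, hz2, hz3]
      have e := (QD K).sys.x_add' 23 (by decide +kernel)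
      show _ = (QD K).sys.x 23 _
      rw [e, e]
      rfl
    rw [← hadd]
    calc A * B * C * (a * b * c) = A * B * (C * (a * b)) * c := by group
      _ = A * (B * a) * b * (C * c) := by rw [CCab.eq]; group
      _ = A * a * (B * b) * (c * C * z3) := by rw [CBa.eq, Rc]; group
      _ = A * a * b * B * (z2 * (c * C)) * z3 := by rw [Rb]; group
      _ = A * a * b * (B * c) * C * z2 * z3 := by rw [C2c.eq]; group
      _ = a * (A * z1 * (b * c * B * C)) * z2 * z3 := by rw [Ra, CBc.eq]; group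
      _ = a * (A * (b * c)) * (B * C) * z1 * z2 * z3 := by rw [mul_assoc A z1, C1.eq]; group
      _ = _ := by rw [CAbc.eq]; group
  have e : xe 23 (1 : K) = ⁅(A * B * C)⁻¹, (a * b * c)⁻¹⁆ := by
    rw [commutatorElement_def, inv_inv, inv_inv, mul_assoc _ (A * B * C) (a * b * c), hvu]
    group
  rw [e]
  exact Subgroup.commutator_mem_commutator
    (inv_mem (show A * B * C ∈ fixedPts (endo φ).σ from hvf))
    (inv_mem (show a * b * c ∈ fixedPts (endo φ).σ from huf))

include hK in
theorem x14_mem : xe 14 (1 : K) ∈ ⁅fixedPts (endo φ).σ, fixedPts (endo φ).σ⁆ := by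
  set Md := model hφ hK
  set g := (fold φ).gens (1 : Fin 2) * (fold φ).gens (0 : Fin 2)
  have hs : ((QD K).X.good.hom ((fold φ).ι g) ⟨14, by decide +kernel⟩).val = 23 := by
    rw [map_mul, ι_gen, ι_gen, ← Weyl.wOf_append, (QD K).X.good.hom_wOf_val (fun i hi =>
      (show ∀ i ∈ H37.Fold.dataD4.word (1 : Fin 2).val ++ H37.Fold.dataD4.word (0 : Fin 2).val,
        i < 4 by decide +kernel) i hi)]
    exact rh_ok'.2.2.2.2.2.2.2
  have hmf : (endo φ).σ (Md.rep ((fold φ).ι g)) = Md.rep ((fold φ).ι g) :=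
    Md.TG_fixed (Md.rep_mem g)
  obtain ⟨t, ht⟩ := Md.rep_move g (r := 14) (by decide +kernel) (1 : K)
  rw [hs] at ht
  have e := congrArg (endo φ).σ ht
  simp only [map_mul, map_inv, hmf] at e
  rw [σ_two hφ hq (by decide +kernel), σ_two hφ hq (by decide +kernel), rh_ok.2.2.2.1,
    rh_ok'.2.2.2.2.2.2.1, one_pow, ht] at e
  have ht2 : t = t ^ 2 := xG_inj (QD K) (by decide +kernel) e
  have ht0 : t ≠ 0 := by
    rintro rfl
    have hz : xG (QD K).K K 23 (0 : K) = 1 := (QD K).sys.x_zero' (by decide +kernel)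
    have hz' : xG (QD K).K K 14 (0 : K) = 1 := (QD K).sys.x_zero' (by decide +kernel)
    rw [hz] at ht
    exact one_ne_zero (xG_inj (QD K) (by decide +kernel) ((conj_eq_one_iff.1 ht).trans hz'.symm))
  have h' : t * (t - 1) = 0 := by linear_combination -ht2
  rw [sub_eq_zero.1 ((mul_eq_zero.1 h').resolve_left ht0)] at ht
  have hf : xe 23 (1 : K) ∈ fixedPts (endo φ).σ := by
    show (endo φ).σ (xe 23 1) = xe 23 1
    rw [σ_two hφ hq (by decide +kernel), rh_ok'.2.2.2.2.2.2.1, one_pow]
  set m := Md.rep ((fold φ).ι g)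
  rw [show xe 14 (1 : K) = m⁻¹ * xe 23 1 * m by rw [show xe 23 (1 : K) = _ from ht.symm]; group,
    show m⁻¹ * xe 23 (1 : K) * m = ⁅m⁻¹, xe 23 1⁆ * xe 23 1 by rw [commutatorElement_def]; group]
  exact mul_mem (Subgroup.commutator_mem_commutator (inv_mem hmf) hf) (x23_mem hφ hK hq)

include hK in
theorem single_two : ∀ v ∈ (QD K).sys.Uw ((fold φ).ι ((fold φ).gens (1 : Fin 2))),
    (endo φ).σ v = v → v ∈ ⁅fixedPts (endo φ).σ, fixedPts (endo φ).σ⁆ := by
  intro v hv hvf
  rw [ι_gen] at hv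
  obtain ⟨t, rfl⟩ := exists_xprod (QD K) (orb φ (1 : Fin 2)).sorted (orb φ (1 : Fin 2)).closed
    ((orb φ (1 : Fin 2)).Uw_eq ▸ hv)
  have hLa : (orb φ (1 : Fin 2)).L = [14] := rfl
  rw [hLa] at hvf ⊢
  simp only [xprod, List.map_cons, List.map_nil, List.prod_cons, List.prod_nil, mul_one] at hvf ⊢
  rw [σ_two hφ hq (by decide +kernel), rh_ok.2.2.2.1] at hvf
  have h2 := xG_inj (QD K) (by decide +kernel) hvf
  rcases eq_or_ne (t 14) 0 with h0 | h0
  · rw [h0, show xG (QD K).K K 14 (0 : K) = 1 from (QD K).sys.x_zero' (by decide +kernel)]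
    exact one_mem _
  · have : t 14 * (t 14 - 1) = 0 := by linear_combination h2
    rw [sub_eq_zero.1 ((mul_eq_zero.1 this).resolve_left h0)]
    exact x14_mem hφ hK hq

end Two

theorem fixParam_symm (hK : Fintype.card K = q ^ 3) (p : Kˣ × {t : Kˣ // t ^ q = t}) :
    ((fixParam (φ := φ) hK).symm p).1 = ![p.1, p.2.1, p.1 ^ q, (p.1 ^ q) ^ q] := rfl

theorem base_commutator (hφ : ∀ t, φ t = t ^ q) (hK : Fintype.card K = q ^ 3) (j : Fin 2) :
    ∀ v ∈ (QD K).sys.Uw ((fold φ).ι ((fold φ).gens j)), (endo φ).σ v = v →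
      v ∈ ⁅fixedPts (endo φ).σ, fixedPts (endo φ).σ⁆ := by
  obtain ⟨g, hord⟩ := exists_gen hK
  have hq2 := two_le hK
  have h8 : 8 ≤ q ^ 3 := le_trans (by norm_num) (Nat.pow_le_pow_left hq2 3)
  have hg : g ^ 2 ≠ 1 := fun h => by
    have := orderOf_le_of_pow_eq_one two_pos h
    omega
  have pinj : ∀ x : Kˣ, x ^ q = 1 → x = 1 := fun x h => by
    have := units_pow_three hK x
    rw [h, one_pow, one_pow] at this
    exact this.symm
  have hg1 : (g ^ q) ^ 2 ≠ 1 := fun h => hg (pinj _ (by rwa [← pow_mul, mul_comm, pow_mul]))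
  have hg2 : ((g ^ q) ^ q) ^ 2 ≠ 1 := fun h => hg1 (pinj _ (by rwa [← pow_mul, mul_comm, pow_mul]))
  have h1 : (1 : Kˣ) ^ q = 1 := one_pow q
  fin_cases j
  · refine torus_base hφ _ ((fixParam (φ := φ) hK).symm (g, ⟨1, h1⟩)).2 (0 : Fin 2) fun k hk => ?_
    fin_cases k <;> first
      | exact absurd hk (by decide +kernel)
      | simpa [fixParam_symm, Fin.prod_univ_four, cartanD4, Matrix.cons_val_zero, Matrix.cons_val_one,
          zpow_ofNat] using hg
      | simpa [fixParam_symm, Fin.prod_univ_four, cartanD4, Matrix.cons_val_zero, Matrix.cons_val_one,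
          zpow_ofNat] using hg1
      | simpa [fixParam_symm, Fin.prod_univ_four, cartanD4, Matrix.cons_val_zero, Matrix.cons_val_one,
          zpow_ofNat] using hg2
  · rcases Nat.lt_or_ge q 3 with hq | hq
    · exact single_two hφ hK (by omega)
    have hn : g * g ^ q * (g ^ q) ^ q ≠ 1 := fun h => by
      rw [← pow_succ', ← pow_mul, ← pow_add] at h
      have h' := orderOf_le_of_pow_eq_one (by omega) h
      rw [hord] at h'
      have : 3 * (q * q) ≤ q ^ 3 := by rw [pow_succ, pow_two, mul_comm 3]; exact Nat.mul_le_mul_left _ hq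
      have : q * 3 ≤ q * q := Nat.mul_le_mul_left _ hq
      omega
    refine torus_base hφ _ ((fixParam (φ := φ) hK).symm (g, ⟨1, h1⟩)).2 (1 : Fin 2) fun k hk => ?_
    fin_cases k <;> first
      | exact absurd hk (by decide +kernel)
      | (intro h; apply hn
         simp [fixParam_symm, Fin.prod_univ_four, cartanD4, Matrix.cons_val_zero, Matrix.cons_val_one] at h
         exact inv_eq_one.1 (by rw [mul_inv, mul_inv]; exact h))

/-- The roots of each generating word. -/
def genOrb : List (List ℕ × Fin 2 × Bool) :=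
  [([18, 13, 12], 0, true), ([5, 10, 11], 0, false), ([14], 1, true), ([9], 1, false)]

theorem genOrb_ok : ∀ x ∈ genOrb, ∀ r ∈ x.1, r < 24 ∧
    if x.2.2 then r ∈ orbL x.2.1.val
    else Weyl.certD4.act (H37.Fold.dataD4.word x.2.1.val) r ∈ orbL x.2.1.val := by
  decide +kernel

theorem commutator_top (hφ : ∀ t, φ t = t ^ q) (hK : Fintype.card K = q ^ 3) :
    commutator ↥(twistedD4 K q) = ⊤ := by
  set Md := model hφ hK
  show commutator ↥Md.T = ⊤
  refine Md.commutator_eq_top (Md.fixed_le_commutator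
    (G0 := {g | ∃ w ∈ d4Words K q, g = (w.map fun p => xe p.1 p.2).prod})
    ?_ ?_ (base_commutator hφ hK))
  · rw [← Md.fixed_eq]
    intro g hg
    have hle : twistedD4 K q ≤ (Subgroup.closure
        {g : ↥(chevD4.group K) | ∃ w ∈ d4Words K q, g = (w.map fun p => xe p.1 p.2).prod}).map
        (chevD4.group K).subtype := by
      refine (Subgroup.closure_le _).2 ?_
      rintro x ⟨w, hw, hx⟩
      refine ⟨_, Subgroup.subset_closure ⟨w, hw, rfl⟩, Units.ext ?_⟩
      show (((w.map fun p => xe p.1 p.2).prod : ↥(chevD4.group K)) : GL chevD4.Idx K).val = _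
      rw [Subgroup.val_list_prod, List.map_map, hx, ← (QD K).K.coe_wU K w]
      rfl
    obtain ⟨g', hg', e⟩ := hle hg
    rwa [← Subtype.ext (a1 := g') (a2 := g) e]
  · rintro g ⟨w, hw, rfl⟩
    have hfix : (endo φ).σ (w.map fun p => xe p.1 p.2).prod = (w.map fun p => xe p.1 p.2).prod :=
      le_fixed hφ hK _ (word_mem hw _ rfl)
    obtain ⟨x, hx, hroots⟩ : ∃ x ∈ genOrb, w.map Prod.fst = x.1 := by
      rcases hw with ⟨t, ht, r, hr, rfl⟩ | ⟨t, rs, hrs, rfl⟩
      · simp only [List.mem_cons, List.not_mem_nil, or_false] at hr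
        rcases hr with rfl | rfl <;> simp [genOrb, d4p2, d4m2]
      · simp only [List.mem_cons, List.not_mem_nil, or_false] at hrs
        rcases hrs with rfl | rfl <;> simp [genOrb, d4p1, d4p3, d4p4, d4m1, d4m3, d4m4]
    obtain ⟨L, j, b⟩ := x
    simp only at hroots
    have hmem : (w.map fun p => xe p.1 p.2).prod ∈ XS (QD K).sys.x {r | r ∈ L} := by
      refine Subgroup.list_prod_mem _ fun y hy => ?_
      obtain ⟨p, hp, rfl⟩ := List.mem_map.1 hy
      refine x_mem_XS (S := {r | r ∈ L}) ?_ p.2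
      show p.1 ∈ L
      rw [← hroots]
      exact List.mem_map_of_mem hp
    have hflip : Sys.flip (QD K).X.good ((fold φ).ι ((fold φ).gens j)) = (orbL j.val).toFinset := by
      rw [ι_gen]; exact (orb φ j).flip_set
    refine ⟨j, ?_⟩
    cases b with
    | true =>
        refine ⟨1, one_mem _, _, ?_, hfix, by group⟩
        refine XS_mono ?_ hmem
        intro r hr
        rw [hflip, List.coe_toFinset]
        exact (genOrb_ok _ hx r hr).2
    | false =>
        refine Md.neg_piece j (A := {r | r ∈ L}) (fun r hr => ?_) hmem hfix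
        obtain ⟨h1, h2⟩ := genOrb_ok _ hx r hr
        refine ⟨h1, ?_⟩
        rw [hflip, List.coe_toFinset, ι_gen, (QD K).X.good.hom_wOf_val (word_ok j)]
        exact h2

theorem simple (hφ : ∀ t, φ t = t ^ q) (hK : Fintype.card K = q ^ 3) :
    IsSimpleGroup ↥(twistedD4 K q) ∧ ¬ IsMulCommutative ↥(twistedD4 K q) :=
  (model hφ hK).simple (faith hφ) (Chev.typeG2.irred) (commutator_top hφ hK)

end Cfsg.Agent.H37.Twist.D4
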