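import Cfsg.Agent.H37.RootSys.Bruhat

/-!
Splitting `U_(a s)` as `U_s` times a conjugate of `U_a` when the inversion numbers add.
-/
set_option autoImplicit false

namespace Cfsg.Agent.H37.RootSys.Sys

open Cfsg.Lie Cfsg.Agent.H37.Weyl

variable {n : ℕ} {M : CoxeterMatrix (Fin n)} {C : Cert} {D : ChevalleyDatum}
variable {hC : Good C D M} {G F : Type*} [Group G] [Field F] (S : Sys hC G F)

/-- An element inducing `s` maps `XS` of a set into `XS` of the image set. -/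
theorem conj_image (s : M.Group) {m : G} (hm : ∃ k ∈ S.H, m = k * S.rep s) {A B : Set ℕ}
    (hAB : ∀ r ∈ A, ∃ hr : r < D.nroots, (hC.hom s ⟨r, hr⟩).val ∈ B) {g : G}
    (hg : g ∈ XS S.x A) : m * g * m⁻¹ ∈ XS S.x B := by
  obtain ⟨k, hk, rfl⟩ := hm
  refine conj_mem_XS (fun r hr t => ?_) hg
  obtain ⟨hr', hB⟩ := hAB r hr
  obtain ⟨t', e⟩ := S.rep_conj s r hr' t
  obtain ⟨t'', e'⟩ := S.h_conj k hk _ (Fin.isLt _) t'
  rw [show k * S.rep s * S.x r t * (k * S.rep s)⁻¹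
    = k * (S.rep s * S.x r t * (S.rep s)⁻¹) * k⁻¹ by group, e, e']
  exact x_mem_XS hB t''

variable (a s : M.Group) (m : G)

/-- The candidate bijection. -/
def splitMap (p : ↥(S.Uw s) × ↥(S.Uw a)) : G := p.1.1 * (m⁻¹ * p.2.1 * m)

theorem splitMap_inj (hm : ∃ k ∈ S.H, m = k * S.rep s) :
    Function.Injective (S.splitMap a s m) := by
  rintro ⟨⟨x, hx⟩, ⟨z, hz⟩⟩ ⟨⟨x', hx'⟩, ⟨z', hz'⟩⟩ e
  simp only [splitMap] at e
  have e1 : m * (x'⁻¹ * x) * m⁻¹ = z' * z⁻¹ := by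
    calc m * (x'⁻¹ * x) * m⁻¹ = m * x'⁻¹ * (x * (m⁻¹ * z * m)) * m⁻¹ * z⁻¹ := by group
      _ = _ := by rw [e]; group
  have hV : m * (x'⁻¹ * x) * m⁻¹ ∈ XS S.x (↑(negSet D) : Set ℕ) :=
    S.conj_image s hm (fun r hr => ⟨(mem_flip.1 hr).1, Finset.mem_coe.2
      (mem_negSet.2 ⟨Fin.isLt _, (mem_flip.1 hr).2.2⟩)⟩) (mul_mem (inv_mem hx') hx)
  have hU : z' * z⁻¹ ∈ S.U := mul_mem (S.Uw_le a hz') (inv_mem (S.Uw_le a hz))
  have h1 : z' * z⁻¹ = 1 :=
    S.UHV _ hU 1 (one_mem _) _ (by rw [← e1]; exact hV) (mul_one _)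
  obtain rfl := mul_inv_eq_one.1 h1
  have := mul_right_cancel e
  subst this
  rfl

/-- Every element of `U_(a s)` is split. -/
theorem splitMap_cover (hm : ∃ k ∈ S.H, m = k * S.rep s) {v : G} (hv : v ∈ S.Uw (a * s)) :
    ∃ p, S.splitMap a s m p = v := by
  obtain ⟨x, hx, y, hy, rfl⟩ := S.toUnip.exists_split (S.closed_flip (a * s)) (↑(flip hC s))
    {r | ∃ hr : r < D.nroots, (hC.hom s ⟨r, hr⟩).val ∈ flip hC a} (fun r hr => by
      obtain ⟨h1, h2, h3⟩ := mem_flip.1 hr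
      rcases Nat.lt_or_ge (hC.hom s ⟨r, h1⟩).val (D.nroots / 2) with h | h
      · exact Or.inl (Finset.mem_coe.2 (mem_flip.2 ⟨h1, h2, h⟩))
      · refine Or.inr ⟨h1, mem_flip.2 ⟨Fin.isLt _, h, ?_⟩⟩
        rwa [map_mul, Equiv.Perm.mul_apply] at h3) hv
  exact ⟨(⟨x, hx⟩, ⟨m * y * m⁻¹, S.conj_image s hm (fun r hr => hr) hy⟩),
    by simp only [splitMap]; group⟩

/-- The image is exactly `U_(a s)` when the inversion numbers add. -/
theorem range_splitMap [Finite G] [Finite F] (hm : ∃ k ∈ S.H, m = k * S.rep s)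
    (hadd : hC.inv (a * s) = hC.inv a + hC.inv s) :
    Set.range (S.splitMap a s m) = (S.Uw (a * s) : Set G) := by
  refine (Set.eq_of_subset_of_ncard_le (fun v hv => S.splitMap_cover a s m hm hv) ?_
    (Set.toFinite _)).symm
  have h1 : (Set.range (S.splitMap a s m)).ncard = Nat.card (↥(S.Uw s) × ↥(S.Uw a)) := by
    rw [← Nat.card_coe_set_eq, Nat.card_range_of_injective (S.splitMap_inj a s m hm)]
  have h2 : ((S.Uw (a * s) : Set G)).ncard = Nat.card ↥(S.Uw (a * s)) := by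
    rw [← Nat.card_coe_set_eq]; rfl
  show (Set.range (S.splitMap a s m)).ncard ≤ _
  rw [h1, h2, Nat.card_prod, S.card_Uw, S.card_Uw, S.card_Uw, hadd, pow_add, mul_comm]

end Cfsg.Agent.H37.RootSys.Sys
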