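import Cfsg.Agent.H37.Twist.Endo
import Cfsg.Agent.H37.Twist.Split
import Cfsg.Agent.H37.Tits.Folded
import Cfsg.Agent.H37.Tits.Transport
import Cfsg.Agent.H37.Chev.Result

/-!
A twisted group as the fixed points of the endomorphism: identification with a given group `T`
generated by fixed elements, its split Tits system over the folded Weyl group, the orders of the
subgroups `U_w` in it.
-/
set_option autoImplicit false

namespace Cfsg.Agent.H37.Twist

open Cfsg.Lie Cfsg.Agent.H37.RootSys Cfsg.Agent.H37.NormalForm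

variable {D : ChevalleyDatum} {K : Type*} [Field K] {Q : Chev.Data D K}

/-- The folded Weyl group. -/
structure Fold (E : Endo Q) (W' : Type*) [Group W'] where
  ι : W' →* Q.X.M.Group
  ι_inj : Function.Injective ι
  ι_range : ∀ w, E.s.tau w = w ↔ w ∈ ι.range
  k : ℕ
  gens : Fin k → W'
  closure_gens : Subgroup.closure (Set.range gens) = ⊤
  sq_gens : ∀ j, gens j * gens j = 1
  gens_ne : ∀ j, gens j ≠ 1
  word : Fin k → List ℕ
  word_lt : ∀ j, ∀ a ∈ word j, a < Q.X.n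
  ι_gens : ∀ j, ι (gens j) = Weyl.wOf Q.X.M (word j)
  orbit : ∀ j, ∀ c ∈ Subgroup.closure {x | x ∈ (word j).map (Weyl.gen Q.X.M)},
    E.s.tau c = c → c = 1 ∨ c = ι (gens j)
  desc : ∀ a, a ≠ 1 → ∃ j,
    Q.X.good.inv (ι (a * gens j)) + Q.X.good.inv (ι (gens j)) = Q.X.good.inv (ι a)

/-- A group of fixed elements containing the basic fixed pieces. -/
structure Model {E : Endo Q} {W' : Type*} [Group W'] (Φ : Fold E W') where
  T : Subgroup (GL D.Idx K)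
  le_group : T ≤ D.group K
  le_fixed : ∀ g : ↥(D.group K), (g : GL D.Idx K) ∈ T → E.σ g = g
  n_mem : ∀ j, ∃ h ∈ Q.sys.H,
    ((h * Q.sys.rep (Φ.ι (Φ.gens j)) : ↥(D.group K)) : GL D.Idx K) ∈ T
  H_mem : ∀ h ∈ Q.sys.H, E.σ h = h → (h : GL D.Idx K) ∈ T
  e : ℕ
  base_mem : ∀ j, ∀ v ∈ Q.sys.Uw (Φ.ι (Φ.gens j)), E.σ v = v → (v : GL D.Idx K) ∈ T
  base_card : ∀ j, Nat.card ↥(Q.sys.Uw (Φ.ι (Φ.gens j)) ⊓ fixedPts E.σ) ^ e
    = Nat.card K ^ Q.X.good.inv (Φ.ι (Φ.gens j))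

variable {E : Endo Q} {W' : Type*} [Group W'] {Φ : Fold E W'} (Md : Model Φ)

namespace Model

/-- The group inside the Chevalley group. -/
def TG : Subgroup ↥(D.group K) := Md.T.subgroupOf (D.group K)

theorem exists_rep (a : W') : ∃ h ∈ Q.sys.H, h * Q.sys.rep (Φ.ι a) ∈ Md.TG := by
  have ha : a ∈ Subgroup.closure (Set.range Φ.gens) := by rw [Φ.closure_gens]; trivial
  induction ha using Subgroup.closure_induction with
  | mem x hx => obtain ⟨j, rfl⟩ := hx; exact Md.n_mem j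
  | one => exact ⟨1, one_mem _, by rw [map_one, Q.sys.rep_one, mul_one]; exact one_mem _⟩
  | mul x y _ _ ihx ihy =>
      obtain ⟨h, hh, hm⟩ := ihx
      obtain ⟨h', hh', hm'⟩ := ihy
      obtain ⟨k, hk, e⟩ := Q.sys.rep_mul (Φ.ι x) (Φ.ι y)
      rw [← map_mul] at e
      refine ⟨h * (Q.sys.rep (Φ.ι x) * h' * (Q.sys.rep (Φ.ι x))⁻¹) * k,
        mul_mem (mul_mem hh (Q.sys.rep_conj_H _ hh')) hk, ?_⟩
      rw [mul_assoc _ k, ← e]
      convert mul_mem hm hm' using 1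
      group
  | inv x _ ihx =>
      obtain ⟨h, hh, hm⟩ := ihx
      obtain ⟨k, hk, e⟩ := Q.sys.rep_inv (Φ.ι x)
      rw [← map_inv] at e
      refine ⟨k⁻¹⁻¹ * (Q.sys.rep (Φ.ι x⁻¹) * h⁻¹ * (Q.sys.rep (Φ.ι x⁻¹))⁻¹),
        mul_mem (inv_mem (inv_mem hk)) (Q.sys.rep_conj_H _ (inv_mem hh)), ?_⟩
      convert inv_mem hm using 1
      rw [mul_inv_rev, e]
      group

open Classical in
/-- Representatives, fixed on the fixed elements. -/
noncomputable def rep (w : Q.X.M.Group) : ↥(D.group K) :=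
  if w = 1 then 1
  else if h : ∃ a, Φ.ι a = w then (Md.exists_rep h.choose).choose * Q.sys.rep w
  else Q.sys.rep w

theorem rep_spec (w : Q.X.M.Group) : ∃ k ∈ Q.sys.H, Md.rep w = k * Q.sys.rep w := by
  classical
  unfold rep
  split_ifs with h1 h2
  · exact ⟨1, one_mem _, by subst h1; rw [Q.sys.rep_one, mul_one]⟩
  · exact ⟨_, (Md.exists_rep h2.choose).choose_spec.1, rfl⟩
  · exact ⟨1, one_mem _, (one_mul _).symm⟩

theorem rep_mem (a : W') : Md.rep (Φ.ι a) ∈ Md.TG := by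
  classical
  unfold rep
  split_ifs with h1 h2
  · exact one_mem _
  · have := (Md.exists_rep h2.choose).choose_spec.2
    convert this using 3
    rw [h2.choose_spec]
  · exact absurd ⟨a, rfl⟩ h2

theorem TG_fixed {g : ↥(D.group K)} (hg : g ∈ Md.TG) : E.σ g = g := Md.le_fixed g hg

/-- The ambient system with the new representatives. -/
noncomputable def amb : Tits.Ambient ↥(D.group K) Q.X.M.Group :=
  Q.amb.changeRep Md.rep Md.rep_spec (by classical simp [rep])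

/-- Compatibility with the endomorphism. -/
noncomputable def compat : Md.amb.toNormalForm.Compat E.σ where
  τ := E.s.tau
  c w := E.σ (Md.rep w) * (Md.rep (E.s.tau w))⁻¹
  c_mem w := by
    obtain ⟨k, hk, e⟩ := Md.rep_spec w
    obtain ⟨l, hl, e'⟩ := Md.rep_spec (E.s.tau w)
    obtain ⟨h, hh, e''⟩ := E.σ_rep w
    show E.σ (Md.rep w) * (Md.rep (E.s.tau w))⁻¹ ∈ Q.sys.H
    rw [e, e', map_mul, e'', show E.σ k * (h * Q.sys.rep (E.s.tau w)) *
      (l * Q.sys.rep (E.s.tau w))⁻¹ = E.σ k * h * l⁻¹ by group]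
    exact mul_mem (mul_mem (E.σ_h hk) hh) (inv_mem hl)
  c_fixed w hw := by
    obtain ⟨a, rfl⟩ := (Φ.ι_range w).1 hw
    rw [hw, Md.TG_fixed (Md.rep_mem a), mul_inv_cancel]
  map_U _ hu := E.σ_U hu
  map_H _ hh := E.σ_h hh
  map_Uw _ _ hv := E.σ_Uw hv
  map_n w := by
    show E.σ (Md.rep w) = E.σ (Md.rep w) * (Md.rep (E.s.tau w))⁻¹ * Md.rep (E.s.tau w)
    group

theorem inv_pos (j : Fin Φ.k) : 0 < Q.X.good.inv (Φ.ι (Φ.gens j)) := by
  refine Nat.pos_of_ne_zero fun h => Φ.gens_ne j (Φ.ι_inj ?_)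
  rw [Q.X.good.eq_one_of_inv_eq_zero h, map_one]

theorem tau_ι (a : W') : E.s.tau (Φ.ι a) = Φ.ι a := (Φ.ι_range _).2 ⟨a, rfl⟩

/-- The fixed part of every `U_w`. -/
theorem Uw_fixed [Finite K] : ∀ a : W',
    (∀ v ∈ Q.sys.Uw (Φ.ι a), E.σ v = v → v ∈ Md.TG) ∧
    Nat.card ↥(Q.sys.Uw (Φ.ι a) ⊓ fixedPts E.σ) ^ Md.e
      = Nat.card K ^ Q.X.good.inv (Φ.ι a) := by
  intro a
  induction hN : Q.X.good.inv (Φ.ι a) using Nat.strong_induction_on generalizing a with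
  | _ N ih =>
    subst hN
    by_cases ha : a = 1
    · subst ha
      rw [map_one, Q.sys.Uw_one, Q.X.good.inv_one]
      refine ⟨fun v hv _ => by rw [Subgroup.mem_bot] at hv; rw [hv]; exact one_mem _, ?_⟩
      simp
    obtain ⟨j, hj⟩ := Φ.desc a ha
    have hlt : Q.X.good.inv (Φ.ι (a * Φ.gens j)) < Q.X.good.inv (Φ.ι a) := by
      have := inv_pos (Φ := Φ) j
      omega
    obtain ⟨ihT, ihc⟩ := ih _ hlt (a * Φ.gens j) rfl
    set s := Φ.ι (Φ.gens j) with hs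
    set b := Φ.ι (a * Φ.gens j) with hb
    have hbs : b * s = Φ.ι a := by rw [hb, hs, ← map_mul, mul_assoc, Φ.sq_gens, mul_one]
    rw [← hbs] at hj ⊢
    set m := Md.rep s with hm
    have hmT : m ∈ Md.TG := Md.rep_mem _
    have hmσ : E.σ m = m := Md.TG_fixed hmT
    have hm' : ∃ k ∈ Q.sys.H, m = k * Q.sys.rep s := Md.rep_spec s
    have hrange := Q.sys.range_splitMap b s m hm' (by omega)
    have hsplit : ∀ (x z : ↥(D.group K)) (hx : x ∈ Q.sys.Uw s) (hz : z ∈ Q.sys.Uw b),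
        E.σ (x * (m⁻¹ * z * m)) = x * (m⁻¹ * z * m) → E.σ x = x ∧ E.σ z = z := by
      intro x z hx hz e
      have hx' : E.σ x ∈ Q.sys.Uw s := by have := E.σ_Uw hx; rwa [tau_ι] at this
      have hz' : E.σ z ∈ Q.sys.Uw b := by have := E.σ_Uw hz; rwa [tau_ι] at this
      rw [map_mul, map_mul, map_mul, map_inv, hmσ] at e
      have h := Q.sys.splitMap_inj b s m hm'
        (a₁ := (⟨_, hx'⟩, ⟨_, hz'⟩)) (a₂ := (⟨x, hx⟩, ⟨z, hz⟩)) e
      simp only [Prod.mk.injEq, Subtype.mk.injEq] at h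
      exact h
    refine ⟨fun v hv hfix => ?_, ?_⟩
    · obtain ⟨⟨⟨x, hx⟩, ⟨z, hz⟩⟩, rfl⟩ : v ∈ Set.range (Q.sys.splitMap b s m) := by
        rw [hrange]; exact hv
      obtain ⟨h1, h2⟩ := hsplit x z hx hz hfix
      exact mul_mem (Md.base_mem j x hx h1) (mul_mem (mul_mem (inv_mem hmT) (ihT z hz h2)) hmT)
    · have hmem : ∀ p : ↥(Q.sys.Uw s) × ↥(Q.sys.Uw b),
          Q.sys.splitMap b s m p ∈ Q.sys.Uw (b * s) := fun p => by
        have : Q.sys.splitMap b s m p ∈ Set.range (Q.sys.splitMap b s m) := ⟨p, rfl⟩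
        rwa [hrange] at this
      let φ : ↥(Q.sys.Uw s ⊓ fixedPts E.σ) × ↥(Q.sys.Uw b ⊓ fixedPts E.σ) →
          ↥(Q.sys.Uw (b * s) ⊓ fixedPts E.σ) := fun p =>
        ⟨Q.sys.splitMap b s m (⟨p.1.1, p.1.2.1⟩, ⟨p.2.1, p.2.2.1⟩), hmem _, by
          show E.σ (p.1.1 * (m⁻¹ * p.2.1 * m)) = _
          rw [map_mul, map_mul, map_mul, map_inv, hmσ, show E.σ p.1.1 = p.1.1 from p.1.2.2,
            show E.σ p.2.1 = p.2.1 from p.2.2.2]
          rfl⟩
      have hφ : Function.Bijective φ := by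
        constructor
        · intro p q hpq
          have h := Q.sys.splitMap_inj b s m hm' (congrArg Subtype.val hpq)
          simp only [Prod.mk.injEq, Subtype.mk.injEq] at h
          exact Prod.ext (Subtype.ext h.1) (Subtype.ext h.2)
        · rintro ⟨v, hv, hfix⟩
          obtain ⟨⟨⟨x, hx⟩, ⟨z, hz⟩⟩, rfl⟩ : v ∈ Set.range (Q.sys.splitMap b s m) := by
            rw [hrange]; exact hv
          obtain ⟨h1, h2⟩ := hsplit x z hx hz hfix
          exact ⟨(⟨x, hx, h1⟩, ⟨z, hz, h2⟩), rfl⟩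
      rw [← Nat.card_eq_of_bijective φ hφ, Nat.card_prod, mul_pow, Md.base_card, ihc, ← pow_add]
      congr 1
      have : Q.X.good.inv s = Q.X.good.inv (Φ.ι (Φ.gens j)) := rfl
      omega

theorem eq_w0 {w : Q.X.M.Group}
    (h : ∀ r (hr : r < D.nroots), D.nroots / 2 ≤ r → (Q.X.good.hom w ⟨r, hr⟩).val < D.nroots / 2) :
    w = Q.X.w0 := by
  have hev := Q.X.good.even
  suffices w * Q.X.w0⁻¹ = 1 from mul_inv_eq_one.1 this
  refine Q.X.good.eq_one_of_inv_eq_zero ?_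
  rw [← Sys.card_flip, Finset.card_eq_zero, Finset.eq_empty_iff_forall_notMem]
  intro r hr
  obtain ⟨h1, h2, h3⟩ := Sys.mem_flip.1 hr
  rw [map_mul, Equiv.Perm.mul_apply] at h3
  generalize hy : Q.X.good.hom Q.X.w0⁻¹ ⟨r, h1⟩ = y at h3
  have hback : Q.X.good.hom Q.X.w0 y = ⟨r, h1⟩ := by rw [← hy]; simp
  rcases Nat.lt_or_ge y.val (D.nroots / 2) with hlt | hge
  · have := h (D.nroots - 1 - y.val) (by omega) (by omega)
    rw [Q.X.good.hom_neg w y] at this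
    omega
  · have := Q.X.w0_neg y.isLt hge
    rw [Fin.eta, hback] at this
    simp only at this
    omega

theorem exists_w0 : ∃ a, Φ.ι a = Q.X.w0 := by
  refine (Φ.ι_range _).1 (eq_w0 fun r hr hp => ?_)
  set r' := (E.s.perm).symm ⟨r, hr⟩ with hr'
  have hback : E.s.perm r' = ⟨r, hr⟩ := by simp [hr']
  have hpos : D.nroots / 2 ≤ r'.val := by
    have := congrArg Fin.val hback
    simp only [Sigma.perm_val] at this
    exact (E.s.root_spec r'.isLt).2.1.1 (this ▸ hp)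
  rw [← hback, E.s.hom_tau_apply, Sigma.perm_val]
  have h := Q.X.w0_neg r'.isLt hpos
  simp only [Fin.eta] at h
  by_contra hcon
  have := (E.s.root_spec (Fin.isLt (Q.X.good.hom Q.X.w0 r'))).2.1.1 (by omega)
  omega

/-- The element of the folded group mapping to the longest element. -/
noncomputable def w0 (_Md : Model Φ) : W' := (exists_w0 (Φ := Φ)).choose

theorem ι_w0 : Φ.ι Md.w0 = Q.X.w0 := (exists_w0 (Φ := Φ)).choose_spec

theorem Uw_ι_w0 : Q.sys.Uw (Φ.ι Md.w0) = Q.sys.U := by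
  rw [Md.ι_w0]; exact Q.Uw_w0

variable [Finite K]

theorem fixed_eq : Md.TG = fixedPts E.σ := by
  refine le_antisymm (fun g hg => Md.TG_fixed hg) (Md.compat.fixedPts_le ?_ ?_ ?_ ?_)
  · rintro v ⟨hv, hfix⟩
    exact (Md.Uw_fixed Md.w0).1 v (by rw [Md.Uw_ι_w0]; exact hv) hfix
  · rintro h ⟨hh, hfix⟩
    exact Md.H_mem h hh hfix
  · intro w hw
    obtain ⟨a, rfl⟩ := (Φ.ι_range w).1 hw
    exact Md.rep_mem a
  · rintro w hw v ⟨hv, hfix⟩
    obtain ⟨a, rfl⟩ := (Φ.ι_range w).1 hw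
    exact (Md.Uw_fixed a).1 v hv hfix

theorem base_ne (Md : Model Φ) (j : Fin Φ.k) :
    ∃ v ∈ Q.sys.Uw (Φ.ι (Φ.gens j)), E.σ v = v ∧ v ≠ 1 := by
  by_contra hcon
  push Not at hcon
  have : Q.sys.Uw (Φ.ι (Φ.gens j)) ⊓ fixedPts E.σ = ⊥ :=
    eq_bot_iff.2 fun v hv => Subgroup.mem_bot.2 (hcon v hv.1 hv.2)
  have h := Md.base_card j
  rw [this, Subgroup.card_bot, one_pow] at h
  have := inv_pos (Φ := Φ) j
  have h1 : 1 < Nat.card K := Finite.one_lt_card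
  have := Nat.one_lt_pow (n := Q.X.good.inv (Φ.ι (Φ.gens j))) (by omega) h1
  omega

/-- The folding of the split Tits system. -/
noncomputable def folding : Tits.Folding Md.amb E.σ W' where
  compat := Md.compat
  τ_mul a b := map_mul E.s.tau a b
  ι := Φ.ι
  ι_inj := Φ.ι_inj
  ι_range := Φ.ι_range
  S := Set.range Φ.gens
  closure_S := Φ.closure_gens
  sq_S := by rintro _ ⟨j, rfl⟩; exact Φ.sq_gens j
  orbit := by
    rintro _ ⟨j, rfl⟩
    refine ⟨(Φ.word j).map (Weyl.gen Q.X.M), fun x hx => ?_, (Φ.ι_gens j).symm, Φ.orbit j⟩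
    obtain ⟨a, ha, rfl⟩ := List.mem_map.1 hx
    exact ⟨⟨a, Φ.word_lt j a ha⟩, (Sigma.gen_fin ⟨a, Φ.word_lt j a ha⟩).symm⟩
  Uw_ne := by rintro _ ⟨j, rfl⟩; exact Md.base_ne j

/-- The twisted group as the fixed points. -/
noncomputable def iso : ↥(fixedPts E.σ) ≃* ↥Md.T :=
  (MulEquiv.subgroupCongr Md.fixed_eq.symm).trans (Subgroup.subgroupOfEquivOfLe Md.le_group)

@[simp] theorem coe_iso (g : ↥(fixedPts E.σ)) :
    ((Md.iso g : ↥Md.T) : GL D.Idx K) = ((g : ↥(D.group K)) : GL D.Idx K) := rfl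

/-- The split Tits system of the twisted group. -/
noncomputable def tw : Tits.Ambient ↥Md.T W' := Md.folding.ambient.map Md.iso

theorem map_subgroupOf (L : Subgroup (GL D.Idx K)) :
    ((L.subgroupOf (D.group K)).subgroupOf (fixedPts E.σ)).map Md.iso.toMonoidHom
      = L.subgroupOf Md.T := by
  ext g
  rw [Subgroup.mem_subgroupOf]
  constructor
  · rintro ⟨x, hx, rfl⟩; exact hx
  · intro hg
    exact ⟨Md.iso.symm g, by
      show ((Md.iso (Md.iso.symm g) : ↥Md.T) : GL D.Idx K) ∈ L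
      simpa using hg, by simp⟩

theorem tw_U : Md.tw.U = (D.posUnipotent K).subgroupOf Md.T := by
  show ((Q.amb.U).subgroupOf _).map _ = _
  rw [Q.amb_U, Md.map_subgroupOf]

theorem tw_H : Md.tw.H = (D.diagonalSubgroup K).subgroupOf Md.T := Md.map_subgroupOf _

theorem fold_B : Md.folding.ambient.B = (Q.amb.B).subgroupOf _ := by
  ext g
  rw [Subgroup.mem_subgroupOf]
  constructor
  · rintro ⟨u, hu, h, hh, rfl⟩
    exact ⟨_, hu, _, hh, rfl⟩
  · rintro ⟨u, hu, h, hh, e⟩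
    have e' : (g : ↥(D.group K)) = u * h * Md.amb.n 1 * 1 := by
      rw [Md.amb.n_one, e]; group
    obtain ⟨-, h2, h3, -⟩ :=
      (Md.compat.fixed_iff hu hh (one_mem (Md.amb.Uw 1))).1 (by rw [← e']; exact g.2)
    exact ⟨⟨u, h2⟩, hu, ⟨h, h3⟩, hh, Subtype.ext e⟩

theorem fold_N : Md.folding.ambient.N = (Q.amb.N).subgroupOf _ := by
  ext g
  rw [Subgroup.mem_subgroupOf]
  constructor
  · rintro ⟨h, hh, a, rfl⟩
    obtain ⟨k, hk, e⟩ := Md.rep_spec (Φ.ι a)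
    exact ⟨h.1 * k, mul_mem hh hk, Φ.ι a, by
      show h.1 * Md.rep (Φ.ι a) = _
      rw [e, ← mul_assoc]; rfl⟩
  · rintro ⟨h, hh, w, e⟩
    obtain ⟨k, hk, ek⟩ := Md.rep_spec w
    have e' : (g : ↥(D.group K)) = 1 * (h * k⁻¹) * Md.amb.n w * 1 := by
      show _ = 1 * (h * k⁻¹) * Md.rep w * 1
      rw [e, ek]
      show h * Q.sys.rep w = _
      group
    obtain ⟨h1, -, h3, -⟩ := (Md.compat.fixed_iff (one_mem _)
      (mul_mem hh (inv_mem hk)) (one_mem (Md.amb.Uw w))).1 (by rw [← e']; exact g.2)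
    obtain ⟨a, rfl⟩ := (Φ.ι_range w).1 h1
    exact ⟨⟨h * k⁻¹, h3⟩, mul_mem hh (inv_mem hk), a, Subtype.ext (by
      rw [e']
      show 1 * (h * k⁻¹) * Md.amb.n (Φ.ι a) * 1 = (h * k⁻¹) * Md.amb.n (Φ.ι a)
      group)⟩

theorem tw_B : Md.tw.B = (D.borelSubgroup K).subgroupOf Md.T := by
  rw [tw, Tits.Ambient.map_B, Md.fold_B, Q.amb_B, Md.map_subgroupOf]

theorem tw_N : Md.tw.N = (D.monomialSubgroup K).subgroupOf Md.T := by
  rw [tw, Tits.Ambient.map_N, Md.fold_N, Q.amb_N, Md.map_subgroupOf]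

theorem card_tw_Uw (a : W') :
    Nat.card (Md.tw.Uw a) ^ Md.e = Nat.card K ^ Q.X.good.inv (Φ.ι a) := by
  rw [← (Md.Uw_fixed a).2]
  congr 1
  show Nat.card ↥(((Q.sys.Uw (Φ.ι a)).subgroupOf _).map Md.iso.toMonoidHom) = _
  rw [Nat.card_congr (Subgroup.equivMapOfInjective _ _ Md.iso.injective).toEquiv.symm,
    ← Subgroup.inf_subgroupOf_right,
    Nat.card_congr (Subgroup.subgroupOfEquivOfLe inf_le_right).toEquiv]

theorem tw_Uw_w0 : Md.tw.Uw Md.w0 = Md.tw.U := by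
  show ((Q.sys.Uw (Φ.ι Md.w0)).subgroupOf _).map _ = _
  rw [Md.Uw_ι_w0]
  rfl

theorem card_tw_U : Nat.card Md.tw.U ^ Md.e = Nat.card K ^ (D.nroots / 2) := by
  rw [← Md.tw_Uw_w0, Md.card_tw_Uw, Md.ι_w0, ← Q.card_Uw Q.X.w0, Q.Uw_w0, Q.card_U]

end Model

end Cfsg.Agent.H37.Twist
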