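import Cfsg.Agent.H37.Twist.D4Torus

/-!
`³D₄(q)`: the model, the orders and the split Tits system.
-/
set_option autoImplicit false
set_option maxRecDepth 100000

namespace Cfsg.Agent.H37.Twist.D4

open Cfsg.Lie Cfsg.Agent.H37.RootSys Cfsg.Agent.H37.NormalForm

variable {K : Type*} [Field K] [Fintype K] {φ : K →+* K} {q : ℕ}

theorem two_le (hK : Fintype.card K = q ^ 3) : 2 ≤ q := by
  have h := Fintype.one_lt_card (α := K)
  rw [hK] at h
  by_contra hc
  interval_cases q <;> simp_all

theorem sub_dvd (hK : Fintype.card K = q ^ 3) : q - 1 ∣ Fintype.card K - 1 := by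
  rw [hK]
  simpa using Nat.sub_dvd_pow_sub_pow q 1 3

theorem inv_ι (φ : K →+* K) (i : Fin 2) :
    (QD K).X.good.inv ((fold φ).ι ((fold φ).gens i)) = (orbL i.val).length := by
  rw [ι_gen, ← Sys.card_flip, show Sys.flip (QD K).X.good
      (Weyl.wOf (QD K).X.M (H37.Fold.dataD4.word i.val)) = (orb φ i).L.toFinset from
      (orb φ i).flip_set,
    List.toFinset_card_of_nodup ((orb φ i).sorted.imp fun h => Nat.ne_of_lt h)]
  rfl

theorem base (hφ : ∀ t, φ t = t ^ q) (hK : Fintype.card K = q ^ 3) (j : Fin 2) :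
    Nat.card ↥((QD K).sys.Uw ((fold φ).ι ((fold φ).gens j)) ⊓ fixedPts (endo φ).σ)
        = q ^ (orbL j.val).length ∧
    ∀ v ∈ (QD K).sys.Uw ((fold φ).ι ((fold φ).gens j)),
      (endo φ).σ v = v → (v : GL chevD4.Idx K) ∈ twistedD4 K q := by
  obtain ⟨r1, r2, r3, r4, -⟩ := rh_ok
  rw [ι_gen]
  fin_cases j
  · set O := orb φ (0 : Fin 2) with hO
    have hL : O.L = [12, 13, 18] := rfl
    set P : K → ℕ → K := fun x r => if r = 18 then x else if r = 13 then x ^ q else (x ^ q) ^ q
      with hP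
    obtain ⟨h1, h2⟩ := O.param P
      (fun x r hr => by
        rw [hL] at hr
        simp only [List.mem_cons, List.not_mem_nil, or_false] at hr
        rcases hr with h | h | h <;> subst h
        · rw [f_pow hφ (by decide), show (endo φ).s.T.rh 12 = 18 from r3]
          simp [hP, pow_three_card hK]
        · rw [f_pow hφ (by decide), show (endo φ).s.T.rh 13 = 12 from r2]
          simp [hP]
        · rw [f_pow hφ (by decide), show (endo φ).s.T.rh 18 = 13 from r1]
          simp [hP])
      (fun x y h => by simpa [hP] using h 18 (by simp [hL]))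
      (fun t ht => ⟨t 18, fun r hr => by
        have e1 := ht 18 (by simp [hL])
        have e2 := ht 13 (by simp [hL])
        rw [show (endo φ).s.T.rh 18 = 13 from r1, f_pow hφ (by decide)] at e1
        rw [show (endo φ).s.T.rh 13 = 12 from r2, f_pow hφ (by decide), e1] at e2
        rw [hL] at hr
        simp only [List.mem_cons, List.not_mem_nil, or_false] at hr
        rcases hr with h | h | h <;> subst h
        · simp [hP, e2]
        · simp [hP, e1]
        · simp [hP]⟩)
    refine ⟨h1.trans (by rw [Nat.card_eq_fintype_card, hK]; rfl), fun v hv hvf => ?_⟩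
    obtain ⟨x, rfl⟩ := h2 v hv hvf
    have e : xprod (QD K) O.L (P x) = xe 18 x * xe 13 (x ^ q) * xe 12 ((x ^ q) ^ q) := by
      rw [← O.xprod_perm (L' := [18, 13, 12]) (by rw [hL]; decide) (P x)]
      simp [xprod, hP, mul_assoc]
    rw [e]
    exact triple_mem (by decide) x
  · set O := orb φ (1 : Fin 2) with hO
    have hLa : O.L = [14] := rfl
    obtain ⟨h1, h2⟩ := O.param (X := {t : K // t ^ q = t}) (fun x _ => x.1)
      (fun x r hr => by
        rw [hLa, List.mem_singleton] at hr
        subst hr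
        rw [f_pow hφ (by decide), x.2])
      (fun x y h => Subtype.ext (h 14 (by simp [hLa])))
      (fun t ht => ⟨⟨t 14, by
        have := ht 14 (by simp [hLa])
        rw [show (endo φ).s.T.rh 14 = 14 from r4, f_pow hφ (by decide)] at this
        exact this.symm⟩, fun r hr => by
        rw [hLa, List.mem_singleton] at hr
        subst hr
        rfl⟩)
    refine ⟨(h1.trans (card_pow_eq_self (two_le hK) (sub_dvd hK)).2).trans (pow_one q).symm,
      fun v hv hvf => ?_⟩
    obtain ⟨x, rfl⟩ := h2 v hv hvf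
    rw [hLa]
    simpa [xprod] using single_mem (r := 14) (by decide) x.2

/-- `³D₄(q)` with its fixed pieces. -/
noncomputable def model (hφ : ∀ t, φ t = t ^ q) (hK : Fintype.card K = q ^ 3) :
    Model (fold φ) where
  T := twistedD4 K q
  le_group := twisted_le
  le_fixed := le_fixed hφ hK
  n_mem := n_mem hφ
  H_mem := H_mem hφ hK
  e := 3
  base_mem j := (base hφ hK j).2
  base_card j := by
    refine (congrArg (· ^ 3) (base hφ hK j).1).trans
      (Eq.trans ?_ (congrArg (Nat.card K ^ ·) (inv_ι φ j)).symm)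
    show (q ^ _) ^ 3 = Nat.card K ^ _
    rw [Nat.card_eq_fintype_card, hK, ← pow_mul, ← pow_mul, mul_comm]

theorem faith (hφ : ∀ t, φ t = t ^ q) (h : ↥(chevD4.group K)) (hh : h ∈ (QD K).sys.H)
    (_hfix : (endo φ).σ h = h)
    (hc : ∀ v ∈ (QD K).sys.U, (endo φ).σ v = v → h * v = v * h) : h = 1 := by
  refine faith_of_orbits (orb φ) (fun j r hr => ?_) (fun i hi => ?_) h hh hc
  · have hr' : r ∈ orbL j.val := hr
    have : r ∈ [18, 14, 13, 12, 5, 9, 10, 11] :=
      (show ∀ j : Fin 2, ∀ r ∈ orbL j.val, r ∈ [18, 14, 13, 12, 5, 9, 10, 11] by decide +kernel)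
        j r hr'
    rw [f_pow hφ this, one_pow]
  · exact (show ∀ i : Fin 4, ∃ j : Fin 2, chevD4.simple i.val ∈ orbL j.val by decide +kernel) ⟨i, hi⟩

theorem card_H (hφ : ∀ t, φ t = t ^ q) (hK : Fintype.card K = q ^ 3) :
    Nat.card ↥(chevD4.diagonalSubgroup K ⊓ twistedD4 K q)
      = (q - 1) ^ 2 * (q ^ 2 + q + 1) := by
  classical
  have hq := two_le hK
  set Md := model hφ hK
  have e1 : Nat.card ↥(chevD4.diagonalSubgroup K ⊓ twistedD4 K q)
      = Nat.card ↥((QD K).sys.H ⊓ fixedPts (endo φ).σ) := by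
    have h1 : Nat.card ↥(chevD4.diagonalSubgroup K ⊓ Md.T) = Nat.card ↥Md.tw.H := by
      rw [Md.card_inf_eq, Md.tw_H]
    have h2 : Nat.card ↥Md.tw.H = Nat.card ↥(((QD K).sys.H).subgroupOf (fixedPts (endo φ).σ)) :=
      Nat.card_congr (Subgroup.equivMapOfInjective _ _ Md.iso.injective).toEquiv.symm
    rw [show twistedD4 K q = Md.T from rfl, h1, h2, ← Subgroup.inf_subgroupOf_right,
      Nat.card_congr (Subgroup.subgroupOfEquivOfLe inf_le_right).toEquiv]
  let ψ : {c : Fin chevD4.rank → Kˣ // (endo φ).hat (fun _ => q) c = c} →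
      ↥((QD K).sys.H ⊓ fixedPts (endo φ).σ) := fun c => ⟨tG (QD K) c.1, tG_mem _ _, by
      show (endo φ).σ (tG (QD K) c.1) = tG (QD K) c.1
      rw [(endo φ).σ_tG (noSign hφ)]
      exact congrArg _ c.2⟩
  have hψ : Function.Bijective ψ := by
    constructor
    · intro c d e
      have e' : tG (QD K) c.1 = tG (QD K) d.1 := congrArg Subtype.val e
      refine Subtype.ext (div_eq_one.1 (fixed_ker (φ := φ) (q := q) ?_ ?_))
      · rw [map_div, c.2, d.2]
      · rw [map_div, e', div_self']
    · rintro ⟨h, hh, hfix⟩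
      obtain ⟨c, hc, e⟩ := exists_fixed hφ hK hh hfix
      exact ⟨⟨c, hc⟩, Subtype.ext e⟩
  rw [e1, ← Nat.card_eq_of_bijective ψ hψ, Nat.card_congr (fixParam hK), Nat.card_prod,
    (card_pow_eq_self hq (sub_dvd hK)).1, Nat.card_eq_fintype_card (α := Kˣ), Fintype.card_units,
    hK, ← sub_one_mul_geom q 3 (by omega)]
  simp only [Finset.sum_range_succ, Finset.sum_range_zero]
  ring

theorem card_U (hφ : ∀ t, φ t = t ^ q) (hK : Fintype.card K = q ^ 3) :
    Nat.card ↥(chevD4.posUnipotent K ⊓ twistedD4 K q) = q ^ 12 := by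
  have h := (model hφ hK).card_U_inf
  rw [Nat.card_eq_fintype_card (α := K), hK, ← pow_mul,
    show 3 * (chevD4.nroots / 2) = 12 * 3 by decide +kernel, pow_mul] at h
  exact Nat.pow_left_injective (show (3 : ℕ) ≠ 0 by norm_num) h

theorem card_group (hφ : ∀ t, φ t = t ^ q) (hK : Fintype.card K = q ^ 3) :
    Nat.card ↥(twistedD4 K q) =
      q ^ 12 * (q ^ 2 - 1) * (q ^ 6 - 1) * (q ^ 8 + q ^ 4 + 1) := by
  have hq := two_le hK
  set Md := model hφ hK
  show Nat.card ↥Md.T = _
  refine card_of_cells_twistedD4 Md.tw.toNormalForm (by omega) ?_ ?_ fun w => ?_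
  · rw [Md.tw_U, ← Md.card_inf_eq]
    exact card_U hφ hK
  · rw [Md.tw_H, ← Md.card_inf_eq]
    exact card_H hφ hK
  · have h := Md.card_tw_Uw w
    rw [Nat.card_eq_fintype_card (α := K), hK, ← pow_mul, mul_comm 3, pow_mul] at h
    exact Nat.pow_left_injective (show (3 : ℕ) ≠ 0 by norm_num) h

end Cfsg.Agent.H37.Twist.D4
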