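import Cfsg.Agent.H37.Twist.E6Torus

/-!
`²E₆(q)`: the model, the orders and the split Tits system.
-/
set_option autoImplicit false
set_option maxRecDepth 100000

namespace Cfsg.Agent.H37.Twist.E6

open Cfsg.Lie Cfsg.Agent.H37.RootSys Cfsg.Agent.H37.NormalForm

variable {K : Type*} [Field K] [Fintype K] {φ : K →+* K} {q : ℕ}

theorem two_le (hK : Fintype.card K = q ^ 2) : 2 ≤ q := by
  have h := Fintype.one_lt_card (α := K)
  rw [hK] at h
  by_contra hc
  interval_cases q <;> simp_all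

theorem sub_dvd (hK : Fintype.card K = q ^ 2) : q - 1 ∣ Fintype.card K - 1 := by
  rw [hK]
  simpa using Nat.sub_dvd_pow_sub_pow q 1 2

theorem inv_ι (φ : K →+* K) (i : Fin 4) :
    (QE K).X.good.inv ((fold φ).ι ((fold φ).gens i)) = (orbL i.val).length := by
  rw [ι_gen, ← Sys.card_flip, show Sys.flip (QE K).X.good
      (Weyl.wOf (QE K).X.M (H37.Fold.dataE6.word i.val)) = (orb φ i).L.toFinset from (orb φ i).flip_set,
    List.toFinset_card_of_nodup ((orb φ i).sorted.imp fun h => Nat.ne_of_lt h)]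
  rfl

/-- Orbits of two roots: parametrisation and membership. -/
theorem base_pair (hφ : ∀ t, φ t = t ^ q) (hK : Fintype.card K = q ^ 2) (i : Fin 4) {a b : ℕ}
    (ha : a ∈ [56, 46, 42, 39, 37, 36, 15, 25, 29, 32, 34, 35])
    (hb : b ∈ [56, 46, 42, 39, 37, 36, 15, 25, 29, 32, 34, 35])
    (hL : [a, b].Perm (orbL i.val)) (hab : a ≠ b) (hrab : tables.rh a = b)
    (hrba : tables.rh b = a)
    (hgen : (a, b) ∈ [(e6p1, e6p6), (e6m1, e6m6), (e6p3, e6p5), (e6m3, e6m5)]) :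
    Nat.card ↥((QE K).sys.Uw (Weyl.wOf (QE K).X.M (H37.Fold.dataE6.word i.val)) ⊓
        fixedPts (endo φ).σ) = Nat.card K ∧
    ∀ v ∈ (QE K).sys.Uw (Weyl.wOf (QE K).X.M (H37.Fold.dataE6.word i.val)),
      (endo φ).σ v = v → (v : GL chevE6.Idx K) ∈ twistedE6 K q := by
  set P : K → ℕ → K := fun x r => if r = a then x else x ^ q with hP
  have hmem : ∀ r ∈ orbL i.val, r = a ∨ r = b := fun r hr => by
    simpa using hL.symm.subset hr
  have hfix : ∀ x, ∀ r ∈ (orb φ i).L, P x ((endo φ).s.T.rh r) = (endo φ).f r (P x r) := by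
    intro x r hr
    rcases hmem r hr with h | h <;> rw [h]
    · rw [f_pow hφ ha, show (endo φ).s.T.rh a = b from hrab]
      simp [hP, Ne.symm hab]
    · rw [f_pow hφ hb, show (endo φ).s.T.rh b = a from hrba]
      simp [hP, Ne.symm hab, pow_two_card hK]
  obtain ⟨h1, h2⟩ := (orb φ i).param P hfix
    (fun x y h => by simpa [hP] using h a (hL.subset (by simp))) (fun t ht => ⟨t a, fun r hr => by
      rcases hmem r hr with h | h <;> rw [h]
      · simp [hP]
      · simp only [hP, if_neg (Ne.symm hab)]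
        have := ht a (hL.subset (by simp))
        rw [show (endo φ).s.T.rh a = b from hrab, f_pow hφ ha] at this
        exact this.symm⟩)
  refine ⟨h1, fun v hv hvf => ?_⟩
  obtain ⟨x, rfl⟩ := h2 v hv hvf
  have e : xprod (QE K) (orb φ i).L (P x) = xe a x * xe b (x ^ q) := by
    rw [← (orb φ i).xprod_perm (L' := [a, b]) hL (P x)]
    simp [xprod, hP, Ne.symm hab]
  rw [e]
  exact pair_mem hgen x

/-- Orbits of one root. -/
theorem base_single (hφ : ∀ t, φ t = t ^ q) (hK : Fintype.card K = q ^ 2) (i : Fin 4) {a : ℕ}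
    (ha : a ∈ [56, 46, 42, 39, 37, 36, 15, 25, 29, 32, 34, 35])
    (hL : orbL i.val = [a]) (hra : tables.rh a = a)
    (hgen : a ∈ [e6p2, e6m2, e6p4, e6m4]) :
    Nat.card ↥((QE K).sys.Uw (Weyl.wOf (QE K).X.M (H37.Fold.dataE6.word i.val)) ⊓
        fixedPts (endo φ).σ) = q ∧
    ∀ v ∈ (QE K).sys.Uw (Weyl.wOf (QE K).X.M (H37.Fold.dataE6.word i.val)),
      (endo φ).σ v = v → (v : GL chevE6.Idx K) ∈ twistedE6 K q := by
  have hLa : (orb φ i).L = [a] := hL
  obtain ⟨h1, h2⟩ := (orb φ i).param (X := {t : K // t ^ q = t}) (fun x _ => x.1)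
    (fun x r hr => by
      rw [hLa, List.mem_singleton] at hr
      subst hr
      rw [f_pow hφ ha, x.2])
    (fun x y h => Subtype.ext (h a (by simp [hLa])))
    (fun t ht => ⟨⟨t a, by
      have := ht a (by simp [hLa])
      rw [show (endo φ).s.T.rh a = a from hra, f_pow hφ ha] at this
      exact this.symm⟩, fun r hr => by
      rw [hLa, List.mem_singleton] at hr
      subst hr
      rfl⟩)
  refine ⟨h1.trans (card_pow_eq_self (two_le hK) (sub_dvd hK)).2, fun v hv hvf => ?_⟩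
  obtain ⟨x, rfl⟩ := h2 v hv hvf
  rw [hLa]
  simpa [xprod] using single_mem hgen x.2

theorem base (hφ : ∀ t, φ t = t ^ q) (hK : Fintype.card K = q ^ 2) (j : Fin 4) :
    Nat.card ↥((QE K).sys.Uw ((fold φ).ι ((fold φ).gens j)) ⊓ fixedPts (endo φ).σ)
        = q ^ (orbL j.val).length ∧
    ∀ v ∈ (QE K).sys.Uw ((fold φ).ι ((fold φ).gens j)),
      (endo φ).σ v = v → (v : GL chevE6.Idx K) ∈ twistedE6 K q := by
  obtain ⟨r1, r2, r3, r4, r5, r6, -⟩ := rh_ok
  rw [ι_gen]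
  have hK' : Nat.card K = q ^ 2 := by rw [Nat.card_eq_fintype_card, hK]
  fin_cases j
  · obtain ⟨h1, h2⟩ := base_pair hφ hK (0 : Fin 4) (a := 56) (b := 36) (by decide) (by decide)
      (List.Perm.swap 36 56 []) (by decide) r1 r2 (by decide)
    exact ⟨h1.trans hK', h2⟩
  · obtain ⟨h1, h2⟩ := base_pair hφ hK (1 : Fin 4) (a := 42) (b := 37) (by decide) (by decide)
      (List.Perm.swap 37 42 []) (by decide) r3 r4 (by decide)
    exact ⟨h1.trans hK', h2⟩
  · obtain ⟨h1, h2⟩ := base_single hφ hK (2 : Fin 4) (a := 39) (by decide) rfl r5 (by decide)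
    exact ⟨h1.trans (pow_one q).symm, h2⟩
  · obtain ⟨h1, h2⟩ := base_single hφ hK (3 : Fin 4) (a := 46) (by decide) rfl r6 (by decide)
    exact ⟨h1.trans (pow_one q).symm, h2⟩

/-- `²E₆(q)` with its fixed pieces. -/
noncomputable def model (hφ : ∀ t, φ t = t ^ q) (hK : Fintype.card K = q ^ 2) :
    Model (fold φ) where
  T := twistedE6 K q
  le_group := twisted_le
  le_fixed := le_fixed hφ hK
  n_mem := n_mem hφ
  H_mem := H_mem hφ hK
  e := 2
  base_mem j := (base hφ hK j).2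
  base_card j := by
    refine (congrArg (· ^ 2) (base hφ hK j).1).trans
      (Eq.trans ?_ (congrArg (Nat.card K ^ ·) (inv_ι φ j)).symm)
    show (q ^ _) ^ 2 = Nat.card K ^ _
    rw [Nat.card_eq_fintype_card, hK, ← pow_mul, ← pow_mul, mul_comm]

theorem faith (hφ : ∀ t, φ t = t ^ q) (h : ↥(chevE6.group K)) (hh : h ∈ (QE K).sys.H)
    (_hfix : (endo φ).σ h = h)
    (hc : ∀ v ∈ (QE K).sys.U, (endo φ).σ v = v → h * v = v * h) : h = 1 := by
  refine faith_of_orbits (orb φ) (fun j r hr => ?_) (fun i hi => ?_) h hh hc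
  · have hr' : r ∈ orbL j.val := hr
    have : r ∈ [56, 46, 42, 39, 37, 36, 15, 25, 29, 32, 34, 35] :=
      (show ∀ j : Fin 4, ∀ r ∈ orbL j.val,
        r ∈ [56, 46, 42, 39, 37, 36, 15, 25, 29, 32, 34, 35] by decide +kernel) j r hr'
    rw [f_pow hφ this, one_pow]
  · exact (show ∀ i : Fin 6, ∃ j : Fin 4, chevE6.simple i.val ∈ orbL j.val by decide +kernel) ⟨i, hi⟩

theorem card_ker (hK : Fintype.card K = q ^ 2) :
    Nat.card {w : Kˣ // w ^ 3 = 1 ∧ w ^ (q + 1) = 1} = Nat.gcd 3 (q + 1) := by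
  classical
  have e : Nat.card {w : Kˣ // w ^ 3 = 1 ∧ w ^ (q + 1) = 1}
      = Nat.card (powMonoidHom (Nat.gcd 3 (q + 1)) : Kˣ →* Kˣ).ker := by
    refine Nat.card_congr (Equiv.subtypeEquivRight fun w => ?_)
    rw [MonoidHom.mem_ker, powMonoidHom_apply]
    refine ⟨fun h => pow_gcd_eq_one.2 h, fun h => ⟨?_, ?_⟩⟩
    · obtain ⟨k, hk⟩ := Nat.gcd_dvd_left 3 (q + 1)
      rw [hk, pow_mul, h, one_pow]
    · obtain ⟨k, hk⟩ := Nat.gcd_dvd_right 3 (q + 1)
      rw [hk, pow_mul, h, one_pow]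
  rw [e, IsCyclic.card_powMonoidHom_ker, Nat.card_eq_fintype_card, Fintype.card_units, hK]
  refine Nat.gcd_eq_right ((Nat.gcd_dvd_right 3 (q + 1)).trans ?_)
  have := two_le hK
  exact ⟨q - 1, by rw [← Nat.sq_sub_sq, one_pow]⟩

theorem card_H (hφ : ∀ t, φ t = t ^ q) (hK : Fintype.card K = q ^ 2) :
    Nat.gcd 3 (q + 1) * Nat.card ↥(chevE6.diagonalSubgroup K ⊓ twistedE6 K q)
      = (q - 1) ^ 4 * (q + 1) ^ 2 := by
  classical
  have hq := two_le hK
  set Md := model hφ hK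
  have e1 : Nat.card ↥(chevE6.diagonalSubgroup K ⊓ twistedE6 K q)
      = Nat.card ↥((QE K).sys.H ⊓ fixedPts (endo φ).σ) := by
    have h1 : Nat.card ↥(chevE6.diagonalSubgroup K ⊓ Md.T) = Nat.card ↥Md.tw.H := by
      rw [Md.card_inf_eq, Md.tw_H]
    have h2 : Nat.card ↥Md.tw.H = Nat.card ↥(((QE K).sys.H).subgroupOf (fixedPts (endo φ).σ)) :=
      Nat.card_congr (Subgroup.equivMapOfInjective _ _ Md.iso.injective).toEquiv.symm
    rw [show twistedE6 K q = Md.T from rfl, h1, h2, ← Subgroup.inf_subgroupOf_right,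
      Nat.card_congr (Subgroup.subgroupOfEquivOfLe inf_le_right).toEquiv]
  set Fx := ((endo φ).hat fun _ => q).eqLocus (MonoidHom.id (Fin chevE6.rank → Kˣ))
  let ψ : ↥Fx →* ↥((QE K).sys.H ⊓ fixedPts (endo φ).σ) :=
    ((tG (QE K)).comp Fx.subtype).codRestrict _ fun c => ⟨tG_mem _ _, by
      show (endo φ).σ (tG (QE K) c.1) = tG (QE K) c.1
      rw [(endo φ).σ_tG (noSign hφ)]
      exact congrArg _ c.2⟩
  have hsurj : Function.Surjective ψ := by
    rintro ⟨h, hh, hfix⟩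
    obtain ⟨c, hc, e⟩ := exists_fixed hφ hK hh hfix
    exact ⟨⟨c, hc⟩, Subtype.ext e⟩
  have hcard : Nat.card ↥Fx = Nat.card ↥ψ.ker * Nat.card ↥((QE K).sys.H ⊓ fixedPts (endo φ).σ) := by
    rw [← Subgroup.card_mul_index ψ.ker, Subgroup.index_ker, MonoidHom.range_eq_top.2 hsurj,
      Subgroup.card_top]
  have hFx : Nat.card ↥Fx = (q - 1) ^ 4 * (q + 1) ^ 2 := by
    rw [show Nat.card ↥Fx = Nat.card {c : Fin chevE6.rank → Kˣ //
      (endo φ).hat (fun _ => q) c = c} from rfl, Nat.card_congr (fixParam hK), Nat.card_prod,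
      Nat.card_prod, Nat.card_prod, (card_pow_eq_self hq (sub_dvd hK)).1,
      Nat.card_eq_fintype_card (α := Kˣ), Fintype.card_units, hK,
      show q ^ 2 - 1 = (q + 1) * (q - 1) by rw [← Nat.sq_sub_sq, one_pow]]
    ring
  have hw : ∀ c : ↥Fx, c ∈ ψ.ker ↔ tG (QE K) c.1 = 1 := fun c => by
    rw [MonoidHom.mem_ker]
    exact ⟨fun h => congrArg Subtype.val h, fun h => Subtype.ext h⟩
  let g : ↥ψ.ker → {w : Kˣ // w ^ 3 = 1 ∧ w ^ (q + 1) = 1} := fun c =>
    ⟨c.1.1 (0 : Fin 6), by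
      obtain ⟨k2, k3, k1, k4, k5, k0⟩ := ker_coords ((hw c.1).1 c.2)
      refine ⟨k0, ?_⟩
      have h5 : c.1.1 (5 : Fin 6) = c.1.1 (0 : Fin 6) ^ q :=
        (congrFun c.1.2 (5 : Fin 6)).symm.trans (hat_six (φ := φ) (q := q) c.1.1).1
      rw [pow_succ, ← h5, k5, ← pow_succ]
      exact k0⟩
  have hg : Function.Bijective g := by
    constructor
    · intro c d e
      have e0 : c.1.1 (0 : Fin 6) = d.1.1 (0 : Fin 6) := congrArg Subtype.val e
      obtain ⟨k2, k3, k1, k4, k5, k0⟩ := ker_coords ((hw c.1).1 c.2)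
      obtain ⟨l2, l3, l1, l4, l5, l0⟩ := ker_coords ((hw d.1).1 d.2)
      refine Subtype.ext (Subtype.ext (six_ext e0 ?_ ?_ ?_ ?_ ?_))
      · rw [k1, l1]
      · rw [k2, l2, e0]
      · rw [k3, l3]
      · rw [k4, l4, e0]
      · rw [k5, l5, e0]
    · rintro ⟨w, hw3, hwq⟩
      have hwq' : w ^ q = w ^ 2 := mul_right_cancel (b := w) (by rw [← pow_succ, hwq, ← pow_succ, hw3])
      have hfix : (endo φ).hat (fun _ => q) (kerVec w) = kerVec w := by
        obtain ⟨a5, a0, a4, a2, a1, a3⟩ := hat_six (φ := φ) (q := q) (kerVec w)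
        have h22 : (w ^ 2) ^ 2 = w := by rw [← pow_mul, pow_eq_pow_mod _ hw3]; simp
        refine six_ext ?_ ?_ ?_ ?_ ?_ ?_
        · rw [a0]; show (w ^ 2) ^ q = w; rw [← pow_mul, mul_comm, pow_mul, hwq']; exact h22
        · rw [a1]; show (1 : Kˣ) ^ q = 1; rw [one_pow]
        · rw [a2]; show w ^ q = w ^ 2; exact hwq'
        · rw [a3]; show (1 : Kˣ) ^ q = 1; rw [one_pow]
        · rw [a4]; show (w ^ 2) ^ q = w; rw [← pow_mul, mul_comm, pow_mul, hwq']; exact h22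
        · rw [a5]; show w ^ q = w ^ 2; exact hwq'
      exact ⟨⟨⟨kerVec w, hfix⟩, (hw _).2 (kerVec_ker hw3)⟩, rfl⟩
  rw [Nat.card_eq_of_bijective g hg, card_ker hK] at hcard
  rw [e1, ← hcard, hFx]

theorem card_U (hφ : ∀ t, φ t = t ^ q) (hK : Fintype.card K = q ^ 2) :
    Nat.card ↥(chevE6.posUnipotent K ⊓ twistedE6 K q) = q ^ 36 := by
  have h := (model hφ hK).card_U_inf
  rw [Nat.card_eq_fintype_card (α := K), hK, ← pow_mul,
    show 2 * (chevE6.nroots / 2) = 36 * 2 by decide +kernel, pow_mul] at h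
  exact Nat.pow_left_injective two_ne_zero h

theorem card_group (hφ : ∀ t, φ t = t ^ q) (hK : Fintype.card K = q ^ 2) :
    Nat.gcd 3 (q + 1) * Nat.card ↥(twistedE6 K q) =
      q ^ 36 * (q ^ 2 - 1) * (q ^ 5 + 1) * (q ^ 6 - 1) * (q ^ 8 - 1) * (q ^ 9 + 1) *
        (q ^ 12 - 1) := by
  have hq := two_le hK
  set Md := model hφ hK
  show Nat.gcd 3 (q + 1) * Nat.card ↥Md.T = _
  refine card_of_cells_twistedE6 Md.tw.toNormalForm (by omega) ?_ ?_ fun w => ?_
  · rw [Md.tw_U, ← Md.card_inf_eq]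
    exact card_U hφ hK
  · rw [Md.tw_H, ← Md.card_inf_eq]
    exact card_H hφ hK
  · have h := Md.card_tw_Uw w
    rw [Nat.card_eq_fintype_card (α := K), hK, ← pow_mul, mul_comm 2, pow_mul] at h
    exact Nat.pow_left_injective two_ne_zero h

end Cfsg.Agent.H37.Twist.E6
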