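import Cfsg.Agent.H37.Twist.F4Basic

/-!
`²F₄(q)`: the torus, the model, the orders.
-/
set_option autoImplicit false
set_option maxRecDepth 100000

namespace Cfsg.Agent.H37.Twist.F4

open Cfsg.Lie Cfsg.Agent.H37.RootSys Cfsg.Agent.H37.NormalForm

variable {K : Type*} [Field K] [Fintype K] [CharP K 2] {φ : K →+* K} {m : ℕ}

omit [CharP K 2] in
theorem theta (hφ : ∀ t, φ t = t ^ 2 ^ m) (hK : Fintype.card K = 2 ^ (2 * m + 1)) :
    ∀ t, φ (φ t) ^ 2 = t := fun t => by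
  rw [hφ, hφ, ← pow_mul, ← pow_mul, show 2 ^ m * (2 ^ m * 2) = 2 ^ (2 * m + 1) by ring, ← hK,
    FiniteField.pow_card]

theorem simple_ok : chevF4.simple 0 = 33 ∧ chevF4.simple 1 = 27 ∧ chevF4.simple 2 = 25 ∧
    chevF4.simple 3 = 24 ∧ chevF4.neg 33 = 14 ∧ chevF4.neg 24 = 23 ∧ chevF4.neg 27 = 20 ∧
    chevF4.neg 25 = 22 := by decide +kernel

theorem pair_ok : tables.rh 33 = 24 ∧ tables.rh 24 = 33 ∧ tables.rh 14 = 23 ∧ tables.rh 23 = 14 ∧
    Isog.dataF4.lm 33 = 2 ∧ Isog.dataF4.lm 24 = 1 ∧ Isog.dataF4.lm 14 = 2 ∧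
    Isog.dataF4.lm 23 = 1 ∧ orthB chevF4 33 24 = true ∧ commB chevF4 [24, 33] = true ∧
    commB chevF4 [23, 14] = true := by decide +kernel

theorem pair_fixed (hθ : ∀ t, φ (φ t) ^ 2 = t) {r r' : ℕ}
    (hr : (r, r') ∈ [(33, 24), (14, 23)]) (t : K) :
    (endo φ).σ (xe r (φ t) * xe r' t) = xe r (φ t) * xe r' t := by
  obtain ⟨r1, r2, r3, r4, l1, l2, l3, l4, -, c1, c2⟩ := pair_ok
  simp only [List.mem_cons, List.not_mem_nil, or_false, Prod.mk.injEq] at hr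
  rcases hr with ⟨rfl, rfl⟩ | ⟨rfl, rfl⟩
  · rw [map_mul, σ_xe (by decide), σ_xe (by decide), r1, r2, l1, l2, hθ, pow_one]
    exact (commute_xG (QD K) c1 (by simp) (by simp) _ _).eq
  · rw [map_mul, σ_xe (by decide), σ_xe (by decide), r3, r4, l3, l4, hθ, pow_one]
    exact (commute_xG (QD K) c2 (by simp) (by simp) _ _).eq

theorem le_fixed (hφ : ∀ t, φ t = t ^ 2 ^ m) (hK : Fintype.card K = 2 ^ (2 * m + 1)) :
    ∀ g : ↥(chevF4.group K), (g : GL chevF4.Idx K) ∈ twistedF4 K (2 ^ m) → (endo φ).σ g = g := by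
  have hθ := theta hφ hK
  refine fixed_of_words (Q := QD K) (endo φ).σ ?_
  rintro w (⟨t, rfl | rfl⟩ | ⟨t, u, rfl | rfl⟩)
  · simp only [f4PairWord, f4p1, f4p4, wG, List.map_cons, List.map_nil, List.prod_cons,
      List.prod_nil, mul_one, ← hφ t]
    exact pair_fixed hθ (by simp) t
  · simp only [f4PairWord, f4m1, f4m4, wG, List.map_cons, List.map_nil, List.prod_cons,
      List.prod_nil, mul_one, ← hφ t]
    exact pair_fixed hθ (by simp) t
  · rw [show b2ClassWord (2 ^ m) f4a f4b f4ab f4aab t u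
      = b2ClassWord (2 ^ m) pc.a pc.b pc.ab pc.aab t u from rfl, wG_b2 hφ (by simp)]
    exact pr_fixed hθ (by simp) _ _
  · rw [show b2ClassWord (2 ^ m) f4ma f4mb f4mab f4maab t u
      = b2ClassWord (2 ^ m) nc.a nc.b nc.ab nc.aab t u from rfl, wG_b2 hφ (by simp)]
    exact pr_fixed hθ (by simp) _ _

theorem pr_mem (hφ : ∀ t, φ t = t ^ 2 ^ m) (t c : K) :
    ((pr pc φ t c : ↥(chevF4.group K)) : GL chevF4.Idx K) ∈ twistedF4 K (2 ^ m) := by
  rw [← wG_b2 hφ (by simp)]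
  exact wG_mem (Q := QD K) (Or.inr ⟨t, c, Or.inl rfl⟩)

omit [CharP K 2] in
theorem pair_mem (hφ : ∀ t, φ t = t ^ 2 ^ m) {r r' : ℕ}
    (hr : (r, r') ∈ [(33, 24), (14, 23)]) (t : K) :
    ((xe r (φ t) * xe r' t : ↥(chevF4.group K)) : GL chevF4.Idx K) ∈ twistedF4 K (2 ^ m) := by
  have hw : xe r (φ t) * xe r' t = wG (QD K) (f4PairWord (2 ^ m) r r' t) := by
    simp [f4PairWord, wG, hφ]
  rw [hw]
  simp only [List.mem_cons, List.not_mem_nil, or_false, Prod.mk.injEq] at hr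
  rcases hr with ⟨rfl, rfl⟩ | ⟨rfl, rfl⟩
  · exact wG_mem (Or.inl ⟨t, Or.inl rfl⟩)
  · exact wG_mem (Or.inl ⟨t, Or.inr rfl⟩)

omit [CharP K 2] in
theorem pairN_mem (hφ : ∀ t, φ t = t ^ 2 ^ m) (t : K) :
    ((nUG (QD K) 33 (φ t) * nUG (QD K) 24 t : ↥(chevF4.group K)) : GL chevF4.Idx K)
      ∈ twistedF4 K (2 ^ m) := by
  obtain ⟨-, -, -, -, n1, n2, -⟩ := simple_ok
  rw [nUG_mul_pair (QD K) pair_ok.2.2.2.2.2.2.2.2.1, n1, n2,
    show -(φ t)⁻¹ = φ (-t⁻¹) by rw [map_neg, map_inv₀]]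
  simp only [Subgroup.coe_mul]
  have h1 := pair_mem hφ (show (33, 24) ∈ [(33, 24), (14, 23)] by simp) t
  have h2 := pair_mem hφ (show (14, 23) ∈ [(33, 24), (14, 23)] by simp) (-t⁻¹)
  rw [Subgroup.coe_mul] at h1 h2
  exact mul_mem (mul_mem h1 h2) h1

omit [CharP K 2] in
theorem pairH_mem (hφ : ∀ t, φ t = t ^ 2 ^ m) (t : K) :
    ((hUG (QD K) 33 (φ t) * hUG (QD K) 24 t : ↥(chevF4.group K)) : GL chevF4.Idx K)
      ∈ twistedF4 K (2 ^ m) := by
  have k := commute_nUG (QD K) pair_ok.2.2.2.2.2.2.2.2.1 (-1 : K) t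
  have e : hUG (QD K) 33 (φ t) * hUG (QD K) 24 t
      = (nUG (QD K) 33 (φ t) * nUG (QD K) 24 t) *
        (nUG (QD K) 33 (φ (-1)) * nUG (QD K) 24 (-1)) := by
    rw [map_neg, map_one, hUG_eq, hUG_eq]
    calc _ = nUG (QD K) 33 (φ t) * (nUG (QD K) 33 (-1) * nUG (QD K) 24 t) *
          nUG (QD K) 24 (-1) := by group
      _ = _ := by rw [k.eq]; group
  rw [e, Subgroup.coe_mul]
  exact mul_mem (pairN_mem hφ t) (pairN_mem hφ (-1))

/-- The fixed representative of the second generator, as a word of fixed elements. -/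
def repV : List (ℕ × ℤ) :=
  [(27, 1), (25, 1), (28, 1), (30, 0)] ++ [(20, 0), (22, 0), (19, 1), (17, 1)] ++
    [(27, 1), (25, 1), (28, 2), (30, 1)]

/-- The product of fundamental monomial elements. -/
def repW : List (ℕ × ℤ) :=
  [(27, 1), (20, -1), (27, 1), (25, 1), (22, -1), (25, 1),
    (27, 1), (20, -1), (27, 1), (25, 1), (22, -1), (25, 1)]

theorem rep_ok : sameWordP 2 chevF4 repV repW = true := by decide +kernel

theorem repB_mem :
    (((([1, 2, 1, 2] : List ℕ).map fun i => nUG (QD K) (chevF4.simple i) 1).prod :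
      ↥(chevF4.group K)) : GL chevF4.Idx K) ∈ twistedF4 K (2 ^ m) := by
  obtain ⟨-, s1, s2, -, -, -, n7, n5⟩ := simple_ok
  have he : 2 ^ m ≠ 0 := by positivity
  have e : (([1, 2, 1, 2] : List ℕ).map fun i => nUG (QD K) (chevF4.simple i) 1).prod
      = wG (QD K) (castW K repW) := by
    simp [nUG_eq_wG, ← wG_append, s1, s2, ChevalleyDatum.nWord, castW, repW, n7, n5]
  have ev : castW K repV = b2ClassWord (2 ^ m) f4a f4b f4ab f4aab 1 0 ++
      b2ClassWord (2 ^ m) f4ma f4mb f4mab f4maab 0 1 ++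
      b2ClassWord (2 ^ m) f4a f4b f4ab f4aab 1 1 := by
    simp [repV, castW, b2ClassWord, f4a, f4b, f4ab, f4aab, f4ma, f4mb, f4mab, f4maab, he,
      one_add_one_eq_two]
  rw [e, ← wG_eq_of_sameWordP 2 rep_ok, ev, wG_append, wG_append]
  simp only [Subgroup.coe_mul]
  exact mul_mem (mul_mem (wG_mem (Or.inr ⟨1, 0, Or.inl rfl⟩))
    (wG_mem (Or.inr ⟨0, 1, Or.inr rfl⟩))) (wG_mem (Or.inr ⟨1, 1, Or.inl rfl⟩))

/-- The exponents on the fundamental roots. -/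
def expo (m : ℕ) (i : ℕ) : ℕ := if i < 2 then 2 ^ m * 2 else 2 ^ m

theorem noSign (hφ : ∀ t, φ t = t ^ 2 ^ m) : (endo φ).NoSign (expo m) := by
  intro i hi
  refine ⟨fun t => ?_, ?_⟩
  · show φ t ^ Isog.dataF4.lm (chevF4.simple i) = _
    rw [hφ, ← pow_mul]
    congr 1
    rw [(by decide +kernel : ∀ i : Fin 4,
      Isog.dataF4.lm (chevF4.simple i.val) = if i.val < 2 then 2 else 1) ⟨i, hi⟩]
    unfold expo
    show 2 ^ m * (if i < 2 then 2 else 1) = _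
    split_ifs <;> ring
  · show φ (-1) ^ Isog.dataF4.lm (chevF4.simple i) = -1
    rw [neg_eq, map_one, one_pow]

theorem hat_four (c : Fin chevF4.rank → Kˣ) :
    (endo φ).hat (expo m) c (3 : Fin 4) = c (0 : Fin 4) ^ (2 ^ m * 2) ∧
    (endo φ).hat (expo m) c (2 : Fin 4) = c (1 : Fin 4) ^ (2 ^ m * 2) ∧
    (endo φ).hat (expo m) c (1 : Fin 4) = c (2 : Fin 4) ^ 2 ^ m ∧
    (endo φ).hat (expo m) c (0 : Fin 4) = c (3 : Fin 4) ^ 2 ^ m :=
  ⟨(endo φ).hat_apply _ c (0 : Fin 4) (3 : Fin 4) rfl,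
    (endo φ).hat_apply _ c (1 : Fin 4) (2 : Fin 4) rfl,
    (endo φ).hat_apply _ c (2 : Fin 4) (1 : Fin 4) rfl,
    (endo φ).hat_apply _ c (3 : Fin 4) (0 : Fin 4) rfl⟩

omit [Fintype K] [CharP K 2] in
theorem four_ext {X : Type*} {a b : Fin chevF4.rank → X} (h0 : a (0 : Fin 4) = b (0 : Fin 4))
    (h1 : a (1 : Fin 4) = b (1 : Fin 4)) (h2 : a (2 : Fin 4) = b (2 : Fin 4))
    (h3 : a (3 : Fin 4) = b (3 : Fin 4)) : a = b := by
  refine funext fun (i : Fin 4) => ?_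
  fin_cases i <;> assumption

omit [Fintype K] [CharP K 2] in
theorem chT_eq (c : Fin chevF4.rank → Kˣ) (r : ℕ) :
    chT c r = c (0 : Fin 4) ^ chevF4.cartan 0 r * c (1 : Fin 4) ^ chevF4.cartan 1 r *
      c (2 : Fin 4) ^ chevF4.cartan 2 r * c (3 : Fin 4) ^ chevF4.cartan 3 r :=
  Fin.prod_univ_four (fun k : Fin 4 => c k ^ chevF4.cartan k.val r)

theorem cartan_ok :
    [chevF4.cartan 0 33, chevF4.cartan 1 33, chevF4.cartan 2 33, chevF4.cartan 3 33] = [2, -1, 0, 0] ∧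
    [chevF4.cartan 0 27, chevF4.cartan 1 27, chevF4.cartan 2 27, chevF4.cartan 3 27] = [-1, 2, -1, 0] ∧
    [chevF4.cartan 0 25, chevF4.cartan 1 25, chevF4.cartan 2 25, chevF4.cartan 3 25] = [0, -2, 2, -1] ∧
    [chevF4.cartan 0 24, chevF4.cartan 1 24, chevF4.cartan 2 24, chevF4.cartan 3 24] = [0, 0, -1, 2] := by
  decide +kernel

theorem cor_ok : Chevalley.cor chevF4 37 0 = 1 ∧ Chevalley.cor chevF4 37 1 = 2 ∧
    Chevalley.cor chevF4 37 2 = 2 ∧ Chevalley.cor chevF4 37 3 = 0 ∧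
    Chevalley.cor chevF4 32 0 = 0 ∧ Chevalley.cor chevF4 32 1 = 1 ∧
    Chevalley.cor chevF4 32 2 = 2 ∧ Chevalley.cor chevF4 32 3 = 1 := by decide +kernel

theorem ker_add {G : Type*} [AddCommGroup G] {a b c d : G}
    (e0 : (2 : ℕ) • a + -b = 0) (e1 : -a + (2 : ℕ) • b + -c = 0)
    (e2 : -((2 : ℕ) • b) + (2 : ℕ) • c + -d = 0) (e3 : -c + (2 : ℕ) • d = 0) :
    a = 0 ∧ b = 0 ∧ c = 0 ∧ d = 0 := by
  refine ⟨?_, ?_, ?_, ?_⟩
  · linear_combination (norm := module) (2 : ℤ) • e0 + (3 : ℤ) • e1 + (2 : ℤ) • e2 + e3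
  · linear_combination (norm := module) (3 : ℤ) • e0 + (6 : ℤ) • e1 + (4 : ℤ) • e2 + (2 : ℤ) • e3
  · linear_combination (norm := module) (4 : ℤ) • e0 + (8 : ℤ) • e1 + (6 : ℤ) • e2 + (3 : ℤ) • e3
  · linear_combination (norm := module) (2 : ℤ) • e0 + (4 : ℤ) • e1 + (3 : ℤ) • e2 + (2 : ℤ) • e3

theorem ker_mul {G : Type*} [CommGroup G] {a b c d : G} (e0 : a ^ 2 * b⁻¹ = 1)
    (e1 : a⁻¹ * b ^ 2 * c⁻¹ = 1) (e2 : (b ^ 2)⁻¹ * c ^ 2 * d⁻¹ = 1) (e3 : c⁻¹ * d ^ 2 = 1) :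
    a = 1 ∧ b = 1 ∧ c = 1 ∧ d = 1 :=
  ker_add (G := Additive G) e0 e1 e2 e3

omit [Fintype K] [CharP K 2] in
theorem tG_injective : Function.Injective (tG (QD K)) := by
  rw [injective_iff_map_eq_one]
  intro c hc
  have h : ∀ r, r < chevF4.nroots → chT c r = 1 := by
    intro r hr
    have e := tG_conj (QD K) c hr (1 : K)
    rw [hc, one_mul, inv_one, mul_one, mul_one] at e
    exact Units.ext (xG_inj (QD K) hr e).symm
  have h33 := h 33 (by decide)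
  have h27 := h 27 (by decide)
  have h25 := h 25 (by decide)
  have h24 := h 24 (by decide)
  obtain ⟨a, b, d, e⟩ := cartan_ok
  simp only [List.cons.injEq, and_true] at a b d e
  rw [chT_eq, a.1, a.2.1, a.2.2.1, a.2.2.2] at h33
  rw [chT_eq, b.1, b.2.1, b.2.2.1, b.2.2.2] at h27
  rw [chT_eq, d.1, d.2.1, d.2.2.1, d.2.2.2] at h25
  rw [chT_eq, e.1, e.2.1, e.2.2.1, e.2.2.2] at h24
  simp only [zpow_ofNat, zpow_neg, zpow_zero, zpow_one, pow_zero, pow_one, one_mul, mul_one]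
    at h33 h27 h25 h24
  obtain ⟨x0, x1, x2, x3⟩ := ker_mul h33 h27 h25 h24
  exact four_ext x0 x1 x2 x3

theorem hat_fixed (hφ : ∀ t, φ t = t ^ 2 ^ m) {c : Fin chevF4.rank → Kˣ}
    (hfix : (endo φ).σ (tG (QD K) c) = tG (QD K) c) : (endo φ).hat (expo m) c = c :=
  tG_injective ((endo φ).σ_tG (noSign hφ) c ▸ hfix)

/-- The fixed torus element with parameters `a, b`. -/
def hc (m : ℕ) (a b : Kˣ) : Fin chevF4.rank → Kˣ := ![a ^ 2 ^ m, b ^ 2 ^ m, b, a]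

omit [CharP K 2] in
theorem units_theta (hK : Fintype.card K = 2 ^ (2 * m + 1)) (s : Kˣ) :
    (s ^ 2 ^ m) ^ (2 ^ m * 2) = s := by
  rw [← pow_mul, show 2 ^ m * (2 ^ m * 2) = 2 ^ (2 * m + 1) by ring, ← hK]
  exact Units.ext (by simp [FiniteField.pow_card])

theorem hc_fixed (hφ : ∀ t, φ t = t ^ 2 ^ m) (hK : Fintype.card K = 2 ^ (2 * m + 1)) (a b : Kˣ) :
    (endo φ).σ (tG (QD K) (hc m a b)) = tG (QD K) (hc m a b) := by
  rw [(endo φ).σ_tG (noSign hφ)]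
  congr 1
  obtain ⟨a3, a2, a1, a0⟩ := hat_four (φ := φ) (m := m) (hc m a b)
  refine four_ext ?_ ?_ ?_ ?_
  · rw [a0]; rfl
  · rw [a1]; rfl
  · rw [a2]; exact units_theta hK b
  · rw [a3]; exact units_theta hK a

theorem exists_hc (hφ : ∀ t, φ t = t ^ 2 ^ m) {h : ↥(chevF4.group K)}
    (hh : h ∈ (QD K).sys.H) (hfix : (endo φ).σ h = h) : ∃ a b, h = tG (QD K) (hc m a b) := by
  obtain ⟨c, rfl⟩ := exists_tG (QD K) hh
  have e := hat_fixed hφ hfix
  obtain ⟨-, -, a1, a0⟩ := hat_four (φ := φ) (m := m) c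
  exact ⟨c (3 : Fin 4), c (2 : Fin 4), congrArg _ (four_ext
    ((congrFun e (0 : Fin 4)).symm.trans a0) ((congrFun e (1 : Fin 4)).symm.trans a1) rfl rfl)⟩

omit [Fintype K] [CharP K 2] in
theorem hc_mul (a b a' b' : Kˣ) : hc m (a * a') (b * b') = hc m a b * hc m a' b' := by
  refine four_ext ?_ ?_ rfl rfl
  · exact mul_pow a a' _
  · exact mul_pow b b' _

omit [Fintype K] [CharP K 2] in
theorem single_prod_four {G : Type*} [CommGroup G] (c : Fin 4 → G) : c =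
    Pi.mulSingle 0 (c 0) * Pi.mulSingle 3 (c 3) * Pi.mulSingle 1 (c 1) * Pi.mulSingle 2 (c 2) := by
  funext i
  fin_cases i <;> simp [Pi.mulSingle_apply, Fin.ext_iff]

omit [CharP K 2] in
theorem pairC_mem (hφ : ∀ t, φ t = t ^ 2 ^ m) (a : Kˣ) :
    ((tG (QD K) (hc m a 1) : ↥(chevF4.group K)) : GL chevF4.Idx K) ∈ twistedF4 K (2 ^ m) := by
  obtain ⟨s0, -, -, s3, -⟩ := simple_ok
  have e : hc m a 1 = Pi.mulSingle (⟨0, by decide⟩ : Fin chevF4.rank) (a ^ 2 ^ m) *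
      Pi.mulSingle (⟨3, by decide⟩ : Fin chevF4.rank) a := by
    have h := single_prod_four (G := Kˣ) (hc m a 1)
    rw [show hc m a 1 (1 : Fin 4) = 1 from one_pow _, show hc m a 1 (2 : Fin 4) = 1 from rfl,
      Pi.mulSingle_one, Pi.mulSingle_one, mul_one, mul_one] at h
    exact h
  rw [e, map_mul, tG_single, tG_single]
  show ((hUG (QD K) (chevF4.simple 0) _ * hUG (QD K) (chevF4.simple 3) _ :
    ↥(chevF4.group K)) : GL chevF4.Idx K) ∈ _
  rw [s0, s3, Units.val_pow_eq_pow_val, ← hφ]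
  exact pairH_mem hφ _

omit [Fintype K] [CharP K 2] in
theorem hUG_tG {r : ℕ} (hr : r < chevF4.nroots) (t : Kˣ) :
    hUG (QD K) r (t : K) = tG (QD K) fun k => t ^ Chevalley.cor chevF4 r k :=
  Subtype.ext ((QD K).K.hU_eq_torus K hr t)

omit [Fintype K] [CharP K 2] in
/-- Conjugation of a torus element by fundamental monomial elements. -/
theorem conj_hUG : ∀ (w : List ℕ), (∀ i ∈ w, i < chevF4.rank) → ∀ {r : ℕ}, r < chevF4.nroots →
    ∀ t : Kˣ, (w.map fun i => nUG (QD K) (chevF4.simple i) 1).prod * hUG (QD K) r (t : K) *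
      ((w.map fun i => nUG (QD K) (chevF4.simple i) 1).prod)⁻¹
        = hUG (QD K) (w.foldr (QD K).K.w r) (t : K) ∧ w.foldr (QD K).K.w r < chevF4.nroots
  | [], _, r, hr, t => by simp [hr]
  | i :: w, hw, r, hr, t => by
      obtain ⟨e, hlt⟩ := conj_hUG w (fun a ha => hw a (List.mem_cons_of_mem _ ha)) hr t
      have hi := hw i (by simp)
      refine ⟨?_, ((QD K).K.w_lt i hi _ hlt).1⟩
      rw [List.map_cons, List.prod_cons, List.foldr_cons,
        show ∀ a b x : ↥(chevF4.group K), a * b * x * (a * b)⁻¹ = a * (b * x * b⁻¹) * a⁻¹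
          from fun a b x => by group, e]
      exact Subtype.ext ((QD K).K.nS_conj_hU K hi hlt t)

theorem fold_ok : ([1, 2, 1, 2] : List ℕ).foldr Chevalley.F4.tab.w 33 = 37 ∧
    ([1, 2, 1, 2] : List ℕ).foldr Chevalley.F4.tab.w 24 = 32 := by decide +kernel

theorem secondC_mem (hφ : ∀ t, φ t = t ^ 2 ^ m) (hK : Fintype.card K = 2 ^ (2 * m + 1)) (t : Kˣ) :
    ∃ a : Kˣ, ((tG (QD K) (hc m a (t ^ (2 ^ m * 2 + 2))) : ↥(chevF4.group K)) : GL chevF4.Idx K)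
      ∈ twistedF4 K (2 ^ m) := by
  refine ⟨t, ?_⟩
  have h1 := pairH_mem hφ (t : K)
  have h2 := repB_mem (K := K) (m := m)
  set n := (([1, 2, 1, 2] : List ℕ).map fun i => nUG (QD K) (chevF4.simple i) 1).prod
  have h3 : ((n * (hUG (QD K) 33 (φ (t : K)) * hUG (QD K) 24 (t : K)) * n⁻¹ :
      ↥(chevF4.group K)) : GL chevF4.Idx K) ∈ twistedF4 K (2 ^ m) := by
    rw [Subgroup.coe_mul, Subgroup.coe_mul, Subgroup.coe_inv]
    exact mul_mem (mul_mem h2 h1) (inv_mem h2)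
  have hlt : ∀ i ∈ ([1, 2, 1, 2] : List ℕ), i < chevF4.rank := by decide
  rw [hφ, ← Units.val_pow_eq_pow_val,
    show ∀ x y : ↥(chevF4.group K), n * (x * y) * n⁻¹ = n * x * n⁻¹ * (n * y * n⁻¹)
      from fun x y => by group, (conj_hUG _ hlt (by decide) _).1, (conj_hUG _ hlt (by decide) _).1]
    at h3
  have e : hUG (QD K) 37 ((t ^ 2 ^ m : Kˣ) : K) * hUG (QD K) 32 (t : K)
      = tG (QD K) (hc m t (t ^ (2 ^ m * 2 + 2))) := by
    rw [hUG_tG (by decide), hUG_tG (by decide), ← map_mul]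
    congr 1
    obtain ⟨c0, c1, c2, c3, d0, d1, d2, d3⟩ := cor_ok
    refine four_ext ?_ ?_ ?_ ?_
    · show (t ^ 2 ^ m) ^ Chevalley.cor chevF4 37 0 * t ^ Chevalley.cor chevF4 32 0 = t ^ 2 ^ m
      rw [c0, d0, zpow_one, zpow_zero, mul_one]
    · show (t ^ 2 ^ m) ^ Chevalley.cor chevF4 37 1 * t ^ Chevalley.cor chevF4 32 1
        = (t ^ (2 ^ m * 2 + 2)) ^ 2 ^ m
      rw [c1, d1, zpow_ofNat, zpow_one, pow_add, mul_pow]
      conv_rhs => rw [← pow_mul, mul_comm (2 ^ m * 2), pow_mul, units_theta hK, ← pow_mul,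
        mul_comm 2, pow_mul, mul_comm]
    · show (t ^ 2 ^ m) ^ Chevalley.cor chevF4 37 2 * t ^ Chevalley.cor chevF4 32 2 = _
      rw [c2, d2, zpow_ofNat, zpow_ofNat, ← pow_mul, ← pow_add]
      rfl
    · show (t ^ 2 ^ m) ^ Chevalley.cor chevF4 37 3 * t ^ Chevalley.cor chevF4 32 3 = t
      rw [c3, d3, zpow_zero, zpow_one, one_mul]
  rw [← e, show (37 : ℕ) = _ from fold_ok.1.symm, show (32 : ℕ) = _ from fold_ok.2.symm]
  exact h3

theorem H_mem (hφ : ∀ t, φ t = t ^ 2 ^ m) (hK : Fintype.card K = 2 ^ (2 * m + 1))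
    (h : ↥(chevF4.group K)) (hh : h ∈ (QD K).sys.H) (hfix : (endo φ).σ h = h) :
    (h : GL chevF4.Idx K) ∈ twistedF4 K (2 ^ m) := by
  classical
  obtain ⟨a, b, rfl⟩ := exists_hc hφ hh hfix
  set t : Kˣ := b * (b ^ 2 ^ m)⁻¹
  have ht : t ^ (2 ^ m * 2 + 2) = b := by
    show (b * (b ^ 2 ^ m)⁻¹) ^ (2 ^ m * 2 + 2) = b
    rw [mul_pow, inv_pow, mul_inv_eq_iff_eq_mul]
    rw [pow_add, pow_add, units_theta hK, ← pow_mul b (2 ^ m) 2]
    simp only [pow_two, mul_comm, mul_left_comm, mul_assoc]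
  obtain ⟨a', ha'⟩ := secondC_mem hφ hK t
  rw [ht] at ha'
  rw [show a = a * a'⁻¹ * a' by rw [inv_mul_cancel_right], ← one_mul b, hc_mul, map_mul,
    Subgroup.coe_mul]
  exact mul_mem (pairC_mem hφ _) ha'

theorem n_mem (hφ : ∀ t, φ t = t ^ 2 ^ m) (j : Fin 2) :
    ∃ h ∈ (QD K).sys.H, ((h * (QD K).sys.rep ((fold φ).ι ((fold φ).gens j)) :
      ↥(chevF4.group K)) : GL chevF4.Idx K) ∈ twistedF4 K (2 ^ m) := by
  obtain ⟨h, hh, e⟩ := rep_word (QD K) ((fold φ).word j) ((fold φ).word_lt j)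
  refine ⟨h, hh, ?_⟩
  rw [(fold φ).ι_gens j, ← e]
  obtain ⟨s0, -, -, s3, -⟩ := simple_ok
  fin_cases j
  · show (((([0, 3] : List ℕ).map fun i => nUG (QD K) (chevF4.simple i) 1).prod :
      ↥(chevF4.group K)) : GL chevF4.Idx K) ∈ _
    have h1 := pairN_mem hφ (1 : K)
    rw [map_one] at h1
    simpa [s0, s3] using h1
  · exact repB_mem

/-- The first orbit. -/
noncomputable def orb (φ : K →+* K) : Orbit (endo φ) :=
  ⟨[0, 3], [24, 33], show ∀ a ∈ [0, 3], a < 4 by decide, flip_ok.2, pair_ok.2.2.2.2.2.2.2.2.2.1,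
    show ∀ r ∈ [24, 33], tables.rh r ∈ [24, 33] by decide +kernel⟩

theorem ι_gen0 : (fold φ).ι ((fold φ).gens (0 : Fin 2)) = Weyl.wOf (QD K).X.M [0, 3] :=
  (fold φ).ι_gens (0 : Fin 2)

theorem base_pair (hφ : ∀ t, φ t = t ^ 2 ^ m) (hK : Fintype.card K = 2 ^ (2 * m + 1)) :
    Nat.card ↥((QD K).sys.Uw ((fold φ).ι ((fold φ).gens (0 : Fin 2))) ⊓ fixedPts (endo φ).σ)
        = Nat.card K ∧
    ∀ v ∈ (QD K).sys.Uw ((fold φ).ι ((fold φ).gens (0 : Fin 2))),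
      (endo φ).σ v = v → (v : GL chevF4.Idx K) ∈ twistedF4 K (2 ^ m) := by
  have hθ := theta hφ hK
  obtain ⟨r1, r2, -, -, l1, l2, -⟩ := pair_ok
  rw [ι_gen0]
  set O := orb φ
  have hL : O.L = [24, 33] := rfl
  set P : K → ℕ → K := fun x r => if r = 24 then x else φ x with hP
  obtain ⟨h1, h2⟩ := O.param P
    (fun x r hr => by
      rw [hL] at hr
      simp only [List.mem_cons, List.not_mem_nil, or_false] at hr
      rcases hr with h | h <;> subst h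
      · show P x (tables.rh 24) = φ (P x 24) ^ Isog.dataF4.lm 24
        simp [hP, r2, l2]
      · show P x (tables.rh 33) = φ (P x 33) ^ Isog.dataF4.lm 33
        simp [hP, r1, l1, hθ])
    (fun x y h => by simpa [hP] using h 24 (by simp [hL]))
    (fun t ht => ⟨t 24, fun r hr => by
      have e : t (tables.rh 24) = φ (t 24) ^ Isog.dataF4.lm 24 := ht 24 (by simp [hL])
      rw [r2, l2, pow_one] at e
      rw [hL] at hr
      simp only [List.mem_cons, List.not_mem_nil, or_false] at hr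
      rcases hr with h | h <;> subst h
      · simp [hP]
      · simp [hP, e]⟩)
  refine ⟨h1, fun v hv hvf => ?_⟩
  obtain ⟨x, rfl⟩ := h2 v hv hvf
  have e : xprod (QD K) O.L (P x) = xe 33 (φ x) * xe 24 x := by
    rw [← O.xprod_perm (L' := [33, 24]) (by rw [hL]; decide) (P x)]
    simp [xprod, hP]
  rw [e]
  exact pair_mem hφ (by simp) x

theorem inv_gen (j : Fin 2) :
    (QD K).X.good.inv ((fold φ).ι ((fold φ).gens j)) = if j = 0 then 2 else 4 := by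
  rw [(fold φ).ι_gens j, inv_word (QD K).X.good ((fold φ).word_lt j)]
  fin_cases j
  · exact congrArg List.length flip_ok.2
  · exact congrArg List.length flip_ok.1

/-- `²F₄(q)` with its fixed pieces. -/
noncomputable def model (hφ : ∀ t, φ t = t ^ 2 ^ m) (hK : Fintype.card K = 2 ^ (2 * m + 1)) :
    Model (fold φ) where
  T := twistedF4 K (2 ^ m)
  le_group := genSubgroup_le_group (Q := QD K) _
  le_fixed := le_fixed hφ hK
  n_mem := n_mem hφ
  H_mem := H_mem hφ hK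
  e := 2
  base_mem j v hv hfix := by
    rcases (show ∀ j : Fin 2, j = 0 ∨ j = 1 by decide) j with h | h <;> subst h
    · exact (base_pair hφ hK).2 v hv hfix
    · obtain ⟨t, c, rfl⟩ := exists_pr hv hfix
      exact pr_mem hφ t c
  base_card j := by
    refine Eq.trans ?_ (congrArg (Nat.card K ^ ·) (inv_gen j)).symm
    rcases (show ∀ j : Fin 2, j = 0 ∨ j = 1 by decide) j with h | h <;> subst h
    · show _ ^ 2 = Nat.card K ^ 2
      rw [(base_pair hφ hK).1]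
    · show _ ^ 2 = Nat.card K ^ 4
      rw [card_base (theta hφ hK)]; ring

theorem card_U (hφ : ∀ t, φ t = t ^ 2 ^ m) (hK : Fintype.card K = 2 ^ (2 * m + 1)) :
    Nat.card ↥(chevF4.posUnipotent K ⊓ twistedF4 K (2 ^ m)) = (2 ^ (2 * m + 1)) ^ 12 := by
  have h := (model hφ hK).card_U_inf
  rw [Nat.card_eq_fintype_card (α := K), hK] at h
  refine Nat.pow_left_injective (show (2 : ℕ) ≠ 0 by norm_num) ?_
  show _ ^ 2 = _ ^ 2
  rw [← pow_mul _ 12 2]
  exact h.trans (congrArg _ (by decide +kernel : chevF4.nroots / 2 = 12 * 2))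

theorem card_H (hφ : ∀ t, φ t = t ^ 2 ^ m) (hK : Fintype.card K = 2 ^ (2 * m + 1)) :
    Nat.card ↥(chevF4.diagonalSubgroup K ⊓ twistedF4 K (2 ^ m))
      = (2 ^ (2 * m + 1) - 1) ^ 2 := by
  classical
  set Md := model hφ hK
  have e1 : Nat.card ↥(chevF4.diagonalSubgroup K ⊓ Md.T)
      = Nat.card ↥((QD K).sys.H ⊓ fixedPts (endo φ).σ) := by
    have h2 : Nat.card ↥Md.tw.H = Nat.card ↥(((QD K).sys.H).subgroupOf (fixedPts (endo φ).σ)) :=
      Nat.card_congr (Subgroup.equivMapOfInjective _ _ Md.iso.injective).toEquiv.symm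
    rw [Md.card_inf_eq, ← Md.tw_H, h2, ← Subgroup.inf_subgroupOf_right,
      Nat.card_congr (Subgroup.subgroupOfEquivOfLe inf_le_right).toEquiv]
  let ψ : Kˣ × Kˣ → ↥((QD K).sys.H ⊓ fixedPts (endo φ).σ) := fun s =>
    ⟨tG (QD K) (hc m s.1 s.2), tG_mem _ _, hc_fixed hφ hK s.1 s.2⟩
  have hψ : Function.Bijective ψ := by
    constructor
    · rintro ⟨a, b⟩ ⟨a', b'⟩ e
      have e' := tG_injective (congrArg Subtype.val e)
      exact Prod.ext (congrFun e' (3 : Fin 4)) (congrFun e' (2 : Fin 4))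
    · rintro ⟨h, hh, hfix⟩
      obtain ⟨a, b, rfl⟩ := exists_hc hφ hh hfix
      exact ⟨(a, b), rfl⟩
  rw [show twistedF4 K (2 ^ m) = Md.T from rfl, e1, ← Nat.card_eq_of_bijective ψ hψ,
    Nat.card_prod, Nat.card_eq_fintype_card, Fintype.card_units, hK, pow_two]

/-- Half the lengths of the sixteen words. -/
def halfLen (a : DihedralGroup 8) : ℕ := (flipList Weyl.certF4 chevF4 (om a)).length / 2

theorem len_ok : ∀ a : DihedralGroup 8,
    (flipList Weyl.certF4 chevF4 (om a)).length = halfLen a * 2 := by decide +kernel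

theorem lens_ok : (Finset.univ.val.map halfLen : Multiset ℕ) =
    ↑([0, 1, 2, 3, 3, 4, 5, 6, 6, 7, 8, 9, 9, 10, 11, 12] : List ℕ) := by decide +kernel

theorem poly_F4 (q : ℕ) : (([0, 1, 2, 3, 3, 4, 5, 6, 6, 7, 8, 9, 9, 10, 11, 12] : List ℕ).map
    (q ^ ·)).sum = (q ^ 3 + 1) * (q + 1) * (q ^ 2 + 1) * (q ^ 6 + 1) := by
  simp only [List.map_cons, List.map_nil, List.sum_cons, List.sum_nil]
  ring

theorem card_group (hφ : ∀ t, φ t = t ^ 2 ^ m) (hK : Fintype.card K = 2 ^ (2 * m + 1)) :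
    Nat.card ↥(twistedF4 K (2 ^ m)) = (2 ^ (2 * m + 1)) ^ 12 * (2 ^ (2 * m + 1) - 1) *
      ((2 ^ (2 * m + 1)) ^ 3 + 1) * ((2 ^ (2 * m + 1)) ^ 4 - 1) *
      ((2 ^ (2 * m + 1)) ^ 6 + 1) := by
  set Md := model hφ hK
  show Nat.card ↥Md.T = _
  have hU : Nat.card Md.tw.U = (2 ^ (2 * m + 1)) ^ 12 := by
    rw [Md.tw_U, ← Md.card_inf_eq]; exact card_U hφ hK
  have hH : Nat.card Md.tw.H = (2 ^ (2 * m + 1) - 1) ^ 2 := by
    rw [Md.tw_H, ← Md.card_inf_eq]; exact card_H hφ hK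
  have hw : ∀ a, Nat.card (Md.tw.Uw a) = (2 ^ (2 * m + 1)) ^ halfLen a := by
    intro a
    refine Nat.pow_left_injective (show (2 : ℕ) ≠ 0 by norm_num) ?_
    show _ ^ 2 = _ ^ 2
    refine (Md.card_tw_Uw a).trans ?_
    rw [Nat.card_eq_fintype_card, hK, ← pow_mul _ (halfLen a) 2]
    congr 1
    refine (inv_word (QD K).X.good ?_).trans (len_ok a)
    exact (show ∀ a : DihedralGroup 8, ∀ i ∈ om a, i < 4 by decide +kernel) a
  generalize hqd : 2 ^ (2 * m + 1) = q at hU hH hw ⊢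
  have hq : 1 ≤ q := hqd ▸ Nat.one_le_two_pow
  rw [Md.tw.toNormalForm.card_eq]
  show Nat.card Md.tw.U * Nat.card Md.tw.H * _ = _
  rw [hU, hH, Finset.sum_congr rfl fun a _ => hw a, Finset.sum_eq_multiset_sum,
    show (fun a => q ^ halfLen a) = (q ^ ·) ∘ halfLen from rfl, ← Multiset.map_map, lens_ok,
    Multiset.map_coe, Multiset.sum_coe, poly_F4]
  obtain ⟨k, rfl⟩ : ∃ k, q = k + 1 := ⟨q - 1, by omega⟩
  have h4 : (k + 1) ^ 4 - 1 = k * ((k + 1) + 1) * ((k + 1) ^ 2 + 1) := by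
    refine Nat.sub_eq_of_eq_add ?_
    ring
  rw [h4, Nat.add_sub_cancel]
  ring

theorem faith (hθ : ∀ t, φ (φ t) ^ 2 = t) (h : ↥(chevF4.group K)) (hh : h ∈ (QD K).sys.H)
    (hc : ∀ v ∈ (QD K).sys.U, (endo φ).σ v = v → h * v = v * h) : h = 1 := by
  obtain ⟨c, rfl⟩ := exists_tG (QD K) hh
  refine eq_one_of_simple (QD K) (tG_mem _ c) fun i => ?_
  obtain ⟨s0, s1, s2, s3, -⟩ := simple_ok
  obtain ⟨r1, r2, -, -, l1, l2, -⟩ := pair_ok
  rcases (show ∀ i : Fin 4, chevF4.simple i.val ∈ [24, 33] ∨ chevF4.simple i.val ∈ [25, 27] by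
    decide +kernel) i with h0 | h0
  · refine (orb φ).commute_of_one (tG_mem _ c) (hc _ ?_ ?_) h0
    · exact (QD K).sys.Uw_le _ ((orb φ).Uw_eq.symm ▸ xprod_mem (QD K) _)
    · refine ((orb φ).fixed_iff _).2 fun r _ => ?_
      show (1 : K) = φ 1 ^ Isog.dataF4.lm r
      rw [map_one, one_pow]
  · have e := hc (pr pc φ 1 0) ((QD K).sys.Uw_le _ (pr_Uw (φ := φ) 1 0))
      (pr_fixed hθ (by simp) _ _)
    rw [← mul_inv_eq_iff_eq_mul, ← MulAut.conj_apply, pr, four] at e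
    simp only [map_mul (MulAut.conj (tG (QD K) c)), MulAut.conj_apply, pc] at e
    rw [tG_conj (QD K) c (by decide), tG_conj (QD K) c (by decide), tG_conj (QD K) c (by decide),
      tG_conj (QD K) c (by decide)] at e
    obtain ⟨h5, h7, -⟩ := four_inj (show four pc _ _ _ _ = four pc _ _ _ _ from e)
    simp only [map_one, mul_one] at h5 h7
    have key : (chT c (chevF4.simple i.val) : K) = 1 := by
      simp only [List.mem_cons, List.not_mem_nil, or_false] at h0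
      rcases h0 with e0 | e0 <;> rw [e0]
      · exact h5
      · exact h7
    rw [← mul_inv_eq_iff_eq_mul, tG_conj (QD K) c ((QD K).K.simple_lt i.val i.isLt).1, key,
      one_mul]

end Cfsg.Agent.H37.Twist.F4
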