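import Cfsg.Agent.H37.Twist.F4

/-!
`²F₄(q)`, `q > 2`, is perfect and simple.
-/
set_option autoImplicit false
set_option maxRecDepth 100000

namespace Cfsg.Agent.H37.Twist.F4

open Cfsg.Lie Cfsg.Agent.H37.RootSys Cfsg.Agent.H37.NormalForm
open scoped commutatorElement

variable {K : Type*} [Field K] [Fintype K] [CharP K 2] {φ : K →+* K} {m : ℕ}

omit [Fintype K] [CharP K 2] in
/-- The first coordinate of a product along the four roots. -/
theorem four_head (T U c d : K) :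
    ∃ p ∈ XS (QD K).sys.toUnip.x {r | r ∈ pos.toFinset ∧ 25 < r},
      four pc T U c d = (QD K).sys.toUnip.x 25 T * p := by
  have hm : ∀ r, r ∈ pos → 25 < r → ∀ s : K,
      xe r s ∈ XS (QD K).sys.toUnip.x {r | r ∈ pos.toFinset ∧ 25 < r} :=
    fun r hr hlt s => x_mem_XS (S := {r | r ∈ pos.toFinset ∧ 25 < r}) ⟨List.mem_toFinset.2 hr, hlt⟩ s
  refine ⟨xe 27 U * (xe 28 c * xe 30 d), mul_mem (hm _ (by simp [pos]) (by norm_num) _)
    (mul_mem (hm _ (by simp [pos]) (by norm_num) _) (hm _ (by simp [pos]) (by norm_num) _)), ?_⟩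
  simp only [four, pc]
  rw [mul_assoc]
  rfl

omit [Fintype K] [CharP K 2] in
/-- The first coordinate is additive. -/
theorem head_add {T U c d T' U' c' d' T'' U'' c'' d'' : K}
    (h : four pc T'' U'' c'' d'' = four pc T U c d * four pc T' U' c' d') : T'' = T + T' := by
  obtain ⟨p, hp, e⟩ := four_head T U c d
  obtain ⟨p', hp', e'⟩ := four_head T' U' c' d'
  obtain ⟨p'', hp'', e''⟩ := four_head T'' U'' c'' d''
  set Y := (QD K).sys.toUnip
  have h6 : (25 : ℕ) ∈ pos.toFinset := by simp [pos]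
  rw [e, e', e'', show Y.x 25 T * p * (Y.x 25 T' * p') =
    Y.x 25 T * Y.x 25 T' * ((Y.x 25 T')⁻¹ * p * Y.x 25 T' * p') by group,
    ← Y.x_add 25 ((closed_pos (K := K)).1 h6)] at h
  exact (Y.head_unique closed_pos h6 hp''
    (mul_mem (Y.conj_tail' closed_pos h6 T' hp) hp') h).1

theorem pr_top_mul (c c' : K) : pr pc φ 0 c * pr pc φ 0 c' = pr pc φ 0 (c + c') := by
  obtain ⟨-, -, -, -, -, -, -, -, hb, ha, hab, haab, -⟩ := four_ok pc (by simp)
  simp only [pr, four, map_zero, zero_mul, zero_add, xe_zero hb, xe_zero ha, one_mul]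
  rw [xe_add hab, map_add, show (φ c + φ c') ^ 2 = φ c ^ 2 + φ c' ^ 2 by
    linear_combination (φ c * φ c') * two_eq (K := K), xe_add haab]
  calc xe pc.ab c * xe pc.aab (φ c ^ 2) * (xe pc.ab c' * xe pc.aab (φ c' ^ 2))
      = xe pc.ab c * (xe pc.aab (φ c ^ 2) * xe pc.ab c') * xe pc.aab (φ c' ^ 2) := by group
    _ = _ := by rw [← (top_commute (show pc ∈ [pc, nc] by simp) _ _).eq]; group

theorem conj_pr (hφ : ∀ t, φ t = t ^ 2 ^ m) (hK : Fintype.card K = 2 ^ (2 * m + 1)) (a b : Kˣ)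
    (t c : K) :
    tG (QD K) (hc m a b) * pr pc φ t c * (tG (QD K) (hc m a b))⁻¹
      = pr pc φ ((chT (hc m a b) 25 : K) * t) ((chT (hc m a b) 28 : K) * c) := by
  have hθ := theta hφ hK
  have hmem : (pc ∈ [pc, nc]) := by simp
  set h := tG (QD K) (hc m a b)
  have hfix : (endo φ).σ (h * pr pc φ t c * h⁻¹) = h * pr pc φ t c * h⁻¹ := by
    rw [map_mul, map_mul, map_inv, hc_fixed hφ hK a b, pr_fixed hθ hmem]
  have e : h * pr pc φ t c * h⁻¹ = four pc ((chT (hc m a b) 25 : K) * t)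
      ((chT (hc m a b) 27 : K) * φ t) ((chT (hc m a b) 28 : K) * c)
      ((chT (hc m a b) 30 : K) * (t * φ t ^ 2 + φ c ^ 2)) := by
    rw [← MulAut.conj_apply]
    simp only [pr, four, map_mul (MulAut.conj h), MulAut.conj_apply, pc]
    rw [tG_conj (QD K) _ (by decide), tG_conj (QD K) _ (by decide), tG_conj (QD K) _ (by decide),
      tG_conj (QD K) _ (by decide)]
  have hU : h * pr pc φ t c * h⁻¹ ∈ (QD K).sys.Uw ((fold φ).ι ((fold φ).gens (1 : Fin 2))) := by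
    rw [e, Uw_gen]
    exact four_mem _ _ _ _
  obtain ⟨t', c', e'⟩ := exists_pr hU hfix
  obtain ⟨h1, -, h3, -⟩ := four_inj (e.symm.trans e')
  rw [e', h1, h3]

theorem exists_gen (hK : Fintype.card K = 2 ^ (2 * m + 1)) :
    ∃ g : Kˣ, orderOf g = 2 ^ (2 * m + 1) - 1 := by
  classical
  obtain ⟨g, hg⟩ := IsCyclic.exists_generator (α := Kˣ)
  exact ⟨g, by rw [orderOf_eq_card_of_forall_mem_zpowers hg, Nat.card_eq_fintype_card,
    Fintype.card_units, hK]⟩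

theorem cartan_move : chevF4.cartan 1 25 = -2 ∧ chevF4.cartan 2 25 = 2 ∧
    chevF4.cartan 1 28 = 0 ∧ chevF4.cartan 2 28 = 1 ∧ chevF4.cartan 0 24 = 0 ∧
    chevF4.cartan 3 24 = 2 ∧ chevF4.cartan 0 33 = 2 ∧ chevF4.cartan 3 33 = 0 := by decide +kernel

theorem exists_move (hK : Fintype.card K = 2 ^ (2 * m + 1)) (hm : 1 ≤ m) :
    ∃ g : Kˣ, (chT (hc m 1 g) 25 : K) ≠ 1 ∧ (chT (hc m 1 g) 28 : K) ≠ 1 ∧
      chT (hc m g 1) 24 ≠ 1 ∧ chT (hc m g 1) 33 ≠ 1 := by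
  obtain ⟨g, hg⟩ := exists_gen hK
  obtain ⟨a1, a2, a3, a4, a5, a6, a7, a8⟩ := cartan_move
  have he2 : 2 ≤ 2 ^ m := by simpa using Nat.pow_le_pow_right (show 0 < 2 by norm_num) hm
  have hq : 2 ^ (2 * m + 1) = 2 ^ m * 2 ^ m * 2 := by ring
  have h4 : 2 * 2 ^ m ≤ 2 ^ m * 2 ^ m := Nat.mul_le_mul_right _ he2
  have hbig : ∀ n, 0 < n → n < 2 ^ m * 2 ^ m * 2 - 1 → g ^ n ≠ 1 := fun n h0 hn h => by
    have := orderOf_le_of_pow_eq_one h0 h
    omega
  refine ⟨g, ?_, ?_, ?_, ?_⟩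
  · rw [ne_eq, Units.val_eq_one, chT_eq, a1, a2]
    show ¬((1 : Kˣ) ^ 2 ^ m) ^ chevF4.cartan 0 25 * (g ^ 2 ^ m) ^ (-2 : ℤ) * g ^ (2 : ℤ) *
      (1 : Kˣ) ^ chevF4.cartan 3 25 = 1
    simp only [one_pow, one_zpow, one_mul, mul_one, zpow_neg, zpow_ofNat, inv_mul_eq_one,
      ← pow_mul]
    intro h
    have h' : g ^ (2 ^ m * 2 - 2) * g ^ 2 = 1 * g ^ 2 := by
      rw [one_mul, ← pow_add, show 2 ^ m * 2 - 2 + 2 = 2 ^ m * 2 by omega]
      exact h
    exact hbig _ (by omega) (by omega) (mul_right_cancel h')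
  · rw [ne_eq, Units.val_eq_one, chT_eq, a3, a4]
    show ¬((1 : Kˣ) ^ 2 ^ m) ^ chevF4.cartan 0 28 * (g ^ 2 ^ m) ^ (0 : ℤ) * g ^ (1 : ℤ) *
      (1 : Kˣ) ^ chevF4.cartan 3 28 = 1
    simp only [one_pow, one_zpow, one_mul, mul_one, zpow_zero, zpow_one]
    simpa using hbig 1 one_pos (by omega)
  · rw [chT_eq, a5, a6]
    show (g ^ 2 ^ m) ^ (0 : ℤ) * ((1 : Kˣ) ^ 2 ^ m) ^ chevF4.cartan 1 24 *
      (1 : Kˣ) ^ chevF4.cartan 2 24 * g ^ (2 : ℤ) ≠ 1
    simp only [one_pow, one_zpow, one_mul, mul_one, zpow_zero, zpow_ofNat, pow_zero]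
    exact hbig 2 two_pos (by omega)
  · rw [chT_eq, a7, a8]
    show (g ^ 2 ^ m) ^ (2 : ℤ) * ((1 : Kˣ) ^ 2 ^ m) ^ chevF4.cartan 1 33 *
      (1 : Kˣ) ^ chevF4.cartan 2 33 * g ^ (0 : ℤ) ≠ 1
    simp only [one_pow, one_zpow, one_mul, mul_one, zpow_zero, zpow_ofNat, pow_zero, ← pow_mul]
    exact hbig _ (by omega) (by omega)

theorem base_commutator (hφ : ∀ t, φ t = t ^ 2 ^ m) (hK : Fintype.card K = 2 ^ (2 * m + 1))
    (hm : 1 ≤ m) (j : Fin 2) :
    ∀ v ∈ (QD K).sys.Uw ((fold φ).ι ((fold φ).gens j)), (endo φ).σ v = v →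
      v ∈ ⁅fixedPts (endo φ).σ, fixedPts (endo φ).σ⁆ := by
  have hθ := theta hφ hK
  have hmem : (pc ∈ [pc, nc]) := by simp
  obtain ⟨g, h25, h28, h24, h33⟩ := exists_move (K := K) hK hm
  rcases (show ∀ j : Fin 2, j = 0 ∨ j = 1 by decide) j with hj | hj <;> subst hj
  · intro v hv hfix
    rw [ι_gen0] at hv
    refine (orb φ).mem_commutator (c := hc m g 1) (hc_fixed hφ hK g 1) (fun r hr => ?_) hv hfix
    have hr' : r ∈ ([24, 33] : List ℕ) := hr
    simp only [List.mem_cons, List.not_mem_nil, or_false] at hr'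
    rcases hr' with e | e <;> subst e
    · exact h24
    · exact h33
  set h := tG (QD K) (hc m 1 g)
  have hh : h ∈ fixedPts (endo φ).σ := hc_fixed hφ hK 1 g
  have hp : ∀ t c : K, pr pc φ t c ∈ fixedPts (endo φ).σ := fun t c => pr_fixed hθ hmem t c
  have hzero : pr pc φ 0 0 = 1 := by
    have := pr_top_mul (φ := φ) (0 : K) 0
    rw [add_zero] at this
    exact mul_eq_left.1 this
  have htop : ∀ c : K, pr pc φ 0 c ∈ ⁅fixedPts (endo φ).σ, fixedPts (endo φ).σ⁆ := by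
    intro c
    set c0 := c / ((chT (hc m 1 g) 28 : K) - 1) with hc0
    have hinv : (pr pc φ 0 c0)⁻¹ = pr pc φ 0 (-c0) :=
      inv_eq_of_mul_eq_one_right (by rw [pr_top_mul, add_neg_cancel, hzero])
    have e : ⁅h, pr pc φ 0 c0⁆ = pr pc φ 0 c := by
      rw [commutatorElement_def, conj_pr hφ hK, mul_zero, hinv, pr_top_mul]
      have e8 := sub_ne_zero.2 h28
      congr 1
      simp only [hc0]
      field_simp
      ring
    rw [← e]
    exact Subgroup.commutator_mem_commutator hh (hp _ _)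
  intro v hv hfix
  obtain ⟨t, c, rfl⟩ := exists_pr hv hfix
  set t0 := t / ((chT (hc m 1 g) 25 : K) - 1) with ht0
  have hw : ⁅h, pr pc φ t0 0⁆ ∈ ⁅fixedPts (endo φ).σ, fixedPts (endo φ).σ⁆ :=
    Subgroup.commutator_mem_commutator hh (hp _ _)
  have hwU : ⁅h, pr pc φ t0 0⁆ ∈ (QD K).sys.Uw ((fold φ).ι ((fold φ).gens (1 : Fin 2))) := by
    rw [commutatorElement_def, conj_pr hφ hK]
    exact mul_mem (pr_Uw _ _) (inv_mem (pr_Uw _ _))
  have hwf : (endo φ).σ ⁅h, pr pc φ t0 0⁆ = ⁅h, pr pc φ t0 0⁆ := by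
    rw [map_commutatorElement, show (endo φ).σ h = h from hh,
      show (endo φ).σ (pr pc φ t0 0) = pr pc φ t0 0 from hp _ _]
  obtain ⟨t1, c1, e1⟩ := exists_pr hwU hwf
  obtain ⟨t2, c2, e2⟩ := exists_pr (mul_mem (inv_mem hwU) hv)
    (by rw [map_mul, map_inv, hwf, hfix])
  have ea : pr pc φ ((chT (hc m 1 g) 25 : K) * t0) ((chT (hc m 1 g) 28 : K) * 0)
      = pr pc φ t1 c1 * pr pc φ t0 0 := by
    rw [← e1, commutatorElement_def, conj_pr hφ hK, inv_mul_cancel_right]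
  have eb : pr pc φ t c = pr pc φ t1 c1 * pr pc φ t2 c2 := by
    rw [← e2, ← e1, mul_inv_cancel_left]
  have ha := head_add ea
  have hb := head_add eb
  have e6 := sub_ne_zero.2 h25
  have hkey : (chT (hc m 1 g) 25 : K) * t0 = t0 + t := by
    simp only [ht0]; field_simp; ring
  have ht2 : t2 = 0 := by linear_combination -hb + ha - hkey
  rw [eb, ← e1]
  refine mul_mem hw ?_
  rw [ht2]
  exact htop c2

theorem commutator_top (hφ : ∀ t, φ t = t ^ 2 ^ m) (hK : Fintype.card K = 2 ^ (2 * m + 1))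
    (hm : 1 ≤ m) : commutator ↥(twistedF4 K (2 ^ m)) = ⊤ := by
  set Md := model hφ hK
  show commutator ↥Md.T = ⊤
  refine Md.commutator_eq_top (Md.fixed_le_commutator
    (G0 := {g | ∃ w ∈ f4Words K (2 ^ m), g = wG (QD K) w}) ?_ ?_ (base_commutator hφ hK hm))
  · rw [← Md.fixed_eq]
    intro g hg
    exact le_closure_words hg
  · rintro g ⟨w, hw, rfl⟩
    have hfix := le_fixed hφ hK _ (wG_mem (Q := QD K) hw)
    have hmemS : ∀ S : Set ℕ, (∀ p ∈ w, p.1 ∈ S) → wG (QD K) w ∈ XS (QD K).sys.x S := by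
      intro S hS
      refine Subgroup.list_prod_mem _ fun y hy => ?_
      obtain ⟨p, hp, rfl⟩ := List.mem_map.1 hy
      exact x_mem_XS (hS p hp) p.2
    have negA : ∀ j : Fin 2, ∀ L : List ℕ,
        (∀ r ∈ L, r < chevF4.nroots ∧ Weyl.certF4.act (word j) r ∈
          flipList Weyl.certF4 chevF4 (word j)) → (∀ p ∈ w, p.1 ∈ L) →
        ∃ j, ∃ m' ∈ fixedPts (endo φ).σ, ∃ v ∈ (QD K).sys.Uw ((fold φ).ι ((fold φ).gens j)),
          (endo φ).σ v = v ∧ wG (QD K) w = m' * v * m'⁻¹ := by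
      intro j L hL hp
      refine ⟨j, Md.neg_piece j (A := {r | r ∈ L}) (fun r hr => ?_) (hmemS _ hp) hfix⟩
      obtain ⟨h1, h2⟩ := hL r hr
      refine ⟨h1, ?_⟩
      rw [(fold φ).ι_gens j, (QD K).X.good.hom_wOf_val ((fold φ).word_lt j),
        flip_word (QD K).X.good ((fold φ).word_lt j), List.coe_toFinset]
      exact h2
    have posA : ∀ j : Fin 2, (∀ p ∈ w, p.1 ∈ flipList Weyl.certF4 chevF4 (word j)) →
        ∃ j, ∃ m' ∈ fixedPts (endo φ).σ, ∃ v ∈ (QD K).sys.Uw ((fold φ).ι ((fold φ).gens j)),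
          (endo φ).σ v = v ∧ wG (QD K) w = m' * v * m'⁻¹ := by
      intro j hp
      refine ⟨j, 1, one_mem _, _, ?_, hfix, by group⟩
      rw [(fold φ).ι_gens j, Sys.Uw, flip_word (QD K).X.good ((fold φ).word_lt j),
        List.coe_toFinset]
      exact hmemS _ hp
    rcases hw with ⟨t, rfl | rfl⟩ | ⟨t, u, rfl | rfl⟩
    · refine posA 0 ?_
      simp only [f4PairWord, List.forall_mem_cons, List.not_mem_nil, false_implies, implies_true,
        and_true]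
      decide +kernel
    · refine negA 0 [14, 23] (by decide +kernel) ?_
      simp [f4PairWord, f4m1, f4m4]
    · refine posA 1 ?_
      simp only [b2ClassWord, List.forall_mem_cons, List.not_mem_nil, false_implies, implies_true,
        and_true]
      decide +kernel
    · refine negA 1 [17, 19, 20, 22] (by decide +kernel) ?_
      simp [b2ClassWord, f4ma, f4mb, f4mab, f4maab]

theorem simple (hφ : ∀ t, φ t = t ^ 2 ^ m) (hK : Fintype.card K = 2 ^ (2 * m + 1)) (hm : 1 ≤ m) :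
    IsSimpleGroup ↥(twistedF4 K (2 ^ m)) ∧ ¬ IsMulCommutative ↥(twistedF4 K (2 ^ m)) := by
  refine (model hφ hK).simple (fun h hh _ hc => faith (theta hφ hK) h hh hc) ?_
    (commutator_top hφ hK hm)
  intro J hJ hne hne'
  obtain ⟨a, ha⟩ := hne
  obtain ⟨b, hb, hbJ⟩ := hne'
  refine ⟨a, ha, b, ⟨hb, hbJ⟩, ?_⟩
  obtain ⟨i, rfl⟩ := hJ ha
  obtain ⟨i', rfl⟩ := hb
  have hne : i ≠ i' := fun h => hbJ (h ▸ ha)
  exact (show ∀ i i' : Fin 2, i ≠ i' → gens i * gens i' ≠ gens i' * gens i by decide) i i' hne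

end Cfsg.Agent.H37.Twist.F4
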