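import Cfsg.Agent.H37.Twist.Endo

/-!
The torus as the image of `(Kˣ)^n`: action on root elements, action of the endomorphism, lifting
of fixed elements.
-/
set_option autoImplicit false

namespace Cfsg.Agent.H37.Twist

open Cfsg.Lie Cfsg.Agent.H37.RootSys

variable {D : ChevalleyDatum} {K : Type*} [Field K] (Q : Chev.Data D K)

/-- The parametrisation of the diagonal subgroup inside the group. -/
def tG : (Fin D.rank → Kˣ) →* ↥(D.group K) :=
  (Chevalley.torus D K).codRestrict (D.group K) fun c => diagonal_le_group Q.ord (by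
    rw [Q.K.diagonalSubgroup_eq K]; exact ⟨c, rfl⟩)

theorem tG_mem (c : Fin D.rank → Kˣ) : tG Q c ∈ Q.sys.H := by
  show Chevalley.torus D K c ∈ D.diagonalSubgroup K
  rw [Q.K.diagonalSubgroup_eq K]; exact ⟨c, rfl⟩

theorem exists_tG {h : ↥(D.group K)} (hh : h ∈ Q.sys.H) : ∃ c, tG Q c = h := by
  have hh' : (h : GL D.Idx K) ∈ D.diagonalSubgroup K := hh
  rw [Q.K.diagonalSubgroup_eq K] at hh'
  obtain ⟨c, e⟩ := hh'
  exact ⟨c, Subtype.ext e⟩

theorem tG_single (i : Fin D.rank) (t : Kˣ) :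
    tG Q (Pi.mulSingle i t) = hUG Q (D.simple i.val) (t : K) := by
  refine Subtype.ext ?_
  show Chevalley.torus D K _ = Q.K.hU K (D.simple i.val) (t : K)
  rw [Q.K.hU_diag K (Q.K.simple_lt i.val i.isLt).1]
  show Chevalley.dU _ = Chevalley.dU _
  congr 1
  funext x
  rw [Finset.prod_eq_single i (fun m _ hm => by rw [Pi.mulSingle_eq_of_ne hm, one_zpow]) (by simp),
    Pi.mulSingle_eq_same]

/-- The value of a torus element on a root. -/
def chT (c : Fin D.rank → Kˣ) (r : ℕ) : Kˣ := ∏ m : Fin D.rank, c m ^ D.cartan m.val r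

theorem tG_conj (c : Fin D.rank → Kˣ) {r : ℕ} (hr : r < D.nroots) (t : K) :
    tG Q c * xG Q.K K r t * (tG Q c)⁻¹ = xG Q.K K r ((chT c r : K) * t) := by
  refine Subtype.ext ?_
  show Chevalley.torus D K c * Q.K.xU K r t * (Chevalley.torus D K c)⁻¹ = Q.K.xU K r _
  rw [Q.K.torus_eq_prod, chT, Fin.prod_univ_def]
  induction List.finRange D.rank generalizing t with
  | nil => simp
  | cons m l ih =>
      rw [List.map_cons, List.prod_cons, List.map_cons, List.prod_cons, mul_inv_rev,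
        show ∀ (a b : GL D.Idx K), a * b * Q.K.xU K r t * (b⁻¹ * a⁻¹)
          = a * (b * Q.K.xU K r t * b⁻¹) * a⁻¹ from fun a b => by group, ih,
        Q.K.hU_conj_xU K (Q.K.simple_lt m m.isLt).1 hr, Q.K.pairing_simple m.isLt]
      congr 1
      push_cast
      ring

theorem xG_inj {r : ℕ} (hr : r < D.nroots) {a b : K} (h : xG Q.K K r a = xG Q.K K r b) :
    a = b := by
  have h' : Q.K.xU K r a = Q.K.xU K r b := congrArg Subtype.val h
  have : Q.K.xU K r (a - b) = 1 := by
    rw [sub_eq_add_neg, ← Q.K.xU_add, h', Q.K.xU_add, add_neg_cancel, Q.K.xU_zero]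
  exact sub_eq_zero.1 ((Q.K.xU_eq_one_iff K hr _).1 this)

include Q in
theorem chT_eq_one_of_simple (c : Fin D.rank → Kˣ)
    (h : ∀ j : Fin D.rank, chT c (D.simple j.val) = 1) {r : ℕ} (hr : r < D.nroots) :
    chT c r = 1 := by
  unfold chT at *
  have e : ∀ m : Fin D.rank, c m ^ D.cartan m.val r
      = ∏ j : Fin D.rank, (c m ^ D.cartan m.val (D.simple j.val)) ^ Q.K.cf r j.val := by
    intro m
    rw [Q.K.cartan_lin m.val m.isLt r hr, Chevalley.list_sum_range_map,
      ← Fin.sum_univ_eq_sum_range (fun j => Q.K.cf r j * D.cartan m.val (D.simple j))]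
    generalize (Finset.univ : Finset (Fin D.rank)) = S
    classical
    induction S using Finset.induction with
    | empty => simp
    | insert a S ha ih =>
        rw [Finset.sum_insert ha, Finset.prod_insert ha, zpow_add, ih, mul_comm (Q.K.cf r a.val),
          zpow_mul]
  rw [Finset.prod_congr rfl fun m _ => e m, Finset.prod_comm]
  refine Finset.prod_eq_one fun j _ => ?_
  rw [Finset.prod_zpow, h j, one_zpow]

/-- A torus element fixing `x_p(1)` for all fundamental roots `p` is trivial. -/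
theorem eq_one_of_simple {h : ↥(D.group K)} (hh : h ∈ Q.sys.H)
    (hc : ∀ j : Fin D.rank,
      h * xG Q.K K (D.simple j.val) 1 = xG Q.K K (D.simple j.val) 1 * h) : h = 1 := by
  obtain ⟨c, rfl⟩ := exists_tG Q hh
  refine Subtype.ext (Q.faithful hh fun r hr _ => ?_)
  have h1 : ∀ j : Fin D.rank, chT c (D.simple j.val) = 1 := fun j => by
    have e := tG_conj Q c (Q.K.simple_lt j.val j.isLt).1 (1 : K)
    rw [hc j, mul_inv_cancel_right, mul_one] at e
    exact Units.ext (xG_inj Q (Q.K.simple_lt j.val j.isLt).1 e).symm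
  have e := tG_conj Q c hr (1 : K)
  rw [chT_eq_one_of_simple Q c h1 hr, Units.val_one, one_mul, mul_inv_eq_iff_eq_mul] at e
  exact congrArg Subtype.val e

namespace Endo

variable {Q} (E : Endo Q)

/-- The endomorphism is a power map on the fundamental roots, without signs. -/
def NoSign (e : ℕ → ℕ) : Prop :=
  ∀ i, i < D.rank → (∀ t, E.f (D.simple i) t = t ^ e i) ∧ E.f (D.simple i) (-1) = -1

theorem rank_lt (_E : Endo Q) (i : Fin D.rank) : i.val < Q.X.n :=
  lt_of_lt_of_eq i.isLt Q.rank_eq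

/-- The induced map on the parameters. -/
def hat (e : ℕ → ℕ) : (Fin D.rank → Kˣ) →* (Fin D.rank → Kˣ) :=
  ∏ i : Fin D.rank, (MonoidHom.mulSingle (fun _ => Kˣ) ⟨E.s.T.p i.val,
    lt_of_lt_of_eq (E.s.p_spec (E.rank_lt i)).1 Q.rank_eq.symm⟩).comp
      ((powMonoidHom (e i.val)).comp (Pi.evalMonoidHom (fun _ => Kˣ) i))

theorem p_inj {i j : Fin D.rank} (h : E.s.T.p i.val = E.s.T.p j.val) : i = j := by
  have h1 := (E.s.p_spec (E.rank_lt i)).2
  have h2 := (E.s.p_spec (E.rank_lt j)).2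
  rw [h, ← h2] at h1
  have := E.s.rh_inj (Q.K.simple_lt i.val i.isLt).1 (Q.K.simple_lt j.val j.isLt).1 h1
  have h3 := congrArg Fin.val (Q.simple_inj (i := ⟨i.val, E.rank_lt i⟩)
    (j := ⟨j.val, E.rank_lt j⟩) this)
  exact Fin.ext h3

theorem hat_apply (e : ℕ → ℕ) (c : Fin D.rank → Kˣ) (i j : Fin D.rank)
    (h : E.s.T.p i.val = j.val) : E.hat e c j = c i ^ e i.val := by
  simp only [hat, MonoidHom.finsetProd_apply, Finset.prod_apply, MonoidHom.comp_apply,
    MonoidHom.mulSingle_apply, powMonoidHom_apply, Pi.evalMonoidHom_apply]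
  rw [Finset.prod_eq_single i]
  · rw [show (⟨E.s.T.p i.val, _⟩ : Fin D.rank) = j from Fin.ext h, Pi.mulSingle_eq_same]
  · intro m _ hm
    refine Pi.mulSingle_eq_of_ne ?_ _
    intro e'
    exact hm (E.p_inj (h.trans (congrArg Fin.val e')).symm)
  · simp

theorem σ_tG {e : ℕ → ℕ} (hns : E.NoSign e) (c : Fin D.rank → Kˣ) :
    E.σ (tG Q c) = tG Q (E.hat e c) := by
  suffices E.σ.comp (tG Q) = (tG Q).comp (E.hat e) from DFunLike.congr_fun this c
  refine MonoidHom.pi_ext fun i t => ?_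
  have hp := (E.s.p_spec (E.rank_lt i)).1
  have hs := (Q.K.simple_lt i.val i.isLt).1
  have ehat : E.hat e (Pi.mulSingle i t)
      = Pi.mulSingle ⟨E.s.T.p i.val, lt_of_lt_of_eq hp Q.rank_eq.symm⟩ (t ^ e i.val) := by
    simp only [hat, MonoidHom.finsetProd_apply, MonoidHom.comp_apply,
      MonoidHom.mulSingle_apply, powMonoidHom_apply, Pi.evalMonoidHom_apply]
    rw [Finset.prod_eq_single i]
    · rw [Pi.mulSingle_eq_same]
    · intro m _ hm
      rw [Pi.mulSingle_eq_of_ne hm, one_pow, Pi.mulSingle_one]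
    · simp
  rw [MonoidHom.comp_apply, MonoidHom.comp_apply, ehat, tG_single, tG_single, hUG_eq, map_mul,
    E.σ_nU hs t.ne_zero, E.σ_nU hs (neg_ne_zero.2 one_ne_zero), (hns i.val i.isLt).1,
    (hns i.val i.isLt).2, (E.s.p_spec (E.rank_lt i)).2, ← hUG_eq, Units.val_pow_eq_pow_val]

/-- A fixed torus element lifts to fixed parameters when every admissible kernel element is
corrected. -/
theorem exists_fixed_lift {e : ℕ → ℕ} (hns : E.NoSign e)
    (hcor : ∀ c z, tG Q z = 1 → E.hat e c = c * z →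
      ∃ y, tG Q y = 1 ∧ E.hat e (c * y) = c * y)
    {h : ↥(D.group K)} (hh : h ∈ Q.sys.H) (hfix : E.σ h = h) :
    ∃ c, E.hat e c = c ∧ tG Q c = h := by
  obtain ⟨c, rfl⟩ := exists_tG Q hh
  rw [E.σ_tG hns] at hfix
  have hz : tG Q (c⁻¹ * E.hat e c) = 1 := by rw [map_mul, map_inv, hfix, inv_mul_cancel]
  obtain ⟨y, hy, hyc⟩ := hcor c _ hz (mul_inv_cancel_left c _).symm
  exact ⟨c * y, hyc, by rw [map_mul, hy, mul_one]⟩

end Endo

end Cfsg.Agent.H37.Twist
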