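import Cfsg.Agent.H37.Twist.ReeCommon
import Cfsg.Agent.H37.Twist.Pieces
import Cfsg.Agent.H37.Twist.Torus

/-!
Collection of words in root elements with symbolic coefficients, in characteristic two.
-/
set_option autoImplicit false

namespace Cfsg.Agent.H37.Twist.Collect

open Cfsg.Lie Cfsg.Agent.H37.RootSys

/-- A monomial: its variables with multiplicity. -/
abbrev Mon := List ℕ

/-- A polynomial over the field with two elements. -/
abbrev Poly := List Mon

/-- A word with symbolic coefficients. -/
abbrev Word := List (ℕ × Poly)

/-- Adding one monomial. -/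
def toggle (m : Mon) : Poly → Poly
  | [] => [m]
  | x :: xs => if x = m then xs else x :: toggle m xs

/-- Sum. -/
def padd : Poly → Poly → Poly
  | [], q => q
  | m :: p, q => padd p (toggle m q)

/-- Inserting a variable into a sorted monomial. -/
def mins (i : ℕ) : Mon → Mon
  | [] => [i]
  | j :: m => if i ≤ j then i :: j :: m else j :: mins i m

/-- Product of monomials. -/
def mmul (a b : Mon) : Mon := a.foldr mins b

/-- Product. -/
def pmul (p q : Poly) : Poly :=
  padd (p.flatMap fun a => q.map fun b => mmul a b) []

/-- Power. -/
def ppow (p : Poly) : ℕ → Poly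
  | 0 => [[]]
  | n + 1 => pmul (ppow p n) p

/-- Appending a root element to a collected product, last factor first. -/
def ins (D : ChevalleyDatum) : ℕ → Word → ℕ → Poly → Word
  | 0, st, r, p => (r, p) :: st
  | _ + 1, [], r, p => if p = [] then [] else [(r, p)]
  | f + 1, (s, u) :: st, r, p =>
      if p = [] then (s, u) :: st
      else if s < r then (r, p) :: (s, u) :: st
      else if s = r then (if padd p u = [] then st else (r, padd p u) :: st)
      else if r < D.nroots ∧ s < D.nroots ∧ s ≠ r ∧ s ≠ D.neg r then
        (D.commTerms r s).foldl (fun acc c =>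
          if c.2.1 % 2 = 0 then acc
          else ins D f acc c.1 (pmul (ppow p c.2.2.1) (ppow u c.2.2.2)))
          (ins D f (ins D f st r p) s u)
      else (r, p) :: (s, u) :: st

/-- The collected word. -/
def collect (D : ChevalleyDatum) (w : Word) : Word :=
  (w.foldl (fun acc q => ins D 80 acc q.1 q.2) []).reverse

/-- The coefficient at a root. -/
def coordP : Word → ℕ → Poly
  | [], _ => []
  | (s, u) :: w, r => if s = r then u else coordP w r

variable {K : Type*} [Field K]

/-- Value of a monomial. -/
def ev1 (v : ℕ → K) (m : Mon) : K := (m.map v).prod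

/-- Value of a polynomial. -/
def ev (v : ℕ → K) (p : Poly) : K := (p.map (ev1 v)).sum

/-- Value of a word. -/
def evw (v : ℕ → K) (w : Word) : List (ℕ × K) := w.map fun q => (q.1, ev v q.2)

variable [CharP K 2] (v : ℕ → K)

omit [CharP K 2] in
theorem ev_cons (m : Mon) (p : Poly) : ev v (m :: p) = ev1 v m + ev v p := by simp [ev]

theorem ev_toggle (m : Mon) : ∀ p : Poly, ev v (toggle m p) = ev1 v m + ev v p
  | [] => by simp [toggle, ev]
  | x :: xs => by
      rw [toggle]
      split_ifs with h
      · subst h; rw [ev_cons, ← add_assoc, CharTwo.add_self_eq_zero, zero_add]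
      · rw [ev_cons, ev_cons, ev_toggle m xs]; ring

theorem ev_padd : ∀ p q : Poly, ev v (padd p q) = ev v p + ev v q
  | [], q => by simp [padd, ev]
  | m :: p, q => by rw [padd, ev_padd p, ev_toggle, ev_cons]; ring

theorem ev_pmul (p q : Poly) : ev v (pmul p q) = ev v p * ev v q := by
  have hins : ∀ (i : ℕ) (m : Mon), ev1 v (mins i m) = v i * ev1 v m := by
    intro i m
    induction m with
    | nil => simp [mins, ev1]
    | cons j m ih =>
      rw [mins]
      split_ifs
      · simp [ev1]
      · simp only [ev1, List.map_cons, List.prod_cons] at ih ⊢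
        rw [ih]; ring
  have hm : ∀ a b : Mon, ev1 v (mmul a b) = ev1 v a * ev1 v b := by
    intro a b
    induction a with
    | nil => simp [mmul, ev1]
    | cons i a ih =>
      show ev1 v (mins i (mmul a b)) = _
      rw [hins, ih]
      simp only [ev1, List.map_cons, List.prod_cons]; ring
  rw [pmul, ev_padd, show ev v ([] : Poly) = 0 from rfl, add_zero]
  induction p with
  | nil => simp [ev]
  | cons a p ih =>
      rw [List.flatMap_cons, ev, List.map_append, List.sum_append, ← ev, ← ev, ih, ev_cons,
        add_mul]
      congr 1
      simp only [ev, List.map_map, Function.comp_def, hm]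
      exact List.sum_map_mul_left _ _ _

theorem ev_ppow (p : Poly) : ∀ n, ev v (ppow p n) = ev v p ^ n
  | 0 => by simp [ppow, ev, ev1]
  | n + 1 => by rw [ppow, ev_pmul, ev_ppow p n, pow_succ]

variable {D : ChevalleyDatum} (Q : Chev.Data D K)

/-- The element of a collected product. -/
def evs (st : Word) : ↥(D.group K) := wG Q (evw v st.reverse)

omit [CharP K 2] in
theorem evs_cons (r : ℕ) (p : Poly) (st : Word) :
    evs v Q ((r, p) :: st) = evs v Q st * xG Q.K K r (ev v p) := by
  simp [evs, evw, wG]

theorem ev_ins : ∀ (f : ℕ) (st : Word) (r : ℕ) (p : Poly),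
    evs v Q (ins D f st r p) = evs v Q st * xG Q.K K r (ev v p)
  | 0, st, r, p => by rw [ins, evs_cons]
  | f + 1, [], r, p => by
      have h0 : xG Q.K K r (0 : K) = 1 := Subtype.ext (Q.K.xU_zero K r)
      rw [ins]
      split_ifs with hp
      · subst hp; simp [evs, evw, wG, ev, h0]
      · rw [evs_cons]
  | f + 1, (s, u) :: st, r, p => by
      have h0 : ∀ a, xG Q.K K a (0 : K) = 1 := fun a => Subtype.ext (Q.K.xU_zero K a)
      have hadd : ∀ a (x y : K), xG Q.K K a x * xG Q.K K a y = xG Q.K K a (x + y) := fun a x y =>
        Subtype.ext (Q.K.xU_add K a x y)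
      rw [ins]
      split_ifs with hp h1 h2 h3 h4
      · subst hp; simp [ev, h0]
      · rw [evs_cons]
      · subst h2
        rw [evs_cons, mul_assoc, hadd, add_comm, ← ev_padd, h3]
        simp [ev, h0]
      · subst h2
        rw [evs_cons, evs_cons, mul_assoc, hadd, add_comm, ev_padd]
      · obtain ⟨hr, hs, hne, hneg⟩ := h4
        have hfold : ∀ (L : List (ℕ × ℤ × ℕ × ℕ)) (acc : Word),
            evs v Q (L.foldl (fun acc c => if c.2.1 % 2 = 0 then acc
              else ins D f acc c.1 (pmul (ppow p c.2.2.1) (ppow u c.2.2.2))) acc)
            = evs v Q acc * (L.map fun c => xG Q.K K c.1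
                ((c.2.1 : K) * (-ev v p) ^ c.2.2.1 * ev v u ^ c.2.2.2)).prod := by
          intro L
          induction L with
          | nil => intro acc; simp
          | cons c L ih =>
              intro acc
              rw [List.foldl_cons, ih, List.map_cons, List.prod_cons, ← mul_assoc]
              congr 1
              rw [CharTwo.neg_eq]
              rcases Int.emod_two_eq_zero_or_one c.2.1 with hc | hc
              · rw [if_pos hc, show (c.2.1 : K) = 0 from
                  (CharP.intCast_eq_zero_iff K 2 _).2 (Int.dvd_of_emod_eq_zero hc)]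
                simp [h0]
              · rw [if_neg (by omega), ev_ins f, ev_pmul, ev_ppow, ev_ppow,
                  show (c.2.1 : K) = 1 from by
                    rw [show c.2.1 = 2 * (c.2.1 / 2) + 1 by omega]
                    simp [CharTwo.two_eq_zero], one_mul]
        rw [hfold, ev_ins f, ev_ins f, evs_cons, mul_assoc (evs v Q st), mul_assoc (evs v Q st),
          mul_assoc (evs v Q st), xG_comm hr hs hne hneg]
      · rw [evs_cons]

/-- Collection does not change the element. -/
theorem wG_collect (w : Word) : wG Q (evw v (collect D w)) = wG Q (evw v w) := by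
  have key : ∀ (w : Word) (acc : Word),
      evs v Q (w.foldl (fun acc q => ins D 80 acc q.1 q.2) acc) = evs v Q acc * wG Q (evw v w) := by
    intro w
    induction w with
    | nil => intro acc; simp [evw, wG]
    | cons q w ih =>
        intro acc
        rw [List.foldl_cons, ih, ev_ins, mul_assoc]
        simp [evw, wG]
  have h := key w []
  rwa [show evs v Q ([] : Word) = 1 by simp [evs, evw, wG], one_mul] at h

omit [CharP K 2] in
theorem coordP_none : ∀ {w : Word} {r : ℕ}, r ∉ w.map Prod.fst → coordP w r = []
  | [], _, _ => rfl
  | (s, u) :: w, r, h => by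
      rw [List.map_cons, List.mem_cons, not_or] at h
      rw [coordP, if_neg (Ne.symm h.1), coordP_none h.2]

omit [CharP K 2] in
theorem wG_eq_xprod : ∀ {L : List ℕ} {w : Word}, L.Nodup → (w.map Prod.fst).Sublist L →
    wG Q (evw v w) = xprod Q L fun r => ev v (coordP w r)
  | [], w, _, h => by
      rw [List.sublist_nil, List.map_eq_nil_iff] at h
      subst h; simp [wG, evw, xprod]
  | a :: L, w, hL, h => by
      obtain ⟨haL, hL'⟩ := List.nodup_cons.1 hL
      rw [xprod_cons]
      match w with
      | [] =>
          rw [wG_eq_xprod (w := []) hL' (List.nil_sublist L)]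
          simp [coordP, ev, show xG Q.K K a (0 : K) = 1 from Subtype.ext (Q.K.xU_zero K a)]
      | (s, u) :: w =>
          rw [List.map_cons] at h
          rcases List.cons_sublist_cons'.1 h with h' | ⟨hs, h'⟩
          · have hna : a ∉ ((s, u) :: w).map Prod.fst := fun hm => haL (h'.subset hm)
            rw [wG_eq_xprod (w := (s, u) :: w) hL' h', coordP_none hna]
            simp [ev, show xG Q.K K a (0 : K) = 1 from Subtype.ext (Q.K.xU_zero K a)]
          · subst hs
            have e : wG Q (evw v ((s, u) :: w)) = xG Q.K K s (ev v u) * wG Q (evw v w) := by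
              simp [wG, evw]
            rw [e, wG_eq_xprod hL' h', coordP, if_pos rfl]
            congr 1
            refine xprod_congr Q fun r hr => ?_
            rw [coordP, if_neg (fun e => haL (by rw [e]; exact hr))]

/-- The check that a word collects onto a list of roots. -/
def collectsB (D : ChevalleyDatum) (L : List ℕ) (w : Word) : Bool :=
  ((collect D w).map Prod.fst).isSublist L

/-- The coordinates of a collected word. -/
theorem coords {L : List ℕ} (hL : L.Nodup) {w : Word} (h : collectsB D L w = true) :
    wG Q (evw v w) = xprod Q L fun r => ev v (coordP (collect D w) r) := by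
  rw [← wG_collect v Q w]
  exact wG_eq_xprod v Q hL (List.isSublist_iff_sublist.1 h)

end Cfsg.Agent.H37.Twist.Collect
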