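import Cfsg.Agent.H37.Twist.OfFold
import Cfsg.Agent.H37.Twist.Graph
import Cfsg.Agent.H37.Chev.Order
import Cfsg.Agent.H37.Fold.D4
import Cfsg.Agent.H37.Sym.D4a
import Cfsg.Agent.H37.Weyl.OrderArith
import Cfsg.Prelude.Def_LieTwisted

/-!
`³D₄(q)`: the endomorphism, the orbits, the generators.
-/
set_option autoImplicit false
set_option maxRecDepth 100000

namespace Cfsg.Agent.H37.Twist.D4

open Cfsg.Lie Cfsg.Agent.H37.RootSys Cfsg.Agent.H37.NormalForm

/-- The symmetry. -/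
def tables : Tables := ⟨H37.Fold.dataD4.rho, [2, 1, 3, 0]⟩

theorem tables_ok : tables.check Weyl.certD4 chevD4 4 = true := by decide +kernel

/-- The checked symmetry. -/
def sigmaD4 : Sigma Weyl.goodD4 := ⟨tables, tables_ok⟩

theorem rho_eq : tables.rho = Sym.dataD4a.perm := by decide +kernel

/-- The classes of words of each orbit. -/
def cls : ℕ → List (List ℕ)
  | 0 => [[], [0], [2], [3], [0, 2], [0, 3], [2, 3], [0, 2, 3]]
  | _ => [[], [1]]

theorem orbit_ok (i : Fin 2) :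
    orbitB Weyl.certD4 chevD4 4 tables (H37.Fold.dataD4.word i.val) (cls i.val) = true := by
  revert i; decide +kernel

/-- The positive roots of each orbit. -/
def orbL : ℕ → List ℕ
  | 0 => [12, 13, 18]
  | _ => [14]

theorem flip_ok (i : Fin 2) :
    flipList Weyl.certD4 chevD4 (H37.Fold.dataD4.word i.val) = orbL i.val := by
  revert i; decide +kernel

theorem comm_ok (i : Fin 2) : commB chevD4 (orbL i.val) = true := by revert i; decide +kernel

theorem word_ok (i : Fin 2) : ∀ a ∈ H37.Fold.dataD4.word i.val, a < 4 := by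
  revert i; decide +kernel

theorem map_ok (i : Fin 2) : ∀ r ∈ orbL i.val, tables.rh r ∈ orbL i.val := by
  revert i; decide +kernel

theorem sg_one : ∀ r ∈ [18, 14, 13, 12, 5, 9, 10, 11], Sym.dataD4a.sg r = 1 := by decide +kernel

theorem sg_simple : ∀ i, i < chevD4.rank → Sym.dataD4a.sg (chevD4.simple i) = 1 := by
  intro i hi
  exact (show ∀ i : Fin 4, Sym.dataD4a.sg (chevD4.simple i.val) = 1 by decide +kernel) ⟨i, hi⟩

theorem orth_ok : orthB chevD4 18 13 = true ∧ orthB chevD4 18 12 = true ∧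
    orthB chevD4 13 12 = true := by decide +kernel

theorem pm_ok : commB chevD4 [12, 13, 18] = true ∧ commB chevD4 [5, 10, 11] = true := by
  decide +kernel

theorem neg_ok : chevD4.neg 18 = 5 ∧ chevD4.neg 13 = 10 ∧ chevD4.neg 12 = 11 ∧
    chevD4.neg 14 = 9 := by decide +kernel

theorem simple_ok : chevD4.simple 0 = 18 ∧ chevD4.simple 1 = 14 ∧ chevD4.simple 2 = 13 ∧
    chevD4.simple 3 = 12 := by decide +kernel

theorem rh_ok : tables.rh 18 = 13 ∧ tables.rh 13 = 12 ∧ tables.rh 12 = 18 ∧ tables.rh 14 = 14 ∧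
    tables.rh 5 = 10 ∧ tables.rh 10 = 11 ∧ tables.rh 11 = 5 ∧ tables.rh 9 = 9 := by
  decide +kernel

theorem cartan_ok : ∀ i j : Fin 4, cartanD4 i j = chevD4.cartan i.val (chevD4.simple j.val) := by
  intro i j
  exact of_decide_eq_true ((show ∀ i j : Fin 4,
    decide (cartanD4 i j = chevD4.cartan i.val (chevD4.simple j.val)) = true by
      decide +kernel) i j)

variable {K : Type*} [Field K]

/-- The group data. -/
abbrev QD (K : Type*) [Field K] : Chev.Data chevD4 K := Chev.dataD4 K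

/-- The endomorphism. -/
noncomputable def endo (φ : K →+* K) : Endo (QD K) :=
  graphEndo (QD K) Sym.goodD4a sigmaD4 rho_eq φ

/-- The folded Weyl group. -/
noncomputable def fold (φ : K →+* K) : Fold (endo φ) CoxeterMatrix.G₂.Group :=
  foldOf (endo φ) H37.Fold.goodD4 rfl cls orbit_ok

/-- The orbits. -/
noncomputable def orb (φ : K →+* K) (i : Fin 2) : Orbit (endo φ) :=
  ⟨H37.Fold.dataD4.word i.val, orbL i.val, word_ok i, flip_ok i, comm_ok i, map_ok i⟩

theorem ι_gen (φ : K →+* K) (i : Fin 2) :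
    (fold φ).ι ((fold φ).gens i) = Weyl.wOf (QD K).X.M (H37.Fold.dataD4.word i.val) :=
  (fold φ).ι_gens i

/-- A root element of the group. -/
abbrev xe (r : ℕ) (t : K) : ↥(chevD4.group K) := xG (QD K).K K r t

theorem word_mem {S : Set (List (ℕ × K))} {w : List (ℕ × K)} (hw : w ∈ S)
    (g : ↥(chevD4.group K)) (hg : g = (w.map fun p => xe p.1 p.2).prod) :
    (g : GL chevD4.Idx K) ∈ chevD4.genSubgroup K S := by
  refine Subgroup.subset_closure ⟨w, hw, ?_⟩
  have e : (g : GL chevD4.Idx K) = (QD K).K.wU K w := by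
    rw [hg, Subgroup.val_list_prod, List.map_map]; rfl
  rw [e, Chevalley.Cert.coe_wU]

theorem single_mem {q : ℕ} {r : ℕ} (hr : r ∈ [d4p2, d4m2]) {t : K} (ht : t ^ q = t) :
    ((xe r t : ↥(chevD4.group K)) : GL chevD4.Idx K) ∈ twistedD4 K q :=
  word_mem (w := [(r, t)]) (Or.inl ⟨t, ht, r, hr, rfl⟩) _ (by simp)

theorem triple_mem {q : ℕ} {a b c : ℕ}
    (hr : (a, b, c) ∈ [(d4p1, d4p3, d4p4), (d4m1, d4m3, d4m4)]) (t : K) :
    ((xe a t * xe b (t ^ q) * xe c ((t ^ q) ^ q) : ↥(chevD4.group K)) : GL chevD4.Idx K)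
      ∈ twistedD4 K q := by
  refine word_mem (w := [(a, t), (b, t ^ q), (c, t ^ q ^ 2)]) (Or.inr ⟨t, (a, b, c), hr, rfl⟩) _ ?_
  rw [pow_two, pow_mul]
  simp [mul_assoc]

theorem twisted_le {q : ℕ} : twistedD4 K q ≤ chevD4.group K := by
  refine (Subgroup.closure_le _).2 ?_
  rintro g ⟨w, -, hg⟩
  rw [show g = (QD K).K.wU K w from Units.ext (hg.trans ((QD K).K.coe_wU K w).symm)]
  exact (QD K).K.wU_mem K fun p _ => (QD K).K.xU_mem_group K p.1 p.2

variable {φ : K →+* K} {q : ℕ}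

theorem f_pow (hφ : ∀ t, φ t = t ^ q) {r : ℕ} (hr : r ∈ [18, 14, 13, 12, 5, 9, 10, 11]) (t : K) :
    (endo φ).f r t = t ^ q := graphEndo_f_pow hφ (sg_one r hr) t

theorem σ_xe (hφ : ∀ t, φ t = t ^ q) {r : ℕ} (hr : r < chevD4.nroots)
    (hm : r ∈ [18, 14, 13, 12, 5, 9, 10, 11]) (t : K) :
    (endo φ).σ (xe r t) = xe (tables.rh r) (t ^ q) := by
  rw [xe, (endo φ).σ_x r hr, f_pow hφ hm]
  rfl

variable [Fintype K]

theorem pow_three_card (hK : Fintype.card K = q ^ 3) (t : K) : ((t ^ q) ^ q) ^ q = t := by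
  rw [← pow_mul, ← pow_mul, ← pow_two, ← pow_succ', ← hK, FiniteField.pow_card]

theorem units_pow_three (hK : Fintype.card K = q ^ 3) (t : Kˣ) : ((t ^ q) ^ q) ^ q = t :=
  Units.ext (by simpa using pow_three_card hK (t : K))

theorem triple_fixed (hφ : ∀ t, φ t = t ^ q) (hK : Fintype.card K = q ^ 3) {a b c : ℕ}
    (ha : a < chevD4.nroots) (hb : b < chevD4.nroots) (hc : c < chevD4.nroots)
    (ha' : a ∈ [18, 14, 13, 12, 5, 9, 10, 11]) (hb' : b ∈ [18, 14, 13, 12, 5, 9, 10, 11])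
    (hc' : c ∈ [18, 14, 13, 12, 5, 9, 10, 11])
    (hab : tables.rh a = b) (hbc : tables.rh b = c) (hca : tables.rh c = a)
    {L : List ℕ} (hL : commB chevD4 L = true) (haL : a ∈ L) (hbL : b ∈ L) (hcL : c ∈ L) (t : K) :
    (endo φ).σ (xe a t * xe b (t ^ q) * xe c ((t ^ q) ^ q))
      = xe a t * xe b (t ^ q) * xe c ((t ^ q) ^ q) := by
  rw [map_mul, map_mul, σ_xe hφ ha ha', σ_xe hφ hb hb', σ_xe hφ hc hc', hab, hbc, hca,
    pow_three_card hK]
  rw [((commute_xG (QD K) hL hbL haL _ _).mul_left (commute_xG (QD K) hL hcL haL _ _)).eq]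
  group

theorem le_fixed (hφ : ∀ t, φ t = t ^ q) (hK : Fintype.card K = q ^ 3) :
    ∀ g : ↥(chevD4.group K), (g : GL chevD4.Idx K) ∈ twistedD4 K q → (endo φ).σ g = g := by
  intro g hg
  have hle : twistedD4 K q ≤ (fixedPts (endo φ).σ).map (chevD4.group K).subtype := by
    refine (Subgroup.closure_le _).2 ?_
    rintro x ⟨w, hw, hx⟩
    refine ⟨(w.map fun p => xe p.1 p.2).prod, ?_, ?_⟩
    · rw [SetLike.mem_coe, mem_fixedPts]
      obtain ⟨r1, r2, r3, r4, r5, r6, r7, r8⟩ := rh_ok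
      rcases hw with ⟨t, ht, r, hr, rfl⟩ | ⟨t, rs, hrs, rfl⟩
      · simp only [List.map_cons, List.map_nil, List.prod_cons, List.prod_nil, mul_one]
        simp only [List.mem_cons, List.not_mem_nil, or_false, d4p2, d4m2] at hr
        rcases hr with rfl | rfl
        all_goals rw [σ_xe hφ (by decide) (by decide), ht]
        · rw [r4]
        · rw [r8]
      · simp only [List.map_cons, List.map_nil, List.prod_cons, List.prod_nil, mul_one]
        rw [pow_two, pow_mul, ← mul_assoc]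
        simp only [List.mem_cons, List.not_mem_nil, or_false, d4p1, d4p3, d4p4, d4m1, d4m3,
          d4m4] at hrs
        rcases hrs with rfl | rfl
        · exact triple_fixed hφ hK (by decide) (by decide) (by decide) (by decide) (by decide)
            (by decide) r1 r2 r3 pm_ok.1 (by decide) (by decide) (by decide) t
        · exact triple_fixed hφ hK (by decide) (by decide) (by decide) (by decide) (by decide)
            (by decide) r5 r6 r7 pm_ok.2 (by decide) (by decide) (by decide) t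
    · refine Units.ext ?_
      show (((w.map fun p => xe p.1 p.2).prod : ↥(chevD4.group K)) : GL chevD4.Idx K).val = _
      rw [Subgroup.val_list_prod, List.map_map, hx, ← (QD K).K.coe_wU K w]
      rfl
  obtain ⟨g', hg', e⟩ := hle hg
  rwa [← Subtype.ext (a1 := g') (a2 := g) e]

omit [Fintype K] in
theorem tripleN_mem (hφ : ∀ t, φ t = t ^ q) (t : K) :
    ((nUG (QD K) 18 t * nUG (QD K) 13 (t ^ q) * nUG (QD K) 12 ((t ^ q) ^ q) :
      ↥(chevD4.group K)) : GL chevD4.Idx K) ∈ twistedD4 K q := by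
  obtain ⟨n1, n2, n3, -⟩ := neg_ok
  obtain ⟨o1, o2, o3⟩ := orth_ok
  rw [nUG_mul_pair (QD K) o1, nUG_eq (Q := QD K) 12,
    triple_mul ((commute_cross (QD K) o2 _ _).1.mul_left (commute_cross (QD K) o3 _ _).1)
      ((commute_cross (QD K) o2 _ _).2.1.mul_left (commute_cross (QD K) o3 _ _).2.1)
      ((commute_cross (QD K) o2 _ _).2.2.1.mul_left (commute_cross (QD K) o3 _ _).2.2.1),
    n1, n2, n3, show -((t ^ q) ^ q)⁻¹ = ((-t⁻¹) ^ q) ^ q by
      simp only [← hφ, map_neg, map_inv₀],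
    show -(t ^ q)⁻¹ = (-t⁻¹) ^ q by rw [← hφ, ← hφ, map_neg, map_inv₀]]
  simp only [Subgroup.coe_mul]
  exact mul_mem (mul_mem (triple_mem (by decide) t) (triple_mem (by decide) _))
    (triple_mem (by decide) t)

omit [Fintype K] in
theorem tripleH_mem (hφ : ∀ t, φ t = t ^ q) (t : K) :
    ((hUG (QD K) 18 t * hUG (QD K) 13 (t ^ q) * hUG (QD K) 12 ((t ^ q) ^ q) :
      ↥(chevD4.group K)) : GL chevD4.Idx K) ∈ twistedD4 K q := by
  obtain ⟨o1, o2, o3⟩ := orth_ok
  have k1 := commute_nUG (QD K) o1 (-1 : K) (t ^ q)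
  have k2 := commute_nUG (QD K) o2 (-1 : K) ((t ^ q) ^ q)
  have k3 := commute_nUG (QD K) o3 (-1 : K) ((t ^ q) ^ q)
  have e : hUG (QD K) 18 t * hUG (QD K) 13 (t ^ q) * hUG (QD K) 12 ((t ^ q) ^ q)
      = (nUG (QD K) 18 t * nUG (QD K) 13 (t ^ q) * nUG (QD K) 12 ((t ^ q) ^ q)) *
        (nUG (QD K) 18 (-1) * nUG (QD K) 13 ((-1) ^ q) * nUG (QD K) 12 (((-1) ^ q) ^ q)) := by
    rw [show ((-1 : K)) ^ q = -1 by rw [← hφ, map_neg, map_one],
      show ((-1 : K)) ^ q = -1 by rw [← hφ, map_neg, map_one], hUG_eq, hUG_eq, hUG_eq]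
    calc _ = nUG (QD K) 18 t * (nUG (QD K) 18 (-1) * nUG (QD K) 13 (t ^ q)) *
            (nUG (QD K) 13 (-1) * nUG (QD K) 12 ((t ^ q) ^ q)) * nUG (QD K) 12 (-1) := by group
      _ = nUG (QD K) 18 t * nUG (QD K) 13 (t ^ q) *
            (nUG (QD K) 18 (-1) * nUG (QD K) 12 ((t ^ q) ^ q)) *
            nUG (QD K) 13 (-1) * nUG (QD K) 12 (-1) := by rw [k1.eq, k3.eq]; group
      _ = _ := by rw [k2.eq]; group
  rw [e, Subgroup.coe_mul]
  exact mul_mem (tripleN_mem hφ t) (tripleN_mem hφ (-1))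

omit [Fintype K] in
theorem nh_single_mem (hφ : ∀ t, φ t = t ^ q) {t : K} (ht : t ^ q = t) :
    ((nUG (QD K) 14 t : ↥(chevD4.group K)) : GL chevD4.Idx K) ∈ twistedD4 K q ∧
      ((hUG (QD K) 14 t : ↥(chevD4.group K)) : GL chevD4.Idx K) ∈ twistedD4 K q := by
  have key : ∀ u : K, u ^ q = u →
      ((nUG (QD K) 14 u : ↥(chevD4.group K)) : GL chevD4.Idx K) ∈ twistedD4 K q := by
    intro u hu
    rw [nUG_eq, neg_ok.2.2.2]
    simp only [Subgroup.coe_mul]
    refine mul_mem (mul_mem (single_mem (by decide) hu) (single_mem (by decide) ?_))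
      (single_mem (by decide) hu)
    rw [← hφ, map_neg, map_inv₀, hφ, hu]
  refine ⟨key t ht, ?_⟩
  rw [hUG_eq, Subgroup.coe_mul]
  exact mul_mem (key t ht) (key _ (by rw [← hφ, map_neg, map_one]))

omit [Fintype K] in
theorem n_mem (hφ : ∀ t, φ t = t ^ q) (j : Fin 2) : ∃ h ∈ (QD K).sys.H,
    ((h * (QD K).sys.rep ((fold φ).ι ((fold φ).gens j)) : ↥(chevD4.group K)) : GL chevD4.Idx K)
      ∈ twistedD4 K q := by
  obtain ⟨h, hh, e⟩ := rep_word (QD K) (H37.Fold.dataD4.word j.val) (word_ok j)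
  refine ⟨h, hh, ?_⟩
  rw [ι_gen, ← e]
  obtain ⟨s0, s1, s2, s3⟩ := simple_ok
  have h1 : (1 : K) ^ q = 1 := one_pow q
  fin_cases j <;>
    simp only [H37.Fold.Data.word, H37.Fold.dataD4, List.getD_cons_zero, List.getD_cons_succ,
      List.map_cons, List.map_nil, List.prod_cons, List.prod_nil, mul_one, s0, s1, s2, s3]
  · have := tripleN_mem (q := q) hφ (1 : K)
    rw [h1, h1, mul_assoc] at this
    exact this
  · exact (nh_single_mem hφ h1).1

end Cfsg.Agent.H37.Twist.D4
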