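import Cfsg.Agent.H37.Twist.D4Basic

/-!
`³D₄(q)`: fixed torus elements and their number.
-/
set_option autoImplicit false
set_option maxRecDepth 100000

namespace Cfsg.Agent.H37.Twist.D4

open Cfsg.Lie Cfsg.Agent.H37.RootSys Cfsg.Agent.H37.NormalForm

variable {K : Type*} [Field K] {φ : K →+* K} {q : ℕ}

theorem chT_simple (c : Fin chevD4.rank → Kˣ) (j : Fin 4) :
    chT c (chevD4.simple j.val) = ∏ m : Fin 4, c m ^ cartanD4 m j := by
  show ∏ m : Fin 4, c m ^ chevD4.cartan m.val (chevD4.simple j.val) = _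
  exact Finset.prod_congr rfl fun m _ => by rw [cartan_ok]

theorem ker4_add {G : Type*} [AddCommGroup G] {a b c d : G} (e0 : (2 : ℕ) • a + -b = 0)
    (e1 : -a + (2 : ℕ) • b + -c + -d = 0) (e2 : -b + (2 : ℕ) • c = 0)
    (e3 : -b + (2 : ℕ) • d = 0) :
    b = 0 ∧ (2 : ℕ) • a = 0 ∧ (2 : ℕ) • c = 0 ∧ (2 : ℕ) • d = 0 ∧ a + c + d = 0 := by
  have hb : b = 0 := by
    linear_combination (norm := module) e0 + (2 : ℤ) • e1 + e2 + e3
  refine ⟨hb, ?_, ?_, ?_, ?_⟩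
  · linear_combination (norm := module) e0 + hb
  · linear_combination (norm := module) e2 + hb
  · linear_combination (norm := module) e3 + hb
  · linear_combination (norm := module) (-1 : ℤ) • e1 + (2 : ℤ) • hb

theorem ker4 {G : Type*} [CommGroup G] {a b c d : G} (e0 : a ^ 2 * b⁻¹ = 1)
    (e1 : a⁻¹ * b ^ 2 * c⁻¹ * d⁻¹ = 1) (e2 : b⁻¹ * c ^ 2 = 1) (e3 : b⁻¹ * d ^ 2 = 1) :
    b = 1 ∧ a ^ 2 = 1 ∧ c ^ 2 = 1 ∧ d ^ 2 = 1 ∧ a * c * d = 1 :=
  ker4_add (G := Additive G) e0 e1 e2 e3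

/-- The coordinates of a kernel element. -/
theorem ker_coords {z : Fin chevD4.rank → Kˣ} (h : tG (QD K) z = 1) :
    z (1 : Fin 4) = 1 ∧ z (0 : Fin 4) ^ 2 = 1 ∧ z (2 : Fin 4) ^ 2 = 1 ∧ z (3 : Fin 4) ^ 2 = 1 ∧
      z (0 : Fin 4) * z (2 : Fin 4) * z (3 : Fin 4) = 1 := by
  have e : ∀ j : Fin 4, ∏ m : Fin 4, z m ^ cartanD4 m j = 1 := by
    intro j
    have hr := (Chev.dataD4 K).K.simple_lt j.val j.isLt
    have := tG_conj (QD K) z hr.1 (1 : K)
    rw [h, one_mul, inv_one, mul_one, mul_one] at this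
    rw [← chT_simple]
    exact Units.ext (xG_inj (QD K) hr.1 this).symm
  have e0 := e 0
  have e1 := e 1
  have e2 := e 2
  have e3 := e 3
  simp [Fin.prod_univ_four, cartanD4, Matrix.cons_val_zero, Matrix.cons_val_one] at e0 e1 e2 e3
  exact ker4 e0 e1 e2 e3

theorem noSign (hφ : ∀ t, φ t = t ^ q) : (endo φ).NoSign fun _ => q :=
  graphEndo_noSign hφ sg_simple

theorem hat_four (c : Fin chevD4.rank → Kˣ) :
    (endo φ).hat (fun _ => q) c (2 : Fin 4) = c (0 : Fin 4) ^ q ∧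
    (endo φ).hat (fun _ => q) c (1 : Fin 4) = c (1 : Fin 4) ^ q ∧
    (endo φ).hat (fun _ => q) c (3 : Fin 4) = c (2 : Fin 4) ^ q ∧
    (endo φ).hat (fun _ => q) c (0 : Fin 4) = c (3 : Fin 4) ^ q :=
  ⟨(endo φ).hat_apply _ c (0 : Fin 4) (2 : Fin 4) rfl,
    (endo φ).hat_apply _ c (1 : Fin 4) (1 : Fin 4) rfl,
    (endo φ).hat_apply _ c (2 : Fin 4) (3 : Fin 4) rfl,
    (endo φ).hat_apply _ c (3 : Fin 4) (0 : Fin 4) rfl⟩

theorem four_ext {X : Type*} {a b : Fin chevD4.rank → X} (h0 : a (0 : Fin 4) = b (0 : Fin 4))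
    (h1 : a (1 : Fin 4) = b (1 : Fin 4)) (h2 : a (2 : Fin 4) = b (2 : Fin 4))
    (h3 : a (3 : Fin 4) = b (3 : Fin 4)) : a = b := by
  refine funext fun (i : Fin 4) => ?_
  fin_cases i <;> assumption

variable [Fintype K]

theorem hat_hat_hat (hK : Fintype.card K = q ^ 3) (c : Fin chevD4.rank → Kˣ) :
    (endo φ).hat (fun _ => q) ((endo φ).hat (fun _ => q) ((endo φ).hat (fun _ => q) c)) = c := by
  obtain ⟨a2, a1, a3, a0⟩ := hat_four (φ := φ) (q := q) c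
  obtain ⟨b2, b1, b3, b0⟩ := hat_four (φ := φ) (q := q) ((endo φ).hat (fun _ => q) c)
  obtain ⟨d2, d1, d3, d0⟩ := hat_four (φ := φ) (q := q)
    ((endo φ).hat (fun _ => q) ((endo φ).hat (fun _ => q) c))
  refine four_ext ?_ ?_ ?_ ?_
  · rw [d0, b3, a2, units_pow_three hK]
  · rw [d1, b1, a1, units_pow_three hK]
  · rw [d2, b0, a3, units_pow_three hK]
  · rw [d3, b2, a0, units_pow_three hK]

theorem exists_fixed (hφ : ∀ t, φ t = t ^ q) (hK : Fintype.card K = q ^ 3)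
    {h : ↥(chevD4.group K)} (hh : h ∈ (QD K).sys.H) (hfix : (endo φ).σ h = h) :
    ∃ c, (endo φ).hat (fun _ => q) c = c ∧ tG (QD K) c = h := by
  refine (endo φ).exists_fixed_lift (noSign hφ) (fun c z hz he =>
    ⟨(endo φ).hat (fun _ => q) z, by rw [← (endo φ).σ_tG (noSign hφ), hz, map_one], ?_⟩) hh hfix
  set T := (endo φ).hat fun _ => q with hT
  have h3 := hat_hat_hat (φ := φ) (q := q) hK c
  rw [← hT] at h3
  rw [he, map_mul, he, map_mul, map_mul, he] at h3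
  have hz2 : T z ^ 2 = 1 := by
    obtain ⟨k1, k0, k2, k3, -⟩ := ker_coords hz
    have hzz : z ^ 2 = 1 := by
      refine four_ext ?_ ?_ ?_ ?_
      · show z (0 : Fin 4) ^ 2 = 1; exact k0
      · show z (1 : Fin 4) ^ 2 = 1; rw [k1, one_pow]
      · show z (2 : Fin 4) ^ 2 = 1; exact k2
      · show z (3 : Fin 4) ^ 2 = 1; exact k3
    rw [← map_pow, hzz, map_one]
  have hprod : z * T z * T (T z) = 1 := by
    rw [mul_assoc (c * z), mul_assoc c] at h3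
    rw [mul_assoc]
    exact left_eq_mul.1 h3.symm
  have hTT : T (T z) = (z * T z)⁻¹ := eq_inv_of_mul_eq_one_right hprod
  rw [map_mul, he, hTT, mul_inv_rev]
  calc c * z * ((T z)⁻¹ * z⁻¹) = c * (T z ^ 2 * (T z)⁻¹) * (z * z⁻¹) := by
        rw [hz2, one_mul]
        simp [mul_comm, mul_left_comm]
    _ = c * T z := by rw [mul_inv_cancel, mul_one, pow_two, mul_inv_cancel_right]

/-- Parameters of fixed elements. -/
def fixParam (hK : Fintype.card K = q ^ 3) :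
    {c : Fin chevD4.rank → Kˣ // (endo φ).hat (fun _ => q) c = c} ≃
      Kˣ × {t : Kˣ // t ^ q = t} where
  toFun c := (c.1 (0 : Fin 4),
    ⟨c.1 (1 : Fin 4), (hat_four (φ := φ) c.1).2.1.symm.trans (congrFun c.2 (1 : Fin 4))⟩)
  invFun p := ⟨![p.1, p.2.1, p.1 ^ q, (p.1 ^ q) ^ q], by
    obtain ⟨a2, a1, a3, a0⟩ := hat_four (φ := φ) (q := q)
      (![p.1, p.2.1, p.1 ^ q, (p.1 ^ q) ^ q] : Fin chevD4.rank → Kˣ)
    refine four_ext ?_ ?_ ?_ ?_
    · rw [a0]; exact units_pow_three hK _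
    · rw [a1]; exact p.2.2
    · rw [a2]; rfl
    · rw [a3]; rfl⟩
  left_inv c := Subtype.ext (by
    obtain ⟨a2, a1, a3, a0⟩ := hat_four (φ := φ) (q := q) c.1
    have h2 : c.1 (0 : Fin 4) ^ q = c.1 (2 : Fin 4) := a2.symm.trans (congrFun c.2 (2 : Fin 4))
    refine four_ext rfl rfl ?_ ?_
    · exact h2
    · show (c.1 (0 : Fin 4) ^ q) ^ q = c.1 (3 : Fin 4)
      rw [h2]
      exact a3.symm.trans (congrFun c.2 (3 : Fin 4)))
  right_inv p := rfl

/-- An index of a fundamental root. -/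
abbrev ix (k : ℕ) (h : k < chevD4.rank := by decide) : Fin chevD4.rank := ⟨k, h⟩

theorem single_prod_four {G : Type*} [CommGroup G] (c : Fin 4 → G) : c =
    Pi.mulSingle 0 (c 0) * Pi.mulSingle 2 (c 2) * Pi.mulSingle 3 (c 3) * Pi.mulSingle 1 (c 1) := by
  funext i
  fin_cases i <;> simp [Pi.mulSingle_apply, Fin.ext_iff]

theorem single_prod (c : Fin chevD4.rank → Kˣ) : c =
    Pi.mulSingle (ix 0) (c (0 : Fin 4)) * Pi.mulSingle (ix 2) (c (2 : Fin 4)) *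
    Pi.mulSingle (ix 3) (c (3 : Fin 4)) * Pi.mulSingle (ix 1) (c (1 : Fin 4)) :=
  single_prod_four (G := Kˣ) c

theorem H_mem (hφ : ∀ t, φ t = t ^ q) (hK : Fintype.card K = q ^ 3) (h : ↥(chevD4.group K))
    (hh : h ∈ (QD K).sys.H) (hfix : (endo φ).σ h = h) :
    (h : GL chevD4.Idx K) ∈ twistedD4 K q := by
  obtain ⟨c, hc, rfl⟩ := exists_fixed hφ hK hh hfix
  obtain ⟨a2, a1, a3, a0⟩ := hat_four (φ := φ) (q := q) c
  obtain ⟨s0, s1, s2, s3⟩ := simple_ok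
  rw [single_prod c, map_mul, map_mul, map_mul, tG_single, tG_single, tG_single, tG_single,
    Subgroup.coe_mul]
  have e2 : ((c (2 : Fin 4) : Kˣ) : K) = ((c (0 : Fin 4) : Kˣ) : K) ^ q := by
    rw [← Units.val_pow_eq_pow_val, ← a2, hc]
  have e3 : ((c (3 : Fin 4) : Kˣ) : K) = (((c (0 : Fin 4) : Kˣ) : K) ^ q) ^ q := by
    rw [← e2, ← Units.val_pow_eq_pow_val, ← a3, hc]
  have e1 : ((c (1 : Fin 4) : Kˣ) : K) ^ q = ((c (1 : Fin 4) : Kˣ) : K) := by
    rw [← Units.val_pow_eq_pow_val, ← a1, hc]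
  refine mul_mem ?_ ?_
  · rw [e3, e2]
    show ((hUG (QD K) (chevD4.simple 0) _ * hUG (QD K) (chevD4.simple 2) _ *
      hUG (QD K) (chevD4.simple 3) _ : ↥(chevD4.group K)) : GL chevD4.Idx K) ∈ _
    rw [s0, s2, s3]
    exact tripleH_mem hφ _
  · show ((hUG (QD K) (chevD4.simple 1) _ : ↥(chevD4.group K)) : GL chevD4.Idx K) ∈ _
    rw [s1]
    exact (nh_single_mem hφ e1).2

/-- Fixed kernel elements are trivial. -/
theorem fixed_ker {c : Fin chevD4.rank → Kˣ} (hfix : (endo φ).hat (fun _ => q) c = c)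
    (hker : tG (QD K) c = 1) : c = 1 := by
  obtain ⟨k1, k0, k2, k3, kp⟩ := ker_coords hker
  obtain ⟨a2, a1, a3, a0⟩ := hat_four (φ := φ) (q := q) c
  rw [hfix] at a2 a3
  rw [a3, a2, ← pow_succ', ← pow_mul, ← pow_add] at kp
  have hodd : (q + 1 + q * q) % 2 = 1 := by
    have : 2 ∣ q * (q + 1) := (Nat.even_mul_succ_self q).two_dvd
    obtain ⟨m, hm⟩ := this
    rw [show q + 1 + q * q = q * (q + 1) + 1 by ring, hm]
    omega
  rw [pow_eq_pow_mod _ k0, hodd, pow_one] at kp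
  refine four_ext ?_ ?_ ?_ ?_
  · exact kp
  · exact k1
  · rw [a2, kp, one_pow]; rfl
  · rw [a3, a2, kp, one_pow, one_pow]; rfl

end Cfsg.Agent.H37.Twist.D4
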