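import Cfsg.Agent.H37.Twist.OfFold
import Cfsg.Agent.H37.Twist.Graph
import Cfsg.Agent.H37.Chev.Order
import Cfsg.Agent.H37.Fold.E6
import Cfsg.Agent.H37.Sym.E6
import Cfsg.Agent.H37.Weyl.OrderArith
import Cfsg.Prelude.Def_LieTwisted

/-!
`²E₆(q)`: the endomorphism, the orbits, the torus, the identification as fixed points.
-/
set_option autoImplicit false
set_option maxRecDepth 100000

namespace Cfsg.Agent.H37.Twist.E6

open Cfsg.Lie Cfsg.Agent.H37.RootSys Cfsg.Agent.H37.NormalForm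

/-- The symmetry. -/
def tables : Tables := ⟨H37.Fold.dataE6.rho, [5, 1, 4, 3, 2, 0]⟩

theorem tables_ok : tables.check Weyl.certE6 chevE6 6 = true := by decide +kernel

/-- The checked symmetry. -/
def sigmaE6 : Sigma Weyl.goodE6 := ⟨tables, tables_ok⟩

theorem rho_eq : tables.rho = Sym.dataE6.perm := by decide +kernel

/-- The classes of words of each orbit. -/
def cls : ℕ → List (List ℕ)
  | 0 => [[], [0], [5], [0, 5]]
  | 1 => [[], [2], [4], [2, 4]]
  | 2 => [[], [3]]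
  | _ => [[], [1]]

theorem orbit_ok (i : Fin 4) :
    orbitB Weyl.certE6 chevE6 6 tables (H37.Fold.dataE6.word i.val) (cls i.val) = true := by
  revert i; decide +kernel

/-- The positive roots of each orbit. -/
def orbL : ℕ → List ℕ
  | 0 => [36, 56]
  | 1 => [37, 42]
  | 2 => [39]
  | _ => [46]

theorem flip_ok (i : Fin 4) :
    flipList Weyl.certE6 chevE6 (H37.Fold.dataE6.word i.val) = orbL i.val := by
  revert i; decide +kernel

theorem comm_ok (i : Fin 4) : commB chevE6 (orbL i.val) = true := by revert i; decide +kernel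

theorem word_ok (i : Fin 4) : ∀ a ∈ H37.Fold.dataE6.word i.val, a < 6 := by
  revert i; decide +kernel

theorem map_ok (i : Fin 4) : ∀ r ∈ orbL i.val, tables.rh r ∈ orbL i.val := by
  revert i; decide +kernel

theorem sg_one : ∀ r ∈ [56, 46, 42, 39, 37, 36, 15, 25, 29, 32, 34, 35],
    Sym.dataE6.sg r = 1 := by decide +kernel

theorem sg_simple : ∀ i, i < chevE6.rank → Sym.dataE6.sg (chevE6.simple i) = 1 := by
  intro i hi
  exact (show ∀ i : Fin 6, Sym.dataE6.sg (chevE6.simple i.val) = 1 by decide +kernel) ⟨i, hi⟩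

theorem orth_ok : orthB chevE6 56 36 = true ∧ orthB chevE6 42 37 = true := by decide +kernel

theorem pm_ok : commB chevE6 [36, 56] = true ∧ commB chevE6 [15, 35] = true ∧
    commB chevE6 [37, 42] = true ∧ commB chevE6 [29, 34] = true := by decide +kernel

theorem neg_ok : chevE6.neg 56 = 15 ∧ chevE6.neg 36 = 35 ∧ chevE6.neg 42 = 29 ∧
    chevE6.neg 37 = 34 ∧ chevE6.neg 39 = 32 ∧ chevE6.neg 46 = 25 := by decide +kernel

theorem simple_ok : chevE6.simple 0 = 56 ∧ chevE6.simple 1 = 46 ∧ chevE6.simple 2 = 42 ∧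
    chevE6.simple 3 = 39 ∧ chevE6.simple 4 = 37 ∧ chevE6.simple 5 = 36 := by decide +kernel

theorem rh_ok : tables.rh 56 = 36 ∧ tables.rh 36 = 56 ∧ tables.rh 42 = 37 ∧ tables.rh 37 = 42 ∧
    tables.rh 39 = 39 ∧ tables.rh 46 = 46 ∧ tables.rh 15 = 35 ∧ tables.rh 35 = 15 ∧
    tables.rh 29 = 34 ∧ tables.rh 34 = 29 ∧ tables.rh 32 = 32 ∧ tables.rh 25 = 25 := by
  decide +kernel

theorem cartan_ok : ∀ i j : Fin 6, cartanE6 i j = chevE6.cartan i.val (chevE6.simple j.val) := by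
  intro i j
  exact of_decide_eq_true ((show ∀ i j : Fin 6,
    decide (cartanE6 i j = chevE6.cartan i.val (chevE6.simple j.val)) = true by
      decide +kernel) i j)

variable {K : Type*} [Field K]

/-- The group data. -/
abbrev QE (K : Type*) [Field K] : Chev.Data chevE6 K := Chev.dataE6 K

/-- The endomorphism. -/
noncomputable def endo (φ : K →+* K) : Endo (QE K) :=
  graphEndo (QE K) Sym.goodE6 sigmaE6 rho_eq φ

/-- The folded Weyl group. -/
noncomputable def fold (φ : K →+* K) : Fold (endo φ) CoxeterMatrix.F₄.Group :=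
  foldOf (endo φ) H37.Fold.goodE6 rfl cls orbit_ok

/-- The orbits. -/
noncomputable def orb (φ : K →+* K) (i : Fin 4) : Orbit (endo φ) :=
  ⟨H37.Fold.dataE6.word i.val, orbL i.val, word_ok i, flip_ok i, comm_ok i, map_ok i⟩

theorem ι_gen (φ : K →+* K) (i : Fin 4) :
    (fold φ).ι ((fold φ).gens i) = Weyl.wOf (QE K).X.M (H37.Fold.dataE6.word i.val) :=
  (fold φ).ι_gens i

/-- A root element of the group. -/
abbrev xe (r : ℕ) (t : K) : ↥(chevE6.group K) := xG (QE K).K K r t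

theorem word_mem {S : Set (List (ℕ × K))} {w : List (ℕ × K)} (hw : w ∈ S)
    (g : ↥(chevE6.group K)) (hg : g = (w.map fun p => xe p.1 p.2).prod) :
    (g : GL chevE6.Idx K) ∈ chevE6.genSubgroup K S := by
  refine Subgroup.subset_closure ⟨w, hw, ?_⟩
  have e : (g : GL chevE6.Idx K) = (QE K).K.wU K w := by
    rw [hg, Subgroup.val_list_prod, List.map_map]; rfl
  rw [e, Chevalley.Cert.coe_wU]

theorem single_mem {q : ℕ} {r : ℕ} (hr : r ∈ [e6p2, e6m2, e6p4, e6m4]) {t : K} (ht : t ^ q = t) :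
    ((xe r t : ↥(chevE6.group K)) : GL chevE6.Idx K) ∈ twistedE6 K q :=
  word_mem (w := [(r, t)]) (Or.inl ⟨t, ht, r, hr, rfl⟩) _ (by simp)

theorem pair_mem {q : ℕ} {r s : ℕ}
    (hr : (r, s) ∈ [(e6p1, e6p6), (e6m1, e6m6), (e6p3, e6p5), (e6m3, e6m5)]) (t : K) :
    ((xe r t * xe s (t ^ q) : ↥(chevE6.group K)) : GL chevE6.Idx K) ∈ twistedE6 K q :=
  word_mem (w := [(r, t), (s, t ^ q)]) (Or.inr ⟨t, (r, s), hr, rfl⟩) _ (by simp)

theorem twisted_le {q : ℕ} : twistedE6 K q ≤ chevE6.group K := by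
  refine (Subgroup.closure_le _).2 ?_
  rintro g ⟨w, -, hg⟩
  rw [show g = (QE K).K.wU K w from Units.ext (hg.trans ((QE K).K.coe_wU K w).symm)]
  exact (QE K).K.wU_mem K fun p _ => (QE K).K.xU_mem_group K p.1 p.2

variable {φ : K →+* K} {q : ℕ}

theorem f_pow (hφ : ∀ t, φ t = t ^ q) {r : ℕ}
    (hr : r ∈ [56, 46, 42, 39, 37, 36, 15, 25, 29, 32, 34, 35]) (t : K) :
    (endo φ).f r t = t ^ q := graphEndo_f_pow hφ (sg_one r hr) t

theorem σ_xe (hφ : ∀ t, φ t = t ^ q) {r : ℕ} (hr : r < chevE6.nroots)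
    (hm : r ∈ [56, 46, 42, 39, 37, 36, 15, 25, 29, 32, 34, 35]) (t : K) :
    (endo φ).σ (xe r t) = xe (tables.rh r) (t ^ q) := by
  rw [xe, (endo φ).σ_x r hr, f_pow hφ hm]
  rfl

variable [Fintype K]

theorem pow_two_card (hK : Fintype.card K = q ^ 2) (t : K) : (t ^ q) ^ q = t := by
  rw [← pow_mul, ← pow_two, ← hK, FiniteField.pow_card]

theorem units_pow_two (hK : Fintype.card K = q ^ 2) (t : Kˣ) : (t ^ q) ^ q = t :=
  Units.ext (by simpa using pow_two_card hK (t : K))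

theorem pair_fixed (hφ : ∀ t, φ t = t ^ q) (hK : Fintype.card K = q ^ 2) {r s : ℕ}
    (hr : r < chevE6.nroots) (hs : s < chevE6.nroots)
    (hr' : r ∈ [56, 46, 42, 39, 37, 36, 15, 25, 29, 32, 34, 35])
    (hs' : s ∈ [56, 46, 42, 39, 37, 36, 15, 25, 29, 32, 34, 35])
    (hrs : tables.rh r = s) (hsr : tables.rh s = r)
    {L : List ℕ} (hc : commB chevE6 L = true) (hrL : r ∈ L) (hsL : s ∈ L) (t : K) :
    (endo φ).σ (xe r t * xe s (t ^ q)) = xe r t * xe s (t ^ q) := by
  rw [map_mul, σ_xe hφ hr hr', σ_xe hφ hs hs', hrs, hsr, pow_two_card hK]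
  exact (commute_xG (QE K) hc hsL hrL _ _).eq

theorem le_fixed (hφ : ∀ t, φ t = t ^ q) (hK : Fintype.card K = q ^ 2) :
    ∀ g : ↥(chevE6.group K), (g : GL chevE6.Idx K) ∈ twistedE6 K q → (endo φ).σ g = g := by
  intro g hg
  have hle : twistedE6 K q ≤ (fixedPts (endo φ).σ).map (chevE6.group K).subtype := by
    refine (Subgroup.closure_le _).2 ?_
    rintro x ⟨w, hw, hx⟩
    refine ⟨(w.map fun p => xe p.1 p.2).prod, ?_, ?_⟩
    · rw [SetLike.mem_coe, mem_fixedPts]
      obtain ⟨n1, n2, n3, n4, n5, n6⟩ := neg_ok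
      obtain ⟨r1, r2, r3, r4, r5, r6, r7, r8, r9, r10, r11, r12⟩ := rh_ok
      rcases hw with ⟨t, ht, r, hr, rfl⟩ | ⟨t, rs, hrs, rfl⟩
      · simp only [List.map_cons, List.map_nil, List.prod_cons, List.prod_nil, mul_one]
        simp only [List.mem_cons, List.not_mem_nil, or_false, e6p2, e6m2, e6p4, e6m4] at hr
        rcases hr with rfl | rfl | rfl | rfl
        all_goals rw [σ_xe hφ (by decide) (by decide), ht]
        · rw [r6]
        · rw [r12]
        · rw [r5]
        · rw [r11]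
      · simp only [List.map_cons, List.map_nil, List.prod_cons, List.prod_nil, mul_one]
        simp only [List.mem_cons, List.not_mem_nil, or_false, e6p1, e6p6, e6m1, e6m6, e6p3, e6p5,
          e6m3, e6m5] at hrs
        rcases hrs with rfl | rfl | rfl | rfl
        · exact pair_fixed hφ hK (by decide) (by decide) (by decide) (by decide) r1 r2 pm_ok.1
            (by decide) (by decide) t
        · exact pair_fixed hφ hK (by decide) (by decide) (by decide) (by decide) r7 r8 pm_ok.2.1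
            (by decide) (by decide) t
        · exact pair_fixed hφ hK (by decide) (by decide) (by decide) (by decide) r3 r4 pm_ok.2.2.1
            (by decide) (by decide) t
        · exact pair_fixed hφ hK (by decide) (by decide) (by decide) (by decide) r9 r10 pm_ok.2.2.2
            (by decide) (by decide) t
    · refine Units.ext ?_
      show (((w.map fun p => xe p.1 p.2).prod : ↥(chevE6.group K)) : GL chevE6.Idx K).val = _
      rw [Subgroup.val_list_prod, List.map_map, hx, ← (QE K).K.coe_wU K w]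
      rfl
  obtain ⟨g', hg', e⟩ := hle hg
  rwa [← Subtype.ext (a1 := g') (a2 := g) e]

/-- `n_J(t)` and `h_J(t)` for the two pairs. -/
theorem nh_pair_mem (hφ : ∀ t, φ t = t ^ q) {r s r' s' : ℕ}
    (hr : (r, s) ∈ [(e6p1, e6p6), (e6m1, e6m6), (e6p3, e6p5), (e6m3, e6m5)])
    (hr' : (r', s') ∈ [(e6p1, e6p6), (e6m1, e6m6), (e6p3, e6p5), (e6m3, e6m5)])
    (hn : chevE6.neg r = r') (hn' : chevE6.neg s = s')
    (hc : orthB chevE6 r s = true) (t : K) :
    ((nUG (QE K) r t * nUG (QE K) s (t ^ q) : ↥(chevE6.group K)) : GL chevE6.Idx K)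
        ∈ twistedE6 K q ∧
      ((hUG (QE K) r t * hUG (QE K) s (t ^ q) : ↥(chevE6.group K)) : GL chevE6.Idx K)
        ∈ twistedE6 K q := by
  have key : ∀ u : K, ((nUG (QE K) r u * nUG (QE K) s (u ^ q) : ↥(chevE6.group K)) :
      GL chevE6.Idx K) ∈ twistedE6 K q := by
    intro u
    rw [nUG_mul_pair (QE K) hc, hn, hn',
      show -(u ^ q)⁻¹ = (-u⁻¹) ^ q by rw [← hφ, ← hφ, map_neg, map_inv₀]]
    simp only [Subgroup.coe_mul]
    exact mul_mem (mul_mem (pair_mem hr u) (pair_mem hr' _)) (pair_mem hr u)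
  refine ⟨key t, ?_⟩
  rw [hUG_eq, hUG_eq, show nUG (QE K) r t * nUG (QE K) r (-1) *
      (nUG (QE K) s (t ^ q) * nUG (QE K) s (-1))
    = nUG (QE K) r t * (nUG (QE K) r (-1) * nUG (QE K) s (t ^ q)) * nUG (QE K) s (-1) by group,
    (commute_nUG (QE K) hc (-1 : K) (t ^ q)).eq,
    show nUG (QE K) r t * (nUG (QE K) s (t ^ q) * nUG (QE K) r (-1)) * nUG (QE K) s (-1)
    = (nUG (QE K) r t * nUG (QE K) s (t ^ q)) * (nUG (QE K) r (-1) * nUG (QE K) s (-1)) by group]
  have h5 := key (-1)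
  rw [show ((-1 : K)) ^ q = -1 by rw [← hφ, map_neg, map_one]] at h5
  rw [Subgroup.coe_mul]
  exact mul_mem (key t) h5

theorem nh_single_mem (hφ : ∀ t, φ t = t ^ q) {r r' : ℕ}
    (hr : r ∈ [e6p2, e6m2, e6p4, e6m4]) (hr' : r' ∈ [e6p2, e6m2, e6p4, e6m4])
    (hn : chevE6.neg r = r') {t : K} (ht : t ^ q = t) :
    ((nUG (QE K) r t : ↥(chevE6.group K)) : GL chevE6.Idx K) ∈ twistedE6 K q ∧
      ((hUG (QE K) r t : ↥(chevE6.group K)) : GL chevE6.Idx K) ∈ twistedE6 K q := by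
  have key : ∀ u : K, u ^ q = u →
      ((nUG (QE K) r u : ↥(chevE6.group K)) : GL chevE6.Idx K) ∈ twistedE6 K q := by
    intro u hu
    rw [nUG_eq, hn]
    simp only [Subgroup.coe_mul]
    refine mul_mem (mul_mem (single_mem hr hu) (single_mem hr' ?_)) (single_mem hr hu)
    rw [← hφ, map_neg, map_inv₀, hφ, hu]
  refine ⟨key t ht, ?_⟩
  rw [hUG_eq, Subgroup.coe_mul]
  exact mul_mem (key t ht) (key _ (by rw [← hφ, map_neg, map_one]))

theorem n_mem (hφ : ∀ t, φ t = t ^ q) (j : Fin 4) : ∃ h ∈ (QE K).sys.H,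
    ((h * (QE K).sys.rep ((fold φ).ι ((fold φ).gens j)) : ↥(chevE6.group K)) : GL chevE6.Idx K)
      ∈ twistedE6 K q := by
  obtain ⟨h, hh, e⟩ := rep_word (QE K) (H37.Fold.dataE6.word j.val) (word_ok j)
  refine ⟨h, hh, ?_⟩
  rw [ι_gen, ← e]
  obtain ⟨n1, n2, n3, n4, n5, n6⟩ := neg_ok
  obtain ⟨s0, s1, s2, s3, s4, s5⟩ := simple_ok
  have h1 : (1 : K) ^ q = 1 := one_pow q
  fin_cases j <;>
    simp only [H37.Fold.Data.word, H37.Fold.dataE6, List.getD_cons_zero, List.getD_cons_succ,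
      List.map_cons, List.map_nil, List.prod_cons, List.prod_nil, mul_one, s0, s1, s2, s3, s4, s5]
  · have := (nh_pair_mem hφ (r := 56) (s := 36) (by decide) (by decide) n1 n2 orth_ok.1
      (1 : K)).1
    rwa [h1] at this
  · have := (nh_pair_mem hφ (r := 42) (s := 37) (by decide) (by decide) n3 n4 orth_ok.2
      (1 : K)).1
    rwa [h1] at this
  · exact (nh_single_mem hφ (r := 39) (by decide) (by decide) n5 h1).1
  · exact (nh_single_mem hφ (r := 46) (by decide) (by decide) n6 h1).1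

end Cfsg.Agent.H37.Twist.E6
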