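import Cfsg.Agent.H37.Twist.E6Basic

/-!
`²E₆(q)`: fixed torus elements and their number.
-/
set_option autoImplicit false
set_option maxRecDepth 100000

namespace Cfsg.Agent.H37.Twist.E6

open Cfsg.Lie Cfsg.Agent.H37.RootSys Cfsg.Agent.H37.NormalForm

variable {K : Type*} [Field K] {φ : K →+* K} {q : ℕ}

theorem chT_simple (c : Fin chevE6.rank → Kˣ) (j : Fin 6) :
    chT c (chevE6.simple j.val) = ∏ m : Fin 6, c m ^ cartanE6 m j := by
  show ∏ m : Fin 6, c m ^ chevE6.cartan m.val (chevE6.simple j.val) = _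
  exact Finset.prod_congr rfl fun m _ => by rw [cartan_ok]

theorem ker6_add {G : Type*} [AddCommGroup G] {a b c d f g : G} (e0 : (2 : ℕ) • a + -c = 0)
    (e1 : (2 : ℕ) • b + -d = 0) (e2 : -a + (2 : ℕ) • c + -d = 0)
    (e3 : -b + -c + (2 : ℕ) • d + -f = 0) (e4 : -d + (2 : ℕ) • f + -g = 0)
    (e5 : -f + (2 : ℕ) • g = 0) :
    c = (2 : ℕ) • a ∧ d = 0 ∧ b = 0 ∧ f = a ∧ g = (2 : ℕ) • a ∧ (3 : ℕ) • a = 0 := by
  have h3 : (3 : ℕ) • a = 0 := by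
    linear_combination (norm := module) (4 : ℤ) • e0 + (3 : ℤ) • e1 + (5 : ℤ) • e2 +
      (6 : ℤ) • e3 + (4 : ℤ) • e4 + (2 : ℤ) • e5
  have hb : b = 0 := by
    linear_combination (norm := module) e0 + (2 : ℤ) • e1 + (2 : ℤ) • e2 +
      (3 : ℤ) • e3 + (2 : ℤ) • e4 + e5
  have hd : d = 0 := by
    linear_combination (norm := module) (2 : ℤ) • e0 + (3 : ℤ) • e1 + (4 : ℤ) • e2 +
      (6 : ℤ) • e3 + (4 : ℤ) • e4 + (2 : ℤ) • e5
  have hc : c = (2 : ℕ) • a := by linear_combination (norm := module) (-1 : ℤ) • e0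
  have hg : g = (2 : ℕ) • a := by
    linear_combination (norm := module) (-2 : ℤ) • e0 + (-1 : ℤ) • e1 + (-2 : ℤ) • e2 +
      (-2 : ℤ) • e3 + (-1 : ℤ) • e4
  refine ⟨hc, hd, hb, ?_, hg, h3⟩
  linear_combination (norm := module) (-1 : ℤ) • e5 + (2 : ℤ) • hg + h3

theorem ker6 {G : Type*} [CommGroup G] {a b c d f g : G} (e0 : a ^ 2 * c⁻¹ = 1)
    (e1 : b ^ 2 * d⁻¹ = 1) (e2 : a⁻¹ * c ^ 2 * d⁻¹ = 1)
    (e3 : b⁻¹ * c⁻¹ * d ^ 2 * f⁻¹ = 1) (e4 : d⁻¹ * f ^ 2 * g⁻¹ = 1)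
    (e5 : f⁻¹ * g ^ 2 = 1) :
    c = a ^ 2 ∧ d = 1 ∧ b = 1 ∧ f = a ∧ g = a ^ 2 ∧ a ^ 3 = 1 :=
  ker6_add (G := Additive G) e0 e1 e2 e3 e4 e5

/-- The coordinates of a kernel element. -/
theorem ker_coords {z : Fin chevE6.rank → Kˣ} (h : tG (QE K) z = 1) :
    z (2 : Fin 6) = z (0 : Fin 6) ^ 2 ∧ z (3 : Fin 6) = 1 ∧ z (1 : Fin 6) = 1 ∧
      z (4 : Fin 6) = z (0 : Fin 6) ∧ z (5 : Fin 6) = z (0 : Fin 6) ^ 2 ∧
      z (0 : Fin 6) ^ 3 = 1 := by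
  have e : ∀ j : Fin 6, ∏ m : Fin 6, z m ^ cartanE6 m j = 1 := by
    intro j
    have hr := (Chev.dataE6 K).K.simple_lt j.val j.isLt
    have := tG_conj (QE K) z hr.1 (1 : K)
    rw [h, one_mul, inv_one, mul_one, mul_one] at this
    rw [← chT_simple]
    exact Units.ext (xG_inj (QE K) hr.1 this).symm
  have e0 := e 0
  have e1 := e 1
  have e2 := e 2
  have e3 := e 3
  have e4 := e 4
  have e5 := e 5
  simp [Fin.prod_univ_six, cartanE6, Matrix.cons_val_zero, Matrix.cons_val_one] at e0 e1 e2 e3 e4 e5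
  exact ker6 e0 e1 e2 e3 e4 e5

theorem noSign (hφ : ∀ t, φ t = t ^ q) : (endo φ).NoSign fun _ => q :=
  graphEndo_noSign hφ sg_simple

theorem hat_six (c : Fin chevE6.rank → Kˣ) :
    (endo φ).hat (fun _ => q) c (5 : Fin 6) = c (0 : Fin 6) ^ q ∧
    (endo φ).hat (fun _ => q) c (0 : Fin 6) = c (5 : Fin 6) ^ q ∧
    (endo φ).hat (fun _ => q) c (4 : Fin 6) = c (2 : Fin 6) ^ q ∧
    (endo φ).hat (fun _ => q) c (2 : Fin 6) = c (4 : Fin 6) ^ q ∧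
    (endo φ).hat (fun _ => q) c (1 : Fin 6) = c (1 : Fin 6) ^ q ∧
    (endo φ).hat (fun _ => q) c (3 : Fin 6) = c (3 : Fin 6) ^ q :=
  ⟨(endo φ).hat_apply _ c (0 : Fin 6) (5 : Fin 6) rfl,
    (endo φ).hat_apply _ c (5 : Fin 6) (0 : Fin 6) rfl,
    (endo φ).hat_apply _ c (2 : Fin 6) (4 : Fin 6) rfl,
    (endo φ).hat_apply _ c (4 : Fin 6) (2 : Fin 6) rfl,
    (endo φ).hat_apply _ c (1 : Fin 6) (1 : Fin 6) rfl,
    (endo φ).hat_apply _ c (3 : Fin 6) (3 : Fin 6) rfl⟩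

theorem six_ext {X : Type*} {a b : Fin chevE6.rank → X} (h0 : a (0 : Fin 6) = b (0 : Fin 6))
    (h1 : a (1 : Fin 6) = b (1 : Fin 6)) (h2 : a (2 : Fin 6) = b (2 : Fin 6))
    (h3 : a (3 : Fin 6) = b (3 : Fin 6)) (h4 : a (4 : Fin 6) = b (4 : Fin 6))
    (h5 : a (5 : Fin 6) = b (5 : Fin 6)) : a = b := by
  refine funext fun (i : Fin 6) => ?_
  fin_cases i <;> assumption

variable [Fintype K]

theorem hat_hat (hK : Fintype.card K = q ^ 2) (c : Fin chevE6.rank → Kˣ) :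
    (endo φ).hat (fun _ => q) ((endo φ).hat (fun _ => q) c) = c := by
  obtain ⟨a5, a0, a4, a2, a1, a3⟩ := hat_six (φ := φ) (q := q) c
  obtain ⟨b5, b0, b4, b2, b1, b3⟩ := hat_six (φ := φ) (q := q) ((endo φ).hat (fun _ => q) c)
  refine six_ext ?_ ?_ ?_ ?_ ?_ ?_
  · rw [b0, a5, units_pow_two hK]
  · rw [b1, a1, units_pow_two hK]
  · rw [b2, a4, units_pow_two hK]
  · rw [b3, a3, units_pow_two hK]
  · rw [b4, a2, units_pow_two hK]
  · rw [b5, a0, units_pow_two hK]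

theorem exists_fixed (hφ : ∀ t, φ t = t ^ q) (hK : Fintype.card K = q ^ 2)
    {h : ↥(chevE6.group K)} (hh : h ∈ (QE K).sys.H) (hfix : (endo φ).σ h = h) :
    ∃ c, (endo φ).hat (fun _ => q) c = c ∧ tG (QE K) c = h := by
  refine (endo φ).exists_fixed_lift (noSign hφ) (fun c z hz he => ⟨z⁻¹, by rw [map_inv, hz, inv_one], ?_⟩)
    hh hfix
  have h2 := congrArg ((endo φ).hat fun _ => q) he
  rw [hat_hat hK, map_mul, he] at h2
  have hz' : (endo φ).hat (fun _ => q) z = z⁻¹ :=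
    eq_inv_of_mul_eq_one_right (left_eq_mul.1 (h2.trans (mul_assoc _ _ _)))
  have h3 : z ^ 3 = 1 := by
    obtain ⟨k2, k3, k1, k4, k5, k0⟩ := ker_coords hz
    have hp : ∀ x : Kˣ, x = z (0 : Fin 6) → (x ^ 2) ^ 3 = 1 := fun x hx => by
      rw [hx, ← pow_mul, show 2 * 3 = 3 * 2 from rfl, pow_mul, k0, one_pow]
    refine six_ext ?_ ?_ ?_ ?_ ?_ ?_
    · show z (0 : Fin 6) ^ 3 = 1; exact k0
    · show z (1 : Fin 6) ^ 3 = 1; rw [k1, one_pow]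
    · show z (2 : Fin 6) ^ 3 = 1; rw [k2, hp _ rfl]
    · show z (3 : Fin 6) ^ 3 = 1; rw [k3, one_pow]
    · show z (4 : Fin 6) ^ 3 = 1; rw [k4, k0]
    · show z (5 : Fin 6) ^ 3 = 1; rw [k5, hp _ rfl]
  rw [map_mul, map_inv, he, hz', inv_inv]
  calc c * z * z = c * (z ^ 3 * z⁻¹) := by
        rw [mul_assoc]
        congr 1
        rw [pow_succ, mul_inv_cancel_right, pow_two]
    _ = c * z⁻¹ := by rw [h3, one_mul]

/-- Parameters of fixed elements. -/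
def fixParam (hK : Fintype.card K = q ^ 2) :
    {c : Fin chevE6.rank → Kˣ // (endo φ).hat (fun _ => q) c = c} ≃
      (Kˣ × Kˣ) × ({t : Kˣ // t ^ q = t} × {t : Kˣ // t ^ q = t}) where
  toFun c := ((c.1 (0 : Fin 6), c.1 (2 : Fin 6)),
    (⟨c.1 (1 : Fin 6), (hat_six (φ := φ) c.1).2.2.2.2.1.symm.trans (congrFun c.2 (1 : Fin 6))⟩,
      ⟨c.1 (3 : Fin 6), (hat_six (φ := φ) c.1).2.2.2.2.2.symm.trans (congrFun c.2 (3 : Fin 6))⟩))
  invFun p := ⟨![p.1.1, p.2.1.1, p.1.2, p.2.2.1, p.1.2 ^ q, p.1.1 ^ q], by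
    obtain ⟨a5, a0, a4, a2, a1, a3⟩ := hat_six (φ := φ) (q := q)
      (![p.1.1, p.2.1.1, p.1.2, p.2.2.1, p.1.2 ^ q, p.1.1 ^ q] : Fin chevE6.rank → Kˣ)
    refine six_ext ?_ ?_ ?_ ?_ ?_ ?_
    · rw [a0]; exact units_pow_two hK _
    · rw [a1]; exact p.2.1.2
    · rw [a2]; exact units_pow_two hK _
    · rw [a3]; exact p.2.2.2
    · rw [a4]; rfl
    · rw [a5]; rfl⟩
  left_inv c := Subtype.ext (by
    obtain ⟨a5, a0, a4, a2, a1, a3⟩ := hat_six (φ := φ) (q := q) c.1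
    refine six_ext rfl rfl rfl rfl ?_ ?_
    · exact a4.symm.trans (congrFun c.2 (4 : Fin 6))
    · exact a5.symm.trans (congrFun c.2 (5 : Fin 6)))
  right_inv p := rfl

/-- An index of a fundamental root. -/
abbrev ix (k : ℕ) (h : k < chevE6.rank := by decide) : Fin chevE6.rank := ⟨k, h⟩

theorem single_prod_six {G : Type*} [CommGroup G] (c : Fin 6 → G) : c =
    Pi.mulSingle 0 (c 0) * Pi.mulSingle 5 (c 5) * (Pi.mulSingle 2 (c 2) * Pi.mulSingle 4 (c 4)) *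
    (Pi.mulSingle 3 (c 3) * Pi.mulSingle 1 (c 1)) := by
  funext i
  fin_cases i <;> simp [Pi.mulSingle_apply, Fin.ext_iff]

theorem single_prod (c : Fin chevE6.rank → Kˣ) : c =
    Pi.mulSingle (ix 0) (c (0 : Fin 6)) * Pi.mulSingle (ix 5) (c (5 : Fin 6)) *
    (Pi.mulSingle (ix 2) (c (2 : Fin 6)) * Pi.mulSingle (ix 4) (c (4 : Fin 6))) *
    (Pi.mulSingle (ix 3) (c (3 : Fin 6)) * Pi.mulSingle (ix 1) (c (1 : Fin 6))) :=
  single_prod_six (G := Kˣ) c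

theorem H_mem (hφ : ∀ t, φ t = t ^ q) (hK : Fintype.card K = q ^ 2) (h : ↥(chevE6.group K))
    (hh : h ∈ (QE K).sys.H) (hfix : (endo φ).σ h = h) :
    (h : GL chevE6.Idx K) ∈ twistedE6 K q := by
  obtain ⟨c, hc, rfl⟩ := exists_fixed hφ hK hh hfix
  obtain ⟨a5, a0, a4, a2, a1, a3⟩ := hat_six (φ := φ) (q := q) c
  obtain ⟨n1, n2, n3, n4, n5, n6⟩ := neg_ok
  obtain ⟨s0, s1, s2, s3, s4, s5⟩ := simple_ok
  rw [single_prod c, map_mul, map_mul, map_mul, map_mul, map_mul, tG_single, tG_single, tG_single,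
    tG_single, tG_single, tG_single, Subgroup.coe_mul, Subgroup.coe_mul]
  have e5 : ((c (5 : Fin 6) : Kˣ) : K) = ((c (0 : Fin 6) : Kˣ) : K) ^ q := by
    rw [← Units.val_pow_eq_pow_val, ← a5, hc]
  have e4 : ((c (4 : Fin 6) : Kˣ) : K) = ((c (2 : Fin 6) : Kˣ) : K) ^ q := by
    rw [← Units.val_pow_eq_pow_val, ← a4, hc]
  have e3 : ((c (3 : Fin 6) : Kˣ) : K) ^ q = ((c (3 : Fin 6) : Kˣ) : K) := by
    rw [← Units.val_pow_eq_pow_val, ← a3, hc]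
  have e1 : ((c (1 : Fin 6) : Kˣ) : K) ^ q = ((c (1 : Fin 6) : Kˣ) : K) := by
    rw [← Units.val_pow_eq_pow_val, ← a1, hc]
  refine mul_mem (mul_mem ?_ ?_) ?_
  · rw [e5]
    show ((hUG (QE K) (chevE6.simple 0) _ * hUG (QE K) (chevE6.simple 5) _ : ↥(chevE6.group K)) :
      GL chevE6.Idx K) ∈ _
    rw [s0, s5]
    exact (nh_pair_mem hφ (by decide) (by decide) n1 n2 orth_ok.1 _).2
  · rw [e4]
    show ((hUG (QE K) (chevE6.simple 2) _ * hUG (QE K) (chevE6.simple 4) _ : ↥(chevE6.group K)) :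
      GL chevE6.Idx K) ∈ _
    rw [s2, s4]
    exact (nh_pair_mem hφ (by decide) (by decide) n3 n4 orth_ok.2 _).2
  · show ((hUG (QE K) (chevE6.simple 3) _ * hUG (QE K) (chevE6.simple 1) _ : ↥(chevE6.group K)) :
      GL chevE6.Idx K) ∈ _
    rw [s3, s1, Subgroup.coe_mul]
    exact mul_mem (nh_single_mem hφ (by decide) (by decide) n5 e3).2
      (nh_single_mem hφ (by decide) (by decide) n6 e1).2

/-- The kernel element with first coordinate `w`. -/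
def kerVec (w : Kˣ) : Fin chevE6.rank → Kˣ := ![w, 1, w ^ 2, 1, w, w ^ 2]

theorem kerVec_ker {w : Kˣ} (hw : w ^ 3 = 1) : tG (QE K) (kerVec w) = 1 := by
  refine eq_one_of_simple (QE K) (tG_mem (QE K) _) fun (j : Fin 6) => ?_
  have e := tG_conj (QE K) (kerVec w) ((Chev.dataE6 K).K.simple_lt j.val j.isLt).1 (1 : K)
  have h1 : chT (kerVec w) (chevE6.simple j.val) = 1 := by
    rw [chT_simple]
    have hi : (w ^ 2)⁻¹ = w := inv_eq_of_mul_eq_one_right (by rw [← pow_succ, hw])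
    have hj : w⁻¹ = w ^ 2 := inv_eq_of_mul_eq_one_right (by rw [← pow_succ', hw])
    fin_cases j <;> simp [Fin.prod_univ_six, cartanE6, kerVec, Matrix.cons_val_zero,
      Matrix.cons_val_one, zpow_ofNat, hi, hj] <;>
      simp only [← pow_mul, ← pow_succ, ← pow_succ', ← pow_add] <;>
      rw [pow_eq_pow_mod _ hw] <;> simp
  rw [h1, Units.val_one, one_mul, mul_inv_eq_iff_eq_mul] at e
  exact e

end Cfsg.Agent.H37.Twist.E6
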