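import Cfsg.Agent.H37.Twist.Sigma
import Cfsg.Agent.H37.Chev.Make
import Cfsg.Agent.H37.NormalForm

/-!
An endomorphism of a Chevalley group acting on root elements along a diagram symmetry: its action
on `U`, `H`, the representatives and the subgroups `U_w`.
-/
set_option autoImplicit false

namespace Cfsg.Agent.H37.Twist

open Cfsg.Lie Cfsg.Agent.H37.RootSys

/-- The endomorphism with its values on root elements. -/
structure Endo {D : ChevalleyDatum} {K : Type*} [Field K] (Q : Chev.Data D K) where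
  s : Sigma Q.X.good
  f : ℕ → K → K
  σ : ↥(D.group K) →* ↥(D.group K)
  σ_x : ∀ r, r < D.nroots → ∀ t, σ (xG Q.K K r t) = xG Q.K K (s.T.rh r) (f r t)
  f_inv : ∀ r, r < D.nroots → ∀ t : K, t ≠ 0 →
    f r t ≠ 0 ∧ f (D.neg r) (-t⁻¹) = -(f r t)⁻¹

variable {D : ChevalleyDatum} {K : Type*} [Field K] {Q : Chev.Data D K}

variable (Q) in
/-- The element `n_r(t)` of the group. -/
def nUG (r : ℕ) (t : K) : ↥(D.group K) :=
  ⟨Q.K.nU K r t, Q.K.wU_mem K fun p _ => Q.K.xU_mem_group K p.1 p.2⟩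

variable (Q) in
/-- The element `h_r(t)` of the group. -/
def hUG (r : ℕ) (t : K) : ↥(D.group K) :=
  ⟨Q.K.hU K r t, Q.K.wU_mem K fun p _ => Q.K.xU_mem_group K p.1 p.2⟩

theorem hUG_mem {r : ℕ} (hr : r < D.nroots) {t : K} (ht : t ≠ 0) : hUG Q r t ∈ Q.sys.H :=
  RootSys.hU_mem Q.K hr ht

theorem nUG_eq (r : ℕ) (t : K) :
    nUG Q r t = xG Q.K K r t * xG Q.K K (D.neg r) (-t⁻¹) * xG Q.K K r t :=
  Subtype.ext (Q.K.nU_eq K r t)

theorem hUG_eq (r : ℕ) (t : K) : hUG Q r t = nUG Q r t * nUG Q r (-1) :=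
  Subtype.ext (Q.K.hU_eq K r t)

theorem nUG_inv (r : ℕ) (t : K) : (nUG Q r t)⁻¹ = nUG Q r (-t) :=
  Subtype.ext (Q.K.nU_inv K r t)

theorem nUG_mul_mem {r : ℕ} (hr : r < D.nroots) {a b : K} (ha : a ≠ 0) (hb : b ≠ 0) :
    nUG Q r a * nUG Q r b ∈ Q.sys.H := by
  have e : nUG Q r a * nUG Q r b = hUG Q r a * (hUG Q r (-b))⁻¹ := by
    rw [hUG_eq, hUG_eq, mul_inv_rev, nUG_inv, nUG_inv, neg_neg, neg_neg,
      mul_assoc, ← mul_assoc (nUG Q r (-1)), ← nUG_inv r (1 : K), inv_mul_cancel, one_mul]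
  rw [e]
  exact mul_mem (hUG_mem hr ha) (inv_mem (hUG_mem hr (neg_ne_zero.2 hb)))

variable (E : Endo Q)

namespace Endo

theorem σ_nU {r : ℕ} (hr : r < D.nroots) {t : K} (ht : t ≠ 0) :
    E.σ (nUG Q r t) = nUG Q (E.s.T.rh r) (E.f r t) := by
  rw [nUG_eq, map_mul, map_mul, E.σ_x r hr, E.σ_x _ (Q.K.neg_lt hr), (E.f_inv r hr t ht).2,
    (E.s.root_spec hr).2.2.1, nUG_eq]

theorem σ_h {g : ↥(D.group K)} (hg : g ∈ Q.sys.H) : E.σ g ∈ Q.sys.H := by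
  have hle : D.diagonalSubgroup K
      ≤ (Q.sys.H.comap E.σ).map (D.group K).subtype := by
    refine (Subgroup.closure_le _).2 ?_
    rintro x ⟨r, t, hr, ht, hx⟩
    refine ⟨hUG Q r t, ?_, Units.ext ((Q.K.coe_hU K r t).trans hx.symm)⟩
    show E.σ (hUG Q r t) ∈ Q.sys.H
    rw [hUG_eq, map_mul, E.σ_nU hr ht, E.σ_nU hr (neg_ne_zero.2 one_ne_zero)]
    exact nUG_mul_mem (E.s.root_spec hr).1 (E.f_inv r hr t ht).1
      (E.f_inv r hr _ (neg_ne_zero.2 one_ne_zero)).1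
  obtain ⟨g', hg', e⟩ := hle (show (g : GL D.Idx K) ∈ D.diagonalSubgroup K from hg)
  rwa [← Subtype.ext (a1 := g') (a2 := g) e]

theorem σ_XS {A B : Set ℕ} (hA : ∀ r ∈ A, r < D.nroots ∧ E.s.T.rh r ∈ B) {g : ↥(D.group K)}
    (hg : g ∈ XS (xG Q.K K) A) : E.σ g ∈ XS (xG Q.K K) B := by
  have : XS (xG Q.K K) A ≤ (XS (xG Q.K K) B).comap E.σ :=
    XS_le fun r hr t => by
      show E.σ (xG Q.K K r t) ∈ XS (xG Q.K K) B
      rw [E.σ_x r (hA r hr).1]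
      exact x_mem_XS (hA r hr).2 _
  exact this hg

theorem σ_U {g : ↥(D.group K)} (hg : g ∈ Q.sys.U) : E.σ g ∈ Q.sys.U :=
  E.σ_XS (fun r hr => by
    obtain ⟨h1, h2⟩ := mem_posSet.1 hr
    exact ⟨h1, Finset.mem_coe.2 (mem_posSet.2 ⟨(E.s.root_spec h1).1,
      (E.s.root_spec h1).2.1.2 h2⟩)⟩) hg

theorem σ_Uw {w : Q.X.M.Group} {g : ↥(D.group K)} (hg : g ∈ Q.sys.Uw w) :
    E.σ g ∈ Q.sys.Uw (E.s.tau w) :=
  E.σ_XS (fun r hr => ⟨(Sys.mem_flip.1 hr).1, E.s.mem_flip_tau hr⟩) hg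

theorem σ_ns {i : ℕ} (hi : i < Q.X.n) :
    ∃ h ∈ Q.sys.H, E.σ (Q.sys.ns i) = h * Q.sys.ns (E.s.T.p i) := by
  have hs := (Q.X.good.simple_spec hi).2.1
  obtain ⟨hp, hps⟩ := E.s.p_spec hi
  have hne := (E.f_inv _ hs (1 : K) one_ne_zero).1
  refine ⟨hUG Q (D.simple (E.s.T.p i)) (E.f (D.simple i) 1),
    hUG_mem (Q.X.good.simple_spec hp).2.1 hne, ?_⟩
  show E.σ (nUG Q (D.simple i) 1) = _
  rw [E.σ_nU hs one_ne_zero, hps]
  exact Subtype.ext (nU_eq_hU_nS Q.K _)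

/-- The representatives are permuted modulo `H`. -/
theorem σ_rep (w : Q.X.M.Group) :
    ∃ h ∈ Q.sys.H, E.σ (Q.sys.rep w) = h * Q.sys.rep (E.s.tau w) := by
  refine Sys.gen_induction (p := fun w => ∃ h ∈ Q.sys.H,
    E.σ (Q.sys.rep w) = h * Q.sys.rep (E.s.tau w)) ?_ ?_ w
  · exact ⟨1, one_mem _, by rw [map_one, Q.sys.rep_one, map_one, one_mul]⟩
  · intro i w ih
    obtain ⟨h, hh, e⟩ := ih
    obtain ⟨k, hk, e1⟩ := Q.sys.ns_rep (i := i) w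
    obtain ⟨l, hl, e2⟩ := E.σ_ns i.isLt
    obtain ⟨hp, -⟩ := E.s.p_spec i.isLt
    obtain ⟨m, hm, e3⟩ := Q.sys.ns_rep (i := ⟨E.s.T.p i.val, hp⟩) (E.s.tau w)
    have e4 : E.s.tau (Q.X.M.simple i * w) = Q.X.M.simple ⟨E.s.T.p i.val, hp⟩ * E.s.tau w := by
      rw [map_mul, ← Sigma.gen_fin i, E.s.tau_gen i.isLt,
        ← Sigma.gen_fin (M := Q.X.M) ⟨E.s.T.p i.val, hp⟩]
    refine ⟨(E.σ k)⁻¹ * (l * (Q.sys.ns (E.s.T.p i.val) * h * (Q.sys.ns (E.s.T.p i.val))⁻¹) * m),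
      mul_mem (inv_mem (E.σ_h hk))
        (mul_mem (mul_mem hl (Q.sys.n_conj_H _ hp _ hh)) hm), ?_⟩
    have e5 : Q.sys.rep (Q.X.M.simple i * w) = k⁻¹ * (Q.sys.ns i * Q.sys.rep w) := by
      rw [e1]; group
    rw [e4, e5, map_mul, map_inv, map_mul, e2, e]
    calc (E.σ k)⁻¹ * (l * Q.sys.ns (E.s.T.p i.val) * (h * Q.sys.rep (E.s.tau w)))
        = (E.σ k)⁻¹ * (l * (Q.sys.ns (E.s.T.p i.val) * h * (Q.sys.ns (E.s.T.p i.val))⁻¹) *
            (Q.sys.ns (E.s.T.p i.val) * Q.sys.rep (E.s.tau w))) := by group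
      _ = _ := by rw [e3]; group

end Endo

end Cfsg.Agent.H37.Twist
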