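import Cfsg.Agent.H37.Twist.Orbit
import Cfsg.Agent.H37.Twist.Result
import Cfsg.Agent.H37.Fold.Basic

/-!
The folded Weyl group of an endomorphism whose root map has a checked folding with orthogonal
orbits; orbits covering the fundamental roots give faithfulness.
-/
set_option autoImplicit false

namespace Cfsg.Agent.H37.Twist

open Cfsg.Lie Cfsg.Agent.H37.RootSys Cfsg.Agent.H37.NormalForm

variable {D : ChevalleyDatum} {K : Type*} [Field K] {Q : Chev.Data D K}
variable {n' : ℕ} {M' : CoxeterMatrix (Fin n')} {C' : Weyl.Cert} {D' : ChevalleyDatum}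
  {hC' : Weyl.Good C' D' M'} {T : H37.Fold.Data}

/-- The folded group. -/
def foldOf (E : Endo Q) (hT : H37.Fold.Good T Q.X.good hC') (hrho : E.s.T.rho = T.rho)
    (cls : ℕ → List (List ℕ))
    (horb : ∀ i : Fin n', orbitB Q.X.C D Q.X.n E.s.T (T.word i.val) (cls i.val) = true) :
    Fold E M'.Group where
  ι := hT.incl
  ι_inj := hT.incl_injective
  ι_range w := by
    rw [E.s.tau_eq_iff, hT.mem_range_incl_iff]
    have e : ∀ r : Fin D.nroots, E.s.perm r = ⟨T.rh r.val, (hT.root_spec r.isLt).2.1⟩ :=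
      fun r => Fin.ext (show E.s.T.rh r.val = T.rh r.val by
        rw [Tables.rh, hrho, H37.Fold.Data.rh])
    have e' : ∀ x, E.s.T.rh x = T.rh x := fun x => by rw [Tables.rh, hrho, H37.Fold.Data.rh]
    simp only [e, e']
  k := n'
  gens := M'.simple
  closure_gens := eq_top_iff.2 fun g _ => Sys.top_of_closure
  sq_gens i := M'.toCoxeterSystem.simple_mul_simple_self i
  gens_ne i := Sys.simple_ne_one (hC := hC') i
  word i := T.word i.val
  word_lt i := (hT.word_spec i.isLt).2.2.1
  ι_gens i := by rw [← Sigma.gen_fin (M := M') i]; exact hT.incl_gen i.isLt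
  orbit i c hc hfix := by
    have e : hT.incl (M'.simple i) = Weyl.wOf Q.X.M (T.word i.val) := by
      rw [← Sigma.gen_fin (M := M') i]; exact hT.incl_gen i.isLt
    rw [e]
    exact orbit_of_check Q.X.good E.s (horb i) hc hfix
  desc a ha := by
    obtain ⟨i, hi, hneg⟩ := hC'.exists_descent ha
    refine ⟨⟨i, hi⟩, ?_⟩
    have hs := hC'.simple_spec hi
    have hg : M'.simple ⟨i, hi⟩ = Weyl.gen M' i := (Sigma.gen_fin (M := M') ⟨i, hi⟩).symm
    simp only [hg]
    have hpos : D'.nroots / 2 ≤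
        (hC'.hom (a * Weyl.gen M' i) ⟨D'.simple i, hs.2.1⟩).val := by
      rw [map_mul, Equiv.Perm.mul_apply]
      have hev := hC'.even
      set y := hC'.hom (Weyl.gen M' i) ⟨D'.simple i, hs.2.1⟩ with hy
      have hyv : y.val = D'.nroots - 1 - D'.simple i := by
        rw [hy, hC'.hom_gen_val hi]
        show C'.sigma i (D'.simple i) = _
        by_contra hne
        have hlt := (hC'.sigma_spec hi hs.2.1).1
        have h4 := hC'.sigma_spec hi
          (show D'.nroots - 1 - C'.sigma i (D'.simple i) < D'.nroots by omega)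
        have h5 := h4.2.2.2.2 (by have := hs.2.2; omega) (fun h => hne (by omega))
        rw [(hC'.sigma_spec hi hlt).2.2.2.1, (hC'.sigma_spec hi hs.2.1).2.2.1] at h5
        have := hs.1
        omega
      have : y = ⟨D'.nroots - 1 - D'.simple i, by omega⟩ := Fin.ext hyv
      rw [this, hC'.hom_neg a ⟨D'.simple i, hs.2.1⟩]
      omega
    have h1 := hT.inv_incl_mul_gen hi hpos
    rw [mul_assoc, Weyl.gen_mul_self, mul_one] at h1
    have h2 := hT.inv_incl_mul_gen (g := 1) hi (by simpa using hs.1)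
    rw [one_mul, map_one, Q.X.good.inv_one, zero_add] at h2
    omega

theorem faith_of_orbits {E : Endo Q} {k : ℕ} (O : Fin k → Orbit E)
    (hone : ∀ j, ∀ r ∈ (O j).L, E.f r 1 = 1)
    (hcov : ∀ i, i < D.rank → ∃ j, D.simple i ∈ (O j).L)
    (h : ↥(D.group K)) (hh : h ∈ Q.sys.H)
    (hc : ∀ v ∈ Q.sys.U, E.σ v = v → h * v = v * h) : h = 1 := by
  refine eq_one_of_simple Q hh fun i => ?_
  obtain ⟨j, hj⟩ := hcov i.val i.isLt
  refine (O j).commute_of_one hh (hc _ ?_ ?_) hj
  · exact Q.sys.Uw_le _ ((O j).Uw_eq.symm ▸ xprod_mem Q _)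
  · exact ((O j).fixed_iff _).2 fun r hr => (hone j r hr).symm

end Cfsg.Agent.H37.Twist
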