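import Cfsg.Agent.H37.Twist.Endo
import Cfsg.Agent.H37.Isog.Basic

/-!
Identities between words with integer coefficients, checked modulo `p` on sparse columns.
-/
set_option autoImplicit false

namespace Cfsg.Agent.H37.Twist

open Cfsg.Lie Cfsg.Agent.Chevalley

/-- Equality of the matrices of two integer words modulo `p`. -/
def sameWordP (p : ℕ) (D : ChevalleyDatum) (v w : List (ℕ × ℤ)) : Bool :=
  (v.all fun a => decide (a.1 < D.nroots)) && (w.all fun a => decide (a.1 < D.nroots)) &&
  (List.range (D.rank + D.nroots)).all fun j =>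
    Isog.Data.divB p (wordCol D v j ++ Isog.Data.negV (wordCol D w j))

variable {D : ChevalleyDatum} (C : Chevalley.Cert D) {F : Type*} [Field F]

/-- An integer word read in the field. -/
def castW (F : Type*) [Field F] (w : List (ℕ × ℤ)) : List (ℕ × F) :=
  w.map fun a => (a.1, (a.2 : F))

theorem wU_eq_of_sameWordP (p : ℕ) [CharP F p] {v w : List (ℕ × ℤ)}
    (h : sameWordP p D v w = true) : C.wU F (castW F v) = C.wU F (castW F w) := by
  simp only [sameWordP, Bool.and_eq_true, List.all_eq_true, decide_eq_true_eq, List.mem_range]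
    at h
  obtain ⟨⟨hv, hw⟩, hcol⟩ := h
  have hlt : ∀ {u : List (ℕ × ℤ)}, (∀ a ∈ u, a.1 < D.nroots) →
      ∀ a ∈ castW F u, a.1 < D.nroots := by
    intro u hu a ha
    obtain ⟨b, hb, rfl⟩ := List.mem_map.1 ha
    exact hu b hb
  refine Units.ext ?_
  rw [Cert.coe_wU, Cert.coe_wU, ← C.wordR_eq F _ (hlt hv), ← C.wordR_eq F _ (hlt hw)]
  show wordR D F (v.map fun a => (a.1, Int.castRingHom F a.2))
    = wordR D F (w.map fun a => (a.1, Int.castRingHom F a.2))
  rw [← wordR_map D (Int.castRingHom F), ← wordR_map D (Int.castRingHom F)]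
  ext row col
  simp only [Matrix.map_apply, eq_intCast]
  rw [wordR_eq_get C.targetsOK v hv, wordR_eq_get C.targetsOK w hw, ← sub_eq_zero,
    ← Int.cast_sub, CharP.intCast_eq_zero_iff F p]
  have := Isog.dvd_get (hcol (idxNat col) (idxNat_lt col)) (idxNat row)
  rw [get_append, Isog.Data.negV, get_scale] at this
  convert this using 1
  ring

end Cfsg.Agent.H37.Twist
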