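import Cfsg.Agent.H37.Twist.Graph
import Cfsg.Agent.H37.Twist.ModP
import Cfsg.Agent.H37.Isog.Auto

/-!
Endomorphisms from special isogenies: the field, the endomorphism, commutators modulo the
characteristic, words.
-/
set_option autoImplicit false

namespace Cfsg.Agent.H37.Twist

open Cfsg.Lie Cfsg.Agent.H37.RootSys Cfsg.Agent.H37.NormalForm

/-- The characteristic of a field of prime power order. -/
theorem charP_of_card {K : Type*} [Field K] [Fintype K] {p k : ℕ} (hp : p.Prime)
    (hK : Fintype.card K = p ^ k) : CharP K p := by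
  obtain ⟨n, hr, hcard⟩ := FiniteField.card K (ringChar K)
  have hdvd : ringChar K ∣ p ^ k := by rw [← hK, hcard]; exact dvd_pow_self _ n.ne_zero
  have e : ringChar K = p := (Nat.prime_dvd_prime_iff_eq hr hp).1 (hr.dvd_of_dvd_pow hdvd)
  exact e ▸ ringChar.charP K

/-- A finite field is perfect. -/
theorem perfect_of_finite (K : Type*) [Field K] [Finite K] (p : ℕ) [CharP K p] (hp : p.Prime) :
    ∀ x : K, ∃ y, y ^ p = x := by
  haveI : ExpChar K p := ExpChar.prime hp
  exact fun x => (Finite.injective_iff_surjective.1 (frobenius_inj K p)) x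

/-- The power map with exponent `p ^ m`. -/
theorem exists_iterHom (K : Type*) [Field K] (p m : ℕ) [CharP K p] (hp : p.Prime) :
    ∃ φ : K →+* K, ∀ t, φ t = t ^ p ^ m := by
  haveI : ExpChar K p := ExpChar.prime hp
  exact ⟨iterateFrobenius K p m, fun t => iterateFrobenius_def ..⟩

variable {D : ChevalleyDatum} {K : Type*} [Field K]

/-- Special isogeny times field endomorphism. -/
def isogEndo (Q : Chev.Data D K) (T : Isog.Data) (s : Sigma Q.X.good) (hrho : s.T.rho = T.rho)
    (α : ↥(D.group K) ≃* ↥(D.group K))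
    (hα : ∀ (g : ↥(D.group K)) (r : ℕ) (t : K), r < D.nroots →
      ((g : GL D.Idx K) : Matrix D.Idx D.Idx K) = D.x K r t →
      ((α g : GL D.Idx K) : Matrix D.Idx D.Idx K) = D.x K (T.rh r) (t ^ T.lm r))
    (φ : K →+* K) (hneg : ∀ r, r < D.nroots → T.lm (D.neg r) = T.lm r)
    (hodd : ∀ r, r < D.nroots → (-1 : K) ^ T.lm r = -1) : Endo Q where
  s := s
  f r t := φ t ^ T.lm r
  σ := α.toMonoidHom.comp (fieldHom φ)
  σ_x r hr t := by
    rw [MonoidHom.comp_apply, fieldHom_xG]
    refine Subtype.ext (Units.ext ?_)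
    rw [show s.T.rh r = T.rh r by rw [Tables.rh, hrho, Isog.Data.rh]]
    exact hα (xG Q.K K r (φ t)) r (φ t) hr (Q.K.coe_xU K r _)
  f_inv r hr t ht := by
    refine ⟨pow_ne_zero _ ((map_ne_zero φ).2 ht), ?_⟩
    rw [hneg r hr, map_neg, map_inv₀, neg_pow, hodd r hr, inv_pow, neg_one_mul]

variable {Q : Chev.Data D K}

/-- Root elements commute when all commutator coefficients vanish in the field. -/
theorem commute_coef {r s : ℕ} (hr : r < D.nroots) (hs : s < D.nroots) (h1 : s ≠ r)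
    (h2 : s ≠ D.neg r) (h : ∀ c ∈ D.commTerms r s, ((c.2.1 : ℤ) : K) = 0) (t u : K) :
    Commute (xG Q.K K r t) (xG Q.K K s u) := by
  refine (Commute.symm ?_)
  refine Subtype.ext ?_
  show Q.K.xU K s u * Q.K.xU K r t = Q.K.xU K r t * Q.K.xU K s u
  rw [Q.K.xU_comm K hr hs h1 h2 t u]
  have hw : ∀ w : List (ℕ × ℤ × ℕ × ℕ), (∀ c ∈ w, ((c.2.1 : ℤ) : K) = 0) →
      Q.K.wU K (w.map fun c => (c.1, (c.2.1 : K) * (-t) ^ c.2.2.1 * u ^ c.2.2.2)) = 1 := by
    intro w
    induction w with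
    | nil => intro _; rfl
    | cons a w ih =>
        intro hw
        rw [List.map_cons, Q.K.wU_cons, ih (fun c hc => hw c (List.mem_cons_of_mem _ hc)),
          hw a (by simp), zero_mul, zero_mul, Q.K.xU_zero, one_mul]
  rw [show D.commWord K r s t u = (D.commTerms r s).map
    (fun c => (c.1, (c.2.1 : K) * (-t) ^ c.2.2.1 * u ^ c.2.2.2)) from rfl, hw _ h, mul_one]

/-- The commutator formula in the group. -/
theorem xG_comm {r s : ℕ} (hr : r < D.nroots) (hs : s < D.nroots) (h1 : s ≠ r)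
    (h2 : s ≠ D.neg r) (t u : K) :
    xG Q.K K s u * xG Q.K K r t = xG Q.K K r t * xG Q.K K s u *
      ((D.commTerms r s).map fun c =>
        xG Q.K K c.1 ((c.2.1 : K) * (-t) ^ c.2.2.1 * u ^ c.2.2.2)).prod := by
  refine Subtype.ext ?_
  rw [Subgroup.coe_mul, Subgroup.coe_mul, Subgroup.coe_mul, Subgroup.val_list_prod, List.map_map]
  show Q.K.xU K s u * Q.K.xU K r t = _
  rw [Q.K.xU_comm K hr hs h1 h2 t u, Chevalley.Cert.wU, ChevalleyDatum.commWord, List.map_map]
  rfl

variable (Q) in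
/-- A word as an element of the group. -/
def wG (w : List (ℕ × K)) : ↥(D.group K) := (w.map fun p => xG Q.K K p.1 p.2).prod

theorem coe_wG (w : List (ℕ × K)) : ((wG Q w : ↥(D.group K)) : GL D.Idx K) = Q.K.wU K w := by
  rw [wG, Subgroup.val_list_prod, List.map_map]; rfl

theorem wG_append (v w : List (ℕ × K)) : wG Q (v ++ w) = wG Q v * wG Q w := by simp [wG]

theorem nUG_eq_wG (r : ℕ) (t : K) : nUG Q r t = wG Q (D.nWord r t) :=
  Subtype.ext (coe_wG (Q := Q) _).symm

theorem hUG_eq_wG (r : ℕ) (t : K) : hUG Q r t = wG Q (D.hWord r t) :=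
  Subtype.ext (coe_wG (Q := Q) _).symm

theorem wG_eq_of_sameWordP (p : ℕ) [CharP K p] {v w : List (ℕ × ℤ)}
    (h : sameWordP p D v w = true) : wG Q (castW K v) = wG Q (castW K w) :=
  Subtype.ext (by rw [coe_wG, coe_wG]; exact wU_eq_of_sameWordP Q.K p h)

theorem wG_mem {S : Set (List (ℕ × K))} {w : List (ℕ × K)} (hw : w ∈ S) :
    ((wG Q w : ↥(D.group K)) : GL D.Idx K) ∈ D.genSubgroup K S := by
  refine Subgroup.subset_closure ⟨w, hw, ?_⟩
  rw [coe_wG, Chevalley.Cert.coe_wU]

include Q in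
theorem genSubgroup_le_group (S : Set (List (ℕ × K))) : D.genSubgroup K S ≤ D.group K := by
  refine (Subgroup.closure_le _).2 ?_
  rintro g ⟨w, -, hg⟩
  rw [show g = Q.K.wU K w from Units.ext (hg.trans (Q.K.coe_wU K w).symm)]
  exact Q.K.wU_mem K fun p _ => Q.K.xU_mem_group K p.1 p.2

/-- Elements of a generated subgroup are fixed when the generating words are. -/
theorem fixed_of_words {S : Set (List (ℕ × K))} (σ : ↥(D.group K) →* ↥(D.group K))
    (h : ∀ w ∈ S, σ (wG Q w) = wG Q w) :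
    ∀ g : ↥(D.group K), (g : GL D.Idx K) ∈ D.genSubgroup K S → σ g = g := by
  intro g hg
  have hle : D.genSubgroup K S ≤ (fixedPts σ).map (D.group K).subtype := by
    refine (Subgroup.closure_le _).2 ?_
    rintro x ⟨w, hw, hx⟩
    exact ⟨wG Q w, h w hw, Units.ext (by
      show ((wG Q w : ↥(D.group K)) : GL D.Idx K).val = _
      rw [coe_wG, hx, Q.K.coe_wU])⟩
  obtain ⟨g', hg', e⟩ := hle hg
  rwa [← Subtype.ext (a1 := g') (a2 := g) e]

/-- Elements of a generated subgroup, in the closure of the words inside the group. -/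
theorem le_closure_words {S : Set (List (ℕ × K))} {g : ↥(D.group K)}
    (hg : (g : GL D.Idx K) ∈ D.genSubgroup K S) :
    g ∈ Subgroup.closure {g : ↥(D.group K) | ∃ w ∈ S, g = wG Q w} := by
  have hle : D.genSubgroup K S ≤ (Subgroup.closure
      {g : ↥(D.group K) | ∃ w ∈ S, g = wG Q w}).map (D.group K).subtype := by
    refine (Subgroup.closure_le _).2 ?_
    rintro x ⟨w, hw, hx⟩
    exact ⟨wG Q w, Subgroup.subset_closure ⟨w, hw, rfl⟩, Units.ext (by
      show ((wG Q w : ↥(D.group K)) : GL D.Idx K).val = _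
      rw [coe_wG, hx, Q.K.coe_wU])⟩
  obtain ⟨g', hg', e⟩ := hle hg
  rwa [← Subtype.ext (a1 := g') (a2 := g) e]

end Cfsg.Agent.H37.Twist
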