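import Cfsg.Agent.H37.Twist.FoldWords
import Cfsg.Agent.H37.Twist.OfFold
import Cfsg.Agent.H37.Twist.ReeCommon
import Cfsg.Prelude.Def_LieTwisted

/-!
`²F₄(q)`: the endomorphism, the folded Weyl group, the fixed elements of the class of type `B₂`.
-/
set_option autoImplicit false
set_option maxRecDepth 100000

namespace Cfsg.Agent.H37.Twist.F4

open Cfsg.Lie Cfsg.Agent.H37.RootSys Cfsg.Agent.H37.NormalForm

/-- The root map. -/
def tables : Tables := ⟨Isog.dataF4.rho, [3, 2, 1, 0]⟩

theorem tables_ok : tables.check Weyl.certF4 chevF4 4 = true := by decide +kernel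

/-- The checked symmetry. -/
def sigmaF4 : Sigma Weyl.goodF4 := ⟨tables, tables_ok⟩

/-- Words of powers of the product of the generators. -/
def rot : ℕ → List ℕ
  | 0 => []
  | n + 1 => [0, 3, 1, 2, 1, 2] ++ rot n

/-- The words of the sixteen elements. -/
def om : DihedralGroup 8 → List ℕ
  | .r i => rot i.val
  | .sr i => [0, 3] ++ rot i.val

/-- The generators. -/
def gens : Fin 2 → DihedralGroup 8 := ![.sr 0, .sr 1]

/-- Their words. -/
def word : Fin 2 → List ℕ := ![[0, 3], [1, 2, 1, 2]]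

theorem words_ok :
    wordsB Weyl.certF4 chevF4 4 tables.rho H37.Fold.wordsF4 om gens word = true := by
  decide +kernel

theorem closure_gens : Subgroup.closure (Set.range gens) = ⊤ := by
  refine eq_top_iff.2 fun a _ => ?_
  have h0 : DihedralGroup.sr (0 : ZMod 8) ∈ Subgroup.closure (Set.range gens) :=
    Subgroup.subset_closure ⟨0, rfl⟩
  have hr : DihedralGroup.r (1 : ZMod 8) ∈ Subgroup.closure (Set.range gens) := by
    rw [show DihedralGroup.r (1 : ZMod 8) = DihedralGroup.sr 0 * DihedralGroup.sr 1 by decide]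
    exact mul_mem h0 (Subgroup.subset_closure ⟨1, rfl⟩)
  have hpow : ∀ i : ZMod 8, DihedralGroup.r i ∈ Subgroup.closure (Set.range gens) := by
    intro i
    have e := DihedralGroup.r_one_pow (n := 8) i.val
    rw [ZMod.natCast_zmod_val] at e
    rw [← e]
    exact pow_mem hr _
  cases a with
  | r i => exact hpow i
  | sr i =>
      rw [show DihedralGroup.sr i = DihedralGroup.sr 0 * DihedralGroup.r i by simp]
      exact mul_mem h0 (hpow i)

/-- The elements generated by the reflections of each orbit. -/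
def cls : Fin 2 → List (List ℕ) :=
  ![[[], [0], [3], [0, 3]],
    [[], [1], [2], [1, 2], [2, 1], [1, 2, 1], [2, 1, 2], [1, 2, 1, 2]]]

theorem orbit_ok : ∀ j : Fin 2, orbitB Weyl.certF4 chevF4 4 tables (word j) (cls j) = true := by
  decide +kernel

theorem lm_neg : ∀ r, r < chevF4.nroots → Isog.dataF4.lm (chevF4.neg r) = Isog.dataF4.lm r := by
  intro r hr
  exact (by decide +kernel : ∀ r : Fin 48,
    Isog.dataF4.lm (chevF4.neg r.val) = Isog.dataF4.lm r.val) ⟨r, hr⟩

/-- The four roots of a class of type `B₂`. -/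
structure Four where
  b : ℕ
  a : ℕ
  ab : ℕ
  aab : ℕ

/-- The positive class. -/
def pc : Four := ⟨25, 27, 28, 30⟩

/-- The negative class. -/
def nc : Four := ⟨22, 20, 19, 17⟩

theorem four_ok : ∀ o ∈ [pc, nc], tables.rh o.b = o.a ∧ tables.rh o.a = o.b ∧
    tables.rh o.ab = o.aab ∧ tables.rh o.aab = o.ab ∧ Isog.dataF4.lm o.b = 1 ∧
    Isog.dataF4.lm o.a = 2 ∧ Isog.dataF4.lm o.ab = 2 ∧ Isog.dataF4.lm o.aab = 1 ∧
    o.b < chevF4.nroots ∧ o.a < chevF4.nroots ∧ o.ab < chevF4.nroots ∧ o.aab < chevF4.nroots ∧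
    o.a ≠ o.b ∧ o.a ≠ chevF4.neg o.b ∧ o.aab ≠ o.ab ∧ o.aab ≠ chevF4.neg o.ab ∧
    chevF4.commTerms o.ab o.aab = [] := by
  intro o ho
  simp only [List.mem_cons, List.not_mem_nil, or_false] at ho
  rcases ho with rfl | rfl <;> decide +kernel

theorem swap_ok : chevF4.commTerms pc.b pc.a = [(pc.ab, 1, 1, 1), (pc.aab, -1, 1, 2)] ∧
    chevF4.commTerms nc.b nc.a = [(nc.ab, -1, 1, 1), (nc.aab, -1, 1, 2)] := by decide +kernel

variable {K : Type*} [Field K]

/-- The group data. -/
abbrev QD (K : Type*) [Field K] : Chev.Data chevF4 K := Chev.dataF4 K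

/-- A root element of the group. -/
abbrev xe (r : ℕ) (t : K) : ↥(chevF4.group K) := xG (QD K).K K r t

theorem xe_add {r : ℕ} (hr : r < chevF4.nroots) (t u : K) : xe r (t + u) = xe r t * xe r u :=
  (QD K).sys.x_add' r hr t u

theorem xe_zero {r : ℕ} (hr : r < chevF4.nroots) : xe r (0 : K) = 1 := (QD K).sys.x_zero' hr

variable [Finite K] [CharP K 2]

omit [Finite K] in
theorem two_eq : (2 : K) = 0 := by exact_mod_cast CharP.cast_eq_zero K 2

omit [Finite K] in
theorem neg_eq (t : K) : -t = t := by linear_combination (-t) * two_eq (K := K)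

/-- The special isogeny. -/
noncomputable def alpha (K : Type*) [Field K] [Finite K] [CharP K 2] :
    ↥(chevF4.group K) ≃* ↥(chevF4.group K) :=
  (Isog.autoF4 (perfect_of_finite K 2 Nat.prime_two)).choose

/-- The endomorphism. -/
noncomputable def endo (φ : K →+* K) : Endo (QD K) :=
  isogEndo (QD K) Isog.dataF4 sigmaF4 rfl (alpha K)
    (Isog.autoF4 (perfect_of_finite K 2 Nat.prime_two)).choose_spec φ lm_neg
    fun r _ => by rw [neg_eq, one_pow]

/-- The folded Weyl group. -/
noncomputable def fold (φ : K →+* K) : Fold (endo φ) (DihedralGroup 8) :=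
  foldWords (endo φ) H37.Fold.centF4 words_ok closure_gens cls orbit_ok

variable {φ : K →+* K}

theorem σ_xe {r : ℕ} (hr : r < chevF4.nroots) (t : K) :
    (endo φ).σ (xe r t) = xe (tables.rh r) (φ t ^ Isog.dataF4.lm r) :=
  (endo φ).σ_x r hr t

omit [Finite K] [CharP K 2] in
theorem top_commute {o : Four} (ho : o ∈ [pc, nc]) (t u : K) :
    Commute (xe o.ab t) (xe o.aab u) := by
  obtain ⟨-, -, -, -, -, -, -, -, -, -, hab, haab, -, -, n1, n2, he⟩ := four_ok o ho
  exact commute_coef hab haab n1 n2 (by simp [he]) t u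

/-- A product along the four roots. -/
def four (o : Four) (T U c d : K) : ↥(chevF4.group K) :=
  xe o.b T * xe o.a U * (xe o.ab c * xe o.aab d)

omit [Finite K] in
/-- Exchanging the fundamental root elements. -/
theorem swap {o : Four} (ho : o ∈ [pc, nc]) (T U : K) :
    xe o.a U * xe o.b T = xe o.b T * xe o.a U * (xe o.ab (T * U) * xe o.aab (T * U ^ 2)) := by
  obtain ⟨-, -, -, -, -, -, -, -, hb, ha, -, -, n1, n2, -⟩ := four_ok o ho
  rw [xe, xe, xG_comm hb ha n1 n2]
  simp only [List.mem_cons, List.not_mem_nil, or_false] at ho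
  rcases ho with rfl | rfl
  · rw [swap_ok.1]
    simp [neg_eq, xe]
  · rw [swap_ok.2]
    simp [neg_eq, xe]

omit [Finite K] [CharP K 2] in
theorem reorder {G : Type*} [Group G] {A B C D E F : G} (h1 : Commute F D) (h2 : Commute F E) :
    A * B * (C * D) * (E * F) = A * B * (C * F * (D * E)) := by
  calc A * B * (C * D) * (E * F) = A * B * (C * ((D * E) * F)) := by group
    _ = _ := by rw [← (h1.mul_right h2).eq]; group

/-- The endomorphism on a product along the four roots. -/
theorem σ_four {o : Four} (ho : o ∈ [pc, nc]) (T U c d : K) :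
    (endo φ).σ (four o T U c d) = four o (φ U ^ 2) (φ T) (φ U ^ 2 * φ T + φ d)
      (φ U ^ 2 * φ T ^ 2 + φ c ^ 2) := by
  obtain ⟨r1, r2, r3, r4, l1, l2, l3, l4, hb, ha, hab, haab, -⟩ := four_ok o ho
  rw [four, map_mul, map_mul, map_mul, σ_xe hb, σ_xe ha, σ_xe hab, σ_xe haab, r1, r2, r3, r4,
    l1, l2, l3, l4]
  simp only [pow_one]
  rw [swap ho, four, xe_add hab, xe_add haab]
  exact reorder (top_commute ho _ _) (top_commute ho _ _)

/-- Coordinates of a fixed element. -/
def pr (o : Four) (φ : K →+* K) (t c : K) : ↥(chevF4.group K) :=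
  four o t (φ t) c (t * φ t ^ 2 + φ c ^ 2)

theorem pr_fixed (hθ : ∀ t, φ (φ t) ^ 2 = t) {o : Four} (ho : o ∈ [pc, nc]) (t c : K) :
    (endo φ).σ (pr o φ t c) = pr o φ t c := by
  rw [pr, σ_four ho, hθ]
  congr 1
  simp only [map_add, map_mul, map_pow, hθ]
  linear_combination (t * φ t) * two_eq (K := K)

omit [Finite K] in
/-- The generating words in these coordinates. -/
theorem wG_b2 {e : ℕ} (hφ : ∀ t, φ t = t ^ e) {o : Four} (ho : o ∈ [pc, nc]) (t u : K) :
    wG (QD K) (b2ClassWord e o.a o.b o.ab o.aab t u) = pr o φ t u := by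
  obtain ⟨-, -, -, -, -, -, -, -, -, -, hab, haab, -⟩ := four_ok o ho
  have e1 : t ^ (e + 1) + u = t * φ t + u := by rw [hφ]; ring
  have e2 : u ^ (2 * e) = φ u ^ 2 := by rw [hφ, ← pow_mul, mul_comm]
  simp only [b2ClassWord, e1, e2, ← hφ t, wG, List.map_cons, List.map_nil, List.prod_cons,
    List.prod_nil, mul_one]
  rw [show ∀ A B C D : ↥(chevF4.group K), A * (B * (C * D)) = A * B * (C * D)
    from fun A B C D => by group]
  show xe o.a (φ t) * xe o.b t * (xe o.ab _ * xe o.aab _) = _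
  rw [swap ho, pr, four, mul_assoc (xe o.b t * xe o.a (φ t))]
  congr 1
  rw [show ∀ A B C D : ↥(chevF4.group K), A * B * (C * D) = A * (B * C) * D
    from fun A B C D => by group, ← (top_commute ho _ _).eq, xe_add haab]
  rw [show ∀ A B C D : ↥(chevF4.group K), A * (B * C) * D = (A * B) * (C * D)
    from fun A B C D => by group, ← xe_add hab]
  congr 2
  linear_combination (t * φ t) * two_eq (K := K)

theorem word_lt (j : Fin 2) : ∀ a ∈ word j, a < 4 := by revert j; decide

/-- The roots inverted by the second generator. -/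
def pos : List ℕ := [25, 27, 28, 30]

theorem flip_ok : flipList Weyl.certF4 chevF4 [1, 2, 1, 2] = pos ∧
    flipList Weyl.certF4 chevF4 [0, 3] = [24, 33] := by decide +kernel

theorem Uw_gen : (QD K).sys.Uw ((fold φ).ι ((fold φ).gens (1 : Fin 2)))
    = XS (QD K).sys.x (↑pos.toFinset : Set ℕ) := by
  rw [(fold φ).ι_gens (1 : Fin 2), Sys.Uw,
    flip_word (QD K).X.good ((fold φ).word_lt (1 : Fin 2))]
  have e : flipList (QD K).X.C chevF4 ((fold φ).word (1 : Fin 2)) = pos := flip_ok.1
  rw [e]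

omit [Finite K] [CharP K 2] in
theorem closed_pos : (QD K).sys.toUnip.Closed pos.toFinset := by
  have h : pos.toFinset = Sys.flip (QD K).X.good (Weyl.wOf (QD K).X.M [1, 2, 1, 2]) := by
    rw [flip_word (QD K).X.good (show ∀ a ∈ [1, 2, 1, 2], a < (QD K).X.n from word_lt 1)]
    exact congrArg List.toFinset flip_ok.1.symm
  rw [h]
  exact (QD K).sys.closed_flip _

omit [Finite K] [CharP K 2] in
theorem four_eq_xprod (t : ℕ → K) :
    four pc (t 25) (t 27) (t 28) (t 30) = xprod (QD K) pos t := by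
  simp only [four, pc, xprod, pos, List.map_cons, List.map_nil, List.prod_cons, List.prod_nil,
    mul_one]
  group

/-- Values along the positive class. -/
def coord (T U c d : K) : ℕ → K
  | 25 => T
  | 27 => U
  | 28 => c
  | _ => d

omit [Finite K] [CharP K 2] in
theorem four_inj {T U c d T' U' c' d' : K} (h : four pc T U c d = four pc T' U' c' d') :
    T = T' ∧ U = U' ∧ c = c' ∧ d = d' := by
  have h' : xprod (QD K) pos (coord T U c d) = xprod (QD K) pos (coord T' U' c' d') := by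
    rw [← four_eq_xprod, ← four_eq_xprod]
    exact h
  have e := xprod_inj (QD K) (show pos.Pairwise (· < ·) by decide) closed_pos h'
  exact ⟨e 25 (by simp [pos]), e 27 (by simp [pos]), e 28 (by simp [pos]), e 30 (by simp [pos])⟩

theorem exists_pr {v : ↥(chevF4.group K)}
    (hv : v ∈ (QD K).sys.Uw ((fold φ).ι ((fold φ).gens (1 : Fin 2))))
    (hfix : (endo φ).σ v = v) : ∃ t c, v = pr pc φ t c := by
  obtain ⟨t, rfl⟩ := exists_xprod (QD K) (show pos.Pairwise (· < ·) by decide) closed_pos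
    (Uw_gen (φ := φ) ▸ hv)
  rw [← four_eq_xprod] at hfix ⊢
  rw [σ_four (by simp)] at hfix
  obtain ⟨h1, h2, -, h4⟩ := four_inj hfix
  refine ⟨t 25, t 28, ?_⟩
  rw [pr]
  congr 1
  · exact h2.symm
  · rw [← h4, h1]

omit [Finite K] [CharP K 2] in
theorem four_mem (T U c d : K) : four pc T U c d ∈ XS (QD K).sys.x (↑pos.toFinset : Set ℕ) := by
  rw [← show coord T U c d 25 = T from rfl, ← show coord T U c d 27 = U from rfl]
  have hm : ∀ r, r ∈ pos → ∀ s : K, xe r s ∈ XS (QD K).sys.x (↑pos.toFinset : Set ℕ) :=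
    fun r hr s => x_mem_XS (List.mem_toFinset.2 hr) s
  exact mul_mem (mul_mem (hm _ (by simp [pos, pc]) _) (hm _ (by simp [pos, pc]) _))
    (mul_mem (hm _ (by simp [pos, pc]) _) (hm _ (by simp [pos, pc]) _))

theorem pr_Uw (t c : K) :
    pr pc φ t c ∈ (QD K).sys.Uw ((fold φ).ι ((fold φ).gens (1 : Fin 2))) := by
  rw [Uw_gen]; exact four_mem _ _ _ _

theorem card_base (hθ : ∀ t, φ (φ t) ^ 2 = t) :
    Nat.card ↥((QD K).sys.Uw ((fold φ).ι ((fold φ).gens (1 : Fin 2))) ⊓ fixedPts (endo φ).σ)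
      = Nat.card K ^ 2 := by
  let ψ : K × K →
      ↥((QD K).sys.Uw ((fold φ).ι ((fold φ).gens (1 : Fin 2))) ⊓ fixedPts (endo φ).σ) :=
    fun p => ⟨pr pc φ p.1 p.2, pr_Uw _ _, pr_fixed hθ (by simp) _ _⟩
  have hψ : Function.Bijective ψ := by
    constructor
    · rintro ⟨t, c⟩ ⟨t', c'⟩ e
      obtain ⟨h1, -, h3, -⟩ := four_inj (congrArg Subtype.val e)
      rw [Prod.mk.injEq]
      exact ⟨h1, h3⟩
    · rintro ⟨v, hv, hfix⟩
      obtain ⟨t, c, rfl⟩ := exists_pr hv hfix
      exact ⟨(t, c), rfl⟩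
  rw [← Nat.card_eq_of_bijective ψ hψ, Nat.card_prod, pow_two]

end Cfsg.Agent.H37.Twist.F4
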