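import Cfsg.Agent.H37.Twist.Pieces
import Cfsg.Agent.H37.Fold.Small

/-!
A folded Weyl group given by a list of words, one for each of its elements.
-/
set_option autoImplicit false

namespace Cfsg.Agent.H37.Twist

open Cfsg.Lie Cfsg.Agent.H37.RootSys Cfsg.Agent.H37.NormalForm

variable {W' : Type*} [Group W'] [Fintype W'] [DecidableEq W']

/-- The words `om` give an injective homomorphism whose image is listed and commutes with `rho`;
descents exist at the chosen involutions. -/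
def wordsB (C : Weyl.Cert) (D : ChevalleyDatum) (n : ℕ) (rho : List ℕ) (ws : List (List ℕ))
    (om : W' → List ℕ) {k : ℕ} (gens : Fin k → W') (word : Fin k → List ℕ) : Bool :=
  decide (∀ a : W', ∀ i ∈ om a, i < n) &&
  decide (∀ j, ∀ i ∈ word j, i < n) &&
  decide (∀ a b : W', ∀ r : Fin D.nroots,
    C.act (om (a * b)) r.val = C.act (om a ++ om b) r.val) &&
  decide (∀ a b : W', (∀ r : Fin D.nroots, C.act (om a) r.val = C.act (om b) r.val) → a = b) &&
  decide (∀ w ∈ ws, (∀ i ∈ w, i < n) ∧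
    ∃ a : W', ∀ r : Fin D.nroots, C.act w r.val = C.act (om a) r.val) &&
  decide (∀ a : W', ∀ r : Fin D.nroots,
    C.act (om a) (rho.getD r.val 0) = rho.getD (C.act (om a) r.val) 0) &&
  decide (∀ j, gens j * gens j = 1 ∧ gens j ≠ 1 ∧
    ∀ r : Fin D.nroots, C.act (om (gens j)) r.val = C.act (word j) r.val) &&
  decide (∀ a : W', a ≠ 1 → ∃ j, (flipList C D (om (a * gens j))).length +
    (flipList C D (word j)).length = (flipList C D (om a)).length)

section

variable {n : ℕ} {M : CoxeterMatrix (Fin n)} {C : Weyl.Cert} {D : ChevalleyDatum}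
  (hC : Weyl.Good C D M)

theorem inv_word {w : List ℕ} (hw : ∀ i ∈ w, i < n) :
    hC.inv (Weyl.wOf M w) = (flipList C D w).length := by
  rw [← Sys.card_flip, flip_word hC hw, List.toFinset_card_of_nodup
    ((flipList_sorted w).imp fun h => Nat.ne_of_lt h)]

include hC in
theorem wOf_congr {v w : List ℕ} (hv : ∀ i ∈ v, i < n) (hw : ∀ i ∈ w, i < n)
    (h : ∀ r : Fin D.nroots, C.act v r.val = C.act w r.val) :
    Weyl.wOf M v = Weyl.wOf M w :=
  hC.hom_injective (Equiv.ext fun r => Fin.ext (by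
    rw [hC.hom_wOf_val hv, hC.hom_wOf_val hw, h r]))

end

variable {D : ChevalleyDatum} {K : Type*} [Field K] {Q : Chev.Data D K} (E : Endo Q)
  {ws : List (List ℕ)} {om : W' → List ℕ} {k : ℕ} {gens : Fin k → W'} {word : Fin k → List ℕ}

/-- The folded group of a checked list of words. -/
noncomputable def foldWords (hcent : H37.Fold.centCheck Q.X.C D Q.X.n E.s.T.rho ws = true)
    (h : wordsB Q.X.C D Q.X.n E.s.T.rho ws om gens word = true)
    (hgen : Subgroup.closure (Set.range gens) = ⊤) (cls : Fin k → List (List ℕ))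
    (horb : ∀ j, orbitB Q.X.C D Q.X.n E.s.T (word j) (cls j) = true) : Fold E W' :=
  have hs : (∀ a : W', ∀ i ∈ om a, i < Q.X.n) ∧ (∀ j, ∀ i ∈ word j, i < Q.X.n) ∧
      (∀ a b : W', ∀ r : Fin D.nroots,
        Q.X.C.act (om (a * b)) r.val = Q.X.C.act (om a ++ om b) r.val) ∧
      (∀ a b : W', (∀ r : Fin D.nroots, Q.X.C.act (om a) r.val = Q.X.C.act (om b) r.val) → a = b) ∧
      (∀ w ∈ ws, (∀ i ∈ w, i < Q.X.n) ∧
        ∃ a : W', ∀ r : Fin D.nroots, Q.X.C.act w r.val = Q.X.C.act (om a) r.val) ∧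
      (∀ a : W', ∀ r : Fin D.nroots, Q.X.C.act (om a) (E.s.T.rho.getD r.val 0)
        = E.s.T.rho.getD (Q.X.C.act (om a) r.val) 0) ∧
      (∀ j, gens j * gens j = 1 ∧ gens j ≠ 1 ∧
        ∀ r : Fin D.nroots, Q.X.C.act (om (gens j)) r.val = Q.X.C.act (word j) r.val) ∧
      (∀ a : W', a ≠ 1 → ∃ j, (flipList Q.X.C D (om (a * gens j))).length +
        (flipList Q.X.C D (word j)).length = (flipList Q.X.C D (om a)).length) := by
    simp only [wordsB, Bool.and_eq_true, decide_eq_true_eq] at h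
    obtain ⟨⟨⟨⟨⟨⟨⟨h1, h2⟩, h3⟩, h4⟩, h5⟩, h6⟩, h7⟩, h8⟩ := h
    exact ⟨h1, h2, h3, h4, h5, h6, h7, h8⟩
  have hmul : ∀ a b : W', Weyl.wOf Q.X.M (om (a * b))
      = Weyl.wOf Q.X.M (om a) * Weyl.wOf Q.X.M (om b) := fun a b => by
    rw [← Weyl.wOf_append]
    exact wOf_congr Q.X.good (hs.1 _) (fun i hi => by
      rcases List.mem_append.1 hi with h | h
      · exact hs.1 a i h
      · exact hs.1 b i h) (hs.2.2.1 a b)
  { ι := MonoidHom.mk' (fun a => Weyl.wOf Q.X.M (om a)) hmul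
    ι_inj := fun a b e => hs.2.2.2.1 a b fun r => by
      have e' : Weyl.wOf Q.X.M (om a) = Weyl.wOf Q.X.M (om b) := e
      have := congrArg (fun g => (Q.X.good.hom g r).val) e'
      simpa [Q.X.good.hom_wOf_val (hs.1 a), Q.X.good.hom_wOf_val (hs.1 b)] using this
    ι_range := fun w => by
      constructor
      · intro hw
        obtain ⟨v, hv, rfl⟩ := H37.Fold.mem_of_centCheck Q.X.good hcent (g := w) fun r hr => by
          have e := (E.s.tau_eq_iff w).1 hw r
          exact e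
        obtain ⟨hlt, a, ha⟩ := hs.2.2.2.2.1 v hv
        exact ⟨a, (wOf_congr Q.X.good hlt (hs.1 a) ha).symm⟩
      · rintro ⟨a, rfl⟩
        rw [E.s.tau_eq_iff]
        intro r
        show (Q.X.good.hom (Weyl.wOf Q.X.M (om a)) (E.s.perm r)).val
          = E.s.T.rh (Q.X.good.hom (Weyl.wOf Q.X.M (om a)) r).val
        rw [Q.X.good.hom_wOf_val (hs.1 a), Q.X.good.hom_wOf_val (hs.1 a), Sigma.perm_val]
        exact hs.2.2.2.2.2.1 a r
    k := k
    gens := gens
    closure_gens := hgen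
    sq_gens := fun j => (hs.2.2.2.2.2.2.1 j).1
    gens_ne := fun j => (hs.2.2.2.2.2.2.1 j).2.1
    word := word
    word_lt := hs.2.1
    ι_gens := fun j =>
      wOf_congr Q.X.good (hs.1 _) (hs.2.1 j) (hs.2.2.2.2.2.2.1 j).2.2
    orbit := fun j c hc hfix => by
      rcases orbit_of_check Q.X.good E.s (horb j) hc hfix with e | e
      · exact Or.inl e
      · exact Or.inr (e.trans (wOf_congr Q.X.good (hs.1 _) (hs.2.1 j)
          (hs.2.2.2.2.2.2.1 j).2.2).symm)
    desc := fun a ha => by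
      obtain ⟨j, hj⟩ := hs.2.2.2.2.2.2.2 a ha
      refine ⟨j, ?_⟩
      show Q.X.good.inv (Weyl.wOf Q.X.M (om (a * gens j))) +
        Q.X.good.inv (Weyl.wOf Q.X.M (om (gens j))) = Q.X.good.inv (Weyl.wOf Q.X.M (om a))
      rw [wOf_congr Q.X.good (hs.1 (gens j)) (hs.2.1 j) (hs.2.2.2.2.2.2.1 j).2.2,
        inv_word Q.X.good (hs.1 _), inv_word Q.X.good (hs.2.1 j), inv_word Q.X.good (hs.1 a)]
      exact hj }

end Cfsg.Agent.H37.Twist
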