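import Cfsg.Agent.H37.Twist.Pieces
import Cfsg.Agent.H37.Twist.Torus

/-!
Orbits of pairwise orthogonal fundamental roots: the fixed part of the subgroup, faithfulness and
perfectness criteria.
-/
set_option autoImplicit false

namespace Cfsg.Agent.H37.Twist

open Cfsg.Lie Cfsg.Agent.H37.RootSys Cfsg.Agent.H37.NormalForm
open scoped commutatorElement

variable {D : ChevalleyDatum} {K : Type*} [Field K] {Q : Chev.Data D K}

/-- An orbit of pairwise commuting fundamental root subgroups, inverted by the word of its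
reflections. -/
structure Orbit (E : Endo Q) where
  word : List ℕ
  L : List ℕ
  word_lt : ∀ a ∈ word, a < Q.X.n
  flip_eq : flipList Q.X.C D word = L
  comm : commB D L = true
  map_mem : ∀ r ∈ L, E.s.T.rh r ∈ L

namespace Orbit

variable {E : Endo Q} (O : Orbit E)

theorem sorted : O.L.Pairwise (· < ·) := O.flip_eq ▸ flipList_sorted O.word

theorem flip_set : Sys.flip Q.X.good (Weyl.wOf Q.X.M O.word) = O.L.toFinset := by
  rw [flip_word Q.X.good O.word_lt, O.flip_eq]

theorem Uw_eq : Q.sys.Uw (Weyl.wOf Q.X.M O.word) = XS Q.sys.x (↑O.L.toFinset : Set ℕ) := by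
  rw [Sys.Uw, O.flip_set]

theorem closed : Q.sys.toUnip.Closed O.L.toFinset := by
  rw [← O.flip_set]; exact Q.sys.closed_flip _

theorem lt {r : ℕ} (hr : r ∈ O.L) : r < D.nroots := by
  rw [← O.flip_eq] at hr
  simpa using (List.mem_filter.1 hr).1

theorem pos {r : ℕ} (hr : r ∈ O.L) : D.nroots / 2 ≤ r := by
  rw [← O.flip_eq] at hr
  have h := (List.mem_filter.1 hr).2
  simp only [Bool.and_eq_true, decide_eq_true_eq] at h
  exact h.1

theorem xprod_perm {L' : List ℕ} (h : L'.Perm O.L) (t : ℕ → K) :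
    xprod Q L' t = xprod Q O.L t := by
  refine List.Perm.prod_eq' (h.map _) ?_
  rw [List.pairwise_map]
  refine List.Pairwise.imp_of_mem (fun {a b} ha hb _ => ?_)
    (List.pairwise_of_forall (R := fun _ _ => True) fun _ _ => trivial)
  exact commute_xG Q O.comm (h.mem_iff.1 ha) (h.mem_iff.1 hb) _ _

theorem fixed_iff (t : ℕ → K) : E.σ (xprod Q O.L t) = xprod Q O.L t ↔
    ∀ r ∈ O.L, t (E.s.T.rh r) = E.f r (t r) :=
  E.xprod_fixed_iff O.sorted O.closed O.comm O.map_mem t

/-- A parametrisation of the fixed part. -/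
theorem param {X : Type*} (P : X → ℕ → K)
    (hfix : ∀ x, ∀ r ∈ O.L, P x (E.s.T.rh r) = E.f r (P x r))
    (hinj : ∀ x y, (∀ r ∈ O.L, P x r = P y r) → x = y)
    (hsurj : ∀ t : ℕ → K, (∀ r ∈ O.L, t (E.s.T.rh r) = E.f r (t r)) →
      ∃ x, ∀ r ∈ O.L, P x r = t r) :
    Nat.card ↥(Q.sys.Uw (Weyl.wOf Q.X.M O.word) ⊓ fixedPts E.σ) = Nat.card X ∧
    ∀ v ∈ Q.sys.Uw (Weyl.wOf Q.X.M O.word), E.σ v = v →
      ∃ x, v = xprod Q O.L (P x) := by
  have hsur : ∀ v ∈ Q.sys.Uw (Weyl.wOf Q.X.M O.word), E.σ v = v →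
      ∃ x, v = xprod Q O.L (P x) := by
    intro v hv hvf
    obtain ⟨t, rfl⟩ := exists_xprod Q O.sorted O.closed (O.Uw_eq ▸ hv)
    obtain ⟨x, hx⟩ := hsurj t ((O.fixed_iff t).1 hvf)
    exact ⟨x, xprod_congr Q fun r hr => (hx r hr).symm⟩
  refine ⟨(Nat.card_eq_of_bijective
    (fun x : X => (⟨xprod Q O.L (P x), O.Uw_eq.symm ▸ xprod_mem Q _,
      (O.fixed_iff _).2 (hfix x)⟩ :
        ↥(Q.sys.Uw (Weyl.wOf Q.X.M O.word) ⊓ fixedPts E.σ))) ⟨?_, ?_⟩).symm, hsur⟩
  · intro x y e
    exact hinj x y (xprod_inj Q O.sorted O.closed (congrArg Subtype.val e))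
  · rintro ⟨v, hv, hvf⟩
    obtain ⟨x, rfl⟩ := hsur v hv hvf
    exact ⟨x, rfl⟩

theorem xprod_conj (c : Fin D.rank → Kˣ) (t : ℕ → K) :
    tG Q c * xprod Q O.L t * (tG Q c)⁻¹ = xprod Q O.L fun r => (chT c r : K) * t r := by
  rw [← MulAut.conj_apply, xprod, map_list_prod, xprod, List.map_map]
  refine congrArg List.prod (List.map_congr_left fun r hr => ?_)
  exact tG_conj Q c (O.lt hr) (t r)

/-- A torus element commuting with the fixed element of coordinates `1`. -/
theorem commute_of_one {h : ↥(D.group K)} (hh : h ∈ Q.sys.H)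
    (hc : h * xprod Q O.L (fun _ => 1) = xprod Q O.L (fun _ => 1) * h) {r : ℕ} (hr : r ∈ O.L) :
    h * xG Q.K K r 1 = xG Q.K K r 1 * h := by
  obtain ⟨c, rfl⟩ := exists_tG Q hh
  have e := O.xprod_conj c fun _ => 1
  rw [hc, mul_inv_cancel_right] at e
  have h1 : (1 : K) = (chT c r : K) * 1 := xprod_inj Q O.sorted O.closed e r hr
  have e' := tG_conj Q c (O.lt hr) (1 : K)
  rw [← h1, mul_inv_eq_iff_eq_mul] at e'
  exact e'

theorem xprod_add (t u : ℕ → K) :
    xprod Q O.L (fun r => t r + u r) = xprod Q O.L t * xprod Q O.L u := by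
  suffices ∀ L : List ℕ, (∀ r ∈ L, r ∈ O.L) →
      xprod Q L (fun r => t r + u r) = xprod Q L t * xprod Q L u from this _ fun _ h => h
  intro L
  induction L with
  | nil => intro _; simp [xprod]
  | cons a L ih =>
      intro hL
      have ha := hL a (by simp)
      have hc : Commute (xG Q.K K a (u a)) (xprod Q L t) :=
        Commute.list_prod_right _ _ fun g hg => by
          obtain ⟨r, hr, rfl⟩ := List.mem_map.1 hg
          exact commute_xG Q O.comm ha (hL r (List.mem_cons_of_mem _ hr)) _ _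
      have hadd : xG Q.K K a (t a + u a) = xG Q.K K a (t a) * xG Q.K K a (u a) :=
        Q.sys.x_add' a (O.lt ha) _ _
      rw [xprod_cons, xprod_cons, xprod_cons, ih (fun r hr => hL r (List.mem_cons_of_mem _ hr)),
        hadd]
      calc xG Q.K K a (t a) * xG Q.K K a (u a) * (xprod Q L t * xprod Q L u)
          = xG Q.K K a (t a) * (xG Q.K K a (u a) * xprod Q L t) * xprod Q L u := by group
        _ = _ := by rw [hc.eq]; group

/-- Fixed elements of the orbit are commutators with a fixed torus element moving all its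
roots. -/
theorem mem_commutator {c : Fin D.rank → Kˣ} (hfix : E.σ (tG Q c) = tG Q c)
    (hne : ∀ r ∈ O.L, chT c r ≠ 1) {v : ↥(D.group K)}
    (hv : v ∈ Q.sys.Uw (Weyl.wOf Q.X.M O.word)) (hvf : E.σ v = v) :
    v ∈ ⁅fixedPts E.σ, fixedPts E.σ⁆ := by
  obtain ⟨s, rfl⟩ := exists_xprod Q O.sorted O.closed (O.Uw_eq ▸ hv)
  set t : ℕ → K := fun r => s r / ((chT c r : K) - 1) with ht
  have hne' : ∀ r ∈ O.L, (chT c r : K) - 1 ≠ 0 := fun r hr h =>
    hne r hr (Units.ext (sub_eq_zero.1 h))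
  have key : ∀ r ∈ O.L, (chT c r : K) * t r = t r + s r := by
    intro r hr
    have := hne' r hr
    simp only [ht]
    field_simp
    ring
  have e : tG Q c * xprod Q O.L t * (tG Q c)⁻¹ = xprod Q O.L t * xprod Q O.L s := by
    rw [O.xprod_conj, ← O.xprod_add]
    exact xprod_congr Q key
  have hpf : E.σ (xprod Q O.L t) = xprod Q O.L t := by
    have hmem : E.σ (xprod Q O.L t) ∈ XS Q.sys.x (↑O.L.toFinset : Set ℕ) :=
      E.σ_XS (fun r hr => by
        have hr' : r ∈ O.L := List.mem_toFinset.1 hr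
        exact ⟨O.lt hr', List.mem_toFinset.2 (O.map_mem r hr')⟩) (xprod_mem Q t)
    obtain ⟨t', ht'⟩ := exists_xprod Q O.sorted O.closed hmem
    rw [ht']
    refine xprod_congr Q fun r hr => ?_
    have e' := congrArg E.σ e
    rw [map_mul, map_mul, map_mul, map_inv, hfix, ht', hvf, O.xprod_conj, ← O.xprod_add] at e'
    have h1 : (chT c r : K) * t' r = t' r + s r := xprod_inj Q O.sorted O.closed e' r hr
    have h2 := key r hr
    exact mul_left_cancel₀ (hne' r hr) (by linear_combination h1 - h2)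
  have hs : xprod Q O.L s = ⁅(xprod Q O.L t)⁻¹, tG Q c⁆ := by
    rw [commutatorElement_def, inv_inv,
      show (xprod Q O.L t)⁻¹ * tG Q c * xprod Q O.L t * (tG Q c)⁻¹
        = (xprod Q O.L t)⁻¹ * (tG Q c * xprod Q O.L t * (tG Q c)⁻¹) by group, e]
    group
  rw [hs]
  exact Subgroup.commutator_mem_commutator (inv_mem (show xprod Q O.L t ∈ fixedPts E.σ from hpf))
    (show tG Q c ∈ fixedPts E.σ from hfix)

end Orbit

end Cfsg.Agent.H37.Twist
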