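import Cfsg.Agent.H37.RootSys.Bruhat

/-!
A diagram symmetry as a permutation of the root indices compatible with the fundamental
reflections, and the induced automorphism of the Weyl group.
-/
set_option autoImplicit false

namespace Cfsg.Agent.H37.Twist

open Cfsg.Lie Cfsg.Agent.H37.Weyl Cfsg.Agent.H37.RootSys

/-- Tables: the root map and the map of the fundamental indices. -/
structure Tables where
  rho : List ℕ
  pi : List ℕ

namespace Tables

variable (T : Tables)

/-- The root map. -/
def rh (r : ℕ) : ℕ := T.rho.getD r 0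

/-- The index map. -/
def p (i : ℕ) : ℕ := T.pi.getD i 0

/-- The kernel check. -/
def check (C : Cert) (D : ChevalleyDatum) (n : ℕ) : Bool :=
  decide ((((List.range D.nroots).map T.rh)).Nodup) &&
  ((List.range n).all fun i => decide (T.p i < n) && (T.rh (D.simple i) == D.simple (T.p i))) &&
  ((List.range D.nroots).all fun r =>
    decide (T.rh r < D.nroots) &&
    (decide (D.nroots / 2 ≤ T.rh r) == decide (D.nroots / 2 ≤ r)) &&
    (T.rh (D.neg r) == D.neg (T.rh r)) &&
    (List.range n).all fun i => C.sigma (T.p i) (T.rh r) == T.rh (C.sigma i r))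

end Tables

/-- A checked symmetry. -/
structure Sigma {n : ℕ} {M : CoxeterMatrix (Fin n)} {C : Cert} {D : ChevalleyDatum}
    (hC : Weyl.Good C D M) where
  T : Tables
  ok : T.check C D n = true

namespace Sigma

variable {n : ℕ} {M : CoxeterMatrix (Fin n)} {C : Cert} {D : ChevalleyDatum}
  {hC : Weyl.Good C D M} (s : Sigma hC)

theorem root_spec {r : ℕ} (hr : r < D.nroots) : s.T.rh r < D.nroots ∧
    (D.nroots / 2 ≤ s.T.rh r ↔ D.nroots / 2 ≤ r) ∧ s.T.rh (D.neg r) = D.neg (s.T.rh r) ∧
    ∀ i < n, C.sigma (s.T.p i) (s.T.rh r) = s.T.rh (C.sigma i r) := by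
  have h := s.ok
  simp only [Tables.check, Bool.and_eq_true, List.all_eq_true, List.mem_range, decide_eq_true_eq,
    beq_iff_eq, decide_eq_decide] at h
  obtain ⟨⟨⟨h1, h2⟩, h3⟩, h4⟩ := h.2 r hr
  exact ⟨h1, h2, h3, h4⟩

theorem p_spec {i : ℕ} (hi : i < n) : s.T.p i < n ∧ s.T.rh (D.simple i) = D.simple (s.T.p i) := by
  have h := s.ok
  simp only [Tables.check, Bool.and_eq_true, List.all_eq_true, List.mem_range, decide_eq_true_eq,
    beq_iff_eq] at h
  exact h.1.2 i hi

theorem rh_inj {r r' : ℕ} (hr : r < D.nroots) (hr' : r' < D.nroots) (h : s.T.rh r = s.T.rh r') :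
    r = r' := by
  have hok := s.ok
  simp only [Tables.check, Bool.and_eq_true, decide_eq_true_eq] at hok
  exact List.inj_on_of_nodup_map hok.1.1 (List.mem_range.2 hr) (List.mem_range.2 hr') h

/-- The permutation of the roots. -/
noncomputable def perm : Equiv.Perm (Fin D.nroots) :=
  Equiv.ofBijective (fun r => ⟨s.T.rh r.val, (s.root_spec r.isLt).1⟩)
    (Finite.injective_iff_bijective.1 fun a b h =>
      Fin.ext (s.rh_inj a.isLt b.isLt (congrArg Fin.val h)))

@[simp] theorem perm_val (r : Fin D.nroots) : (s.perm r).val = s.T.rh r.val := rfl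

theorem perm_gen {i : ℕ} (hi : i < n) :
    hC.hom (gen M (s.T.p i)) = s.perm * hC.hom (gen M i) * s.perm⁻¹ := by
  rw [eq_mul_inv_iff_mul_eq]
  ext r
  rw [Equiv.Perm.mul_apply, Equiv.Perm.mul_apply, hC.hom_gen_val (s.p_spec hi).1, perm_val,
    perm_val, hC.hom_gen_val hi]
  exact (s.root_spec r.isLt).2.2.2 i hi

theorem gen_fin (i : Fin n) : gen M i.val = M.simple i := by simp [gen]

theorem liftable : M.IsLiftable fun i : Fin n => gen M (s.T.p i.val) := by
  intro i j
  apply hC.hom_injective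
  rw [map_pow, map_mul, s.perm_gen i.isLt, s.perm_gen j.isLt, map_one,
    show s.perm * hC.hom (gen M i.val) * s.perm⁻¹ * (s.perm * hC.hom (gen M j.val) * s.perm⁻¹)
      = s.perm * (hC.hom (gen M i.val) * hC.hom (gen M j.val)) * s.perm⁻¹ by group,
    conj_pow, ← map_mul, ← map_pow, gen_fin, gen_fin]
  have h1 : (M.simple i * M.simple j) ^ M i j = 1 :=
    M.toCoxeterSystem.simple_mul_simple_pow i j
  rw [h1, map_one, mul_one, mul_inv_cancel]

/-- The automorphism of the Weyl group. -/
def tau : M.Group →* M.Group := M.toCoxeterSystem.lift ⟨_, s.liftable⟩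

theorem tau_gen {i : ℕ} (hi : i < n) : s.tau (gen M i) = gen M (s.T.p i) := by
  have : gen M i = M.simple ⟨i, hi⟩ := gen_fin ⟨i, hi⟩
  rw [this]
  exact M.toCoxeterSystem.lift_apply_simple s.liftable ⟨i, hi⟩

theorem hom_tau (w : M.Group) : hC.hom (s.tau w) = s.perm * hC.hom w * s.perm⁻¹ := by
  induction w using M.toCoxeterSystem.simple_induction_left with
  | one => simp
  | mul_simple_left w i ih =>
      have hg : M.toCoxeterSystem.simple i = gen M i.val := (gen_fin i).symm
      rw [hg, map_mul, map_mul, ih, s.tau_gen i.isLt, s.perm_gen i.isLt, map_mul]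
      group

theorem hom_tau_apply (w : M.Group) (r : Fin D.nroots) :
    hC.hom (s.tau w) (s.perm r) = s.perm (hC.hom w r) := by
  rw [s.hom_tau]; simp

theorem tau_eq_iff (w : M.Group) : s.tau w = w ↔
    ∀ r : Fin D.nroots, (hC.hom w (s.perm r)).val = s.T.rh (hC.hom w r).val := by
  constructor
  · intro h r
    have := s.hom_tau_apply w r
    rw [h] at this
    rw [this, perm_val]
  · intro h
    apply hC.hom_injective
    rw [s.hom_tau, mul_inv_eq_iff_eq_mul]
    ext r
    simpa using (h r).symm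

theorem mem_flip_tau {w : M.Group} {r : ℕ} (hr : r ∈ Sys.flip hC w) :
    s.T.rh r ∈ Sys.flip hC (s.tau w) := by
  obtain ⟨h1, h2, h3⟩ := Sys.mem_flip.1 hr
  refine Sys.mem_flip.2 ⟨(s.root_spec h1).1, (s.root_spec h1).2.1.2 h2, ?_⟩
  have := s.hom_tau_apply w ⟨r, h1⟩
  have e : (⟨s.T.rh r, (s.root_spec h1).1⟩ : Fin D.nroots) = s.perm ⟨r, h1⟩ := rfl
  rw [e, this, perm_val]
  by_contra hcon
  have := (s.root_spec (Fin.isLt (hC.hom w ⟨r, h1⟩))).2.1.1 (by omega)
  omega

end Sigma

end Cfsg.Agent.H37.Twist
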